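import Cfsg.Agent.Lib.FusionCrit.Pairs
import Cfsg.Agent.Lib.FusionNormalCent.Existence
import Cfsg.Agent.Lib.FusionInner.Basic
import Cfsg.Agent.Lib.FusionProduct.Extend

/-
The product `E R` of a normal subsystem `E` over `T` with `T ≤ R ≤ S`: the automorphism groups `Ac W`
(trivial modulo `T`, in `E` on `W ⊓ T`), their subgroups `NP`, `BP`, and pairs of fully normalised subgroups.
Main results (namespace `Cfsg.Agent.FusionProdR`): `PSys`, `Ac`, `NP`, `BP`, `InH`, `TFN`, `PSys.ac_congr`,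
`PSys.exists_fn_pair`.
-/

set_option autoImplicit false

namespace Cfsg.Agent.FusionProdR

open Cfsg Cfsg.Agent.Fusion
open Cfsg.FusionSystem hiding inv_mem
open Cfsg.Agent.FusionCrit (autFn_mul autFn_inv_self autFn_self_inv)

variable {Ω : Type*} [Group Ω] {S T : Subgroup Ω} {p : ℕ}

/-- A normal subsystem of a saturated system. -/
structure PSys (F : FusionSystem S) (p : ℕ) (E : FusionSystem T) : Prop where
  pgroup : IsPGroup p S
  sat : F.IsSaturated p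
  normal : E.IsNormalIn F p

/-- Automorphisms in `F` trivial modulo `T` whose restriction to `W ⊓ T` is in `E`. -/
def Ac (F : FusionSystem S) (E : FusionSystem T) (W : Subgroup Ω) : Subgroup (MulAut W) where
  carrier := {a | a ∈ F.autGroup W ∧ (∀ x ∈ W, x⁻¹ * autFn a x ∈ T) ∧ IsMap E (W ⊓ T) (autFn a)}
  one_mem' := ⟨one_mem _, fun x hx => by rw [autFn_apply _ hx]; simp,
    (Fusion.IsMap.id inf_le_right).congr fun x hx => by rw [autFn_apply _ hx.1]; rfl⟩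
  mul_mem' := fun {a b} ha hb => ⟨mul_mem ha.1 hb.1, fun x hx => by
      rw [autFn_mul _ _ hx, show x⁻¹ * autFn a (autFn b x) =
        (x⁻¹ * autFn b x) * ((autFn b x)⁻¹ * autFn a (autFn b x)) by group]
      exact mul_mem (hb.2.1 x hx) (ha.2.1 _ (autFn_mem b hx)),
    (hb.2.2.comp ha.2.2 fun x hx => Subgroup.mem_inf.2 ⟨autFn_mem b hx.1, by
      have h := T.mul_mem hx.2 (hb.2.1 x hx.1)
      rwa [mul_inv_cancel_left] at h⟩).congr fun x hx => (autFn_mul a b hx.1).symm⟩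
  inv_mem' := fun {a} ha => by
    have hmem : ∀ y ∈ W ⊓ T, autFn a⁻¹ y ∈ W ⊓ T := fun y hy => by
      refine Subgroup.mem_inf.2 ⟨autFn_mem _ hy.1, ?_⟩
      have h := ha.2.1 _ (autFn_mem a⁻¹ hy.1)
      rw [autFn_self_inv a hy.1] at h
      have h' := T.mul_mem hy.2 (T.inv_mem h)
      rwa [mul_inv_rev, inv_inv, mul_inv_cancel_left] at h'
    refine ⟨inv_mem ha.1, fun x hx => ?_, ?_⟩
    · have h := ha.2.1 _ (autFn_mem a⁻¹ hx)
      rw [autFn_self_inv a hx] at h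
      have h' := T.inv_mem h
      rwa [mul_inv_rev, inv_inv] at h'
    · have hI : IsIso E (W ⊓ T) (W ⊓ T) (autFn a) := ⟨ha.2.2,
        IsIso.img_eq_of ha.2.2 le_rfl (fun x hx => Subgroup.mem_inf.2 ⟨autFn_mem a hx.1, by
          have h := T.mul_mem hx.2 (ha.2.1 x hx.1)
          rwa [mul_inv_cancel_left] at h⟩)
          fun y hy => ⟨autFn a⁻¹ y, hmem y hy, autFn_self_inv a hy.1⟩⟩
      obtain ⟨g, hg, hga, -⟩ := hI.symm
      refine hg.1.congr fun y hy => ?_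
      have h1 := hga _ (hmem y hy)
      rwa [autFn_self_inv a hy.1] at h1

theorem mem_Ac {F : FusionSystem S} {E : FusionSystem T} {W : Subgroup Ω} {a : MulAut W} :
    a ∈ Ac F E W ↔
      a ∈ F.autGroup W ∧ (∀ x ∈ W, x⁻¹ * autFn a x ∈ T) ∧ IsMap E (W ⊓ T) (autFn a) := Iff.rfl

/-- The group generated by the elements of order prime to `p` of `Ac`. -/
def NP (F : FusionSystem S) (p : ℕ) (E : FusionSystem T) (W : Subgroup Ω) : Subgroup (MulAut W) :=
  Subgroup.closure {a | a ∈ Ac F E W ∧ (orderOf a).Coprime p}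

/-- The automizer of the product with `R`. -/
def BP (F : FusionSystem S) (p : ℕ) (E : FusionSystem T) (R W : Subgroup Ω) : Subgroup (MulAut W) :=
  NP F p E W ⊔ autInducedBy R W

/-- The family on which the product is generated. -/
def InH (E : FusionSystem T) (R W : Subgroup Ω) : Prop :=
  W ≤ R ∧ E.IsCentric (W ⊓ T)

/-- The normalizer in `T` has maximal order in the class. -/
def TFN (F : FusionSystem S) (T W : Subgroup Ω) : Prop :=
  W ≤ S ∧ ∀ W' : Subgroup Ω, F.IsConj W W' →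
    Nat.card (normalizerIn T W') ≤ Nat.card (normalizerIn T W)

variable {F : FusionSystem S} {E : FusionSystem T}

theorem NP_le_Ac (W : Subgroup Ω) : NP F p E W ≤ Ac F E W :=
  (Subgroup.closure_le _).2 fun _ h => h.1

theorem mem_NP {W : Subgroup Ω} {a : MulAut W} (ha : a ∈ Ac F E W) (hc : (orderOf a).Coprime p) :
    a ∈ NP F p E W :=
  Subgroup.subset_closure ⟨ha, hc⟩

namespace PSys

variable (h : PSys F p E)

include h

theorem inv : E.IsInvariantIn F := h.normal.1.2.2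

theorem esat : E.IsSaturated p := h.normal.1.1

theorem cT : F.StronglyClosed T := h.inv.2.1

theorem T_le : T ≤ S := h.cT.1

theorem pT : IsPGroup p T := h.pgroup.to_le h.T_le

theorem conj_T {s t : Ω} (hs : s ∈ S) (ht : t ∈ T) : s * t * s⁻¹ ∈ T :=
  FusionChain.conj_mem_of_stronglyClosed h.cT hs ht

theorem conj_T_inv {s t : Ω} (hs : s ∈ S) (ht : t ∈ T) : s⁻¹ * t * s ∈ T := by
  have := h.conj_T (S.inv_mem hs) ht
  rwa [inv_inv] at this

theorem map_T {P : Subgroup Ω} {f : Ω → Ω} (hf : IsMap F P f) {x : Ω} (hx : x ∈ P) (hxT : x ∈ T) :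
    f x ∈ T :=
  FusionChain.isMap_mem_of_stronglyClosed h.cT hf hx hxT

/-- An isomorphism restricts to the parts inside `T`. -/
theorem iso_inf {P Q : Subgroup Ω} {f : Ω → Ω} (hf : IsIso F P Q f) :
    IsIso F (P ⊓ T) (Q ⊓ T) f := by
  refine ⟨hf.1.mono inf_le_left, IsIso.img_eq_of hf.1 inf_le_left
    (fun x hx => Subgroup.mem_inf.2 ⟨hf.mem hx.1, h.map_T hf.1 hx.1 hx.2⟩) fun y hy => ?_⟩
  obtain ⟨g, hg, -, hgr⟩ := hf.symm
  exact ⟨g y, Subgroup.mem_inf.2 ⟨hg.mem hy.1, h.map_T hg.1 hy.1 hy.2⟩, hgr y hy.1⟩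

/-- A normalizer of `W` normalizes `W ⊓ T`. -/
theorem normalizer_inf {W : Subgroup Ω} {g : Ω} (hg : g ∈ normalizerIn S W) :
    g ∈ normalizerIn S (W ⊓ T) := by
  refine mem_normalizerIn.2 ⟨hg.1, fun x => ⟨fun hx => Subgroup.mem_inf.2
    ⟨normalizerIn_conj hg hx.1, h.conj_T hg.1 hx.2⟩, fun hx => Subgroup.mem_inf.2 ⟨?_, ?_⟩⟩⟩
  · exact ((mem_normalizerIn.1 hg).2 x).2 hx.1
  · have := h.conj_T_inv hg.1 hx.2
    rwa [show g⁻¹ * (g * x * g⁻¹) * g = x by group] at this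

theorem ac_congr {P Q : Subgroup Ω} {f : Ω → Ω} (hf : IsIso F P Q f) {a : MulAut P}
    (ha : a ∈ Ac F E P) : MulAut.congr hf.equiv a ∈ Ac F E Q := by
  obtain ⟨haF, had, haE⟩ := ha
  have hdef : ∀ x (hx : x ∈ P), autFn (MulAut.congr hf.equiv a) (f x) = f (autFn a x) := fun x hx => by
    rw [autFn_apply _ (hf.mem hx), autFn_apply a hx]
    exact congr_apply_coe hf a ⟨x, hx⟩
  refine ⟨Fusion.congr_mem_autGroup hf haF, fun y hy => ?_, ?_⟩
  · obtain ⟨x, hx, rfl⟩ := hf.exists_eq hy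
    rw [hdef x hx, ← hf.1.map_inv hx, ← hf.1.map_mul (inv_mem hx) (autFn_mem a hx)]
    exact h.map_T hf.1 (mul_mem (inv_mem hx) (autFn_mem a hx)) (had x hx)
  · have hPT : P ⊓ T ≤ T := inf_le_right
    have hi := h.iso_inf hf
    have hmem : ∀ x ∈ P ⊓ T, autFn a x ∈ P ⊓ T := fun x hx => Subgroup.mem_inf.2
      ⟨autFn_mem a hx.1, by
        have h1 := T.mul_mem hx.2 (had x hx.1)
        rwa [mul_inv_cancel_left] at h1⟩
    have hI : IsIso E (P ⊓ T) (P ⊓ T) (autFn a) := ⟨haE, IsIso.img_eq_of haE le_rfl hmem fun y hy => by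
      refine ⟨autFn a⁻¹ y, Subgroup.mem_inf.2 ⟨autFn_mem _ hy.1, ?_⟩, autFn_self_inv a hy.1⟩
      have h1 := had _ (autFn_mem a⁻¹ hy.1)
      rw [autFn_self_inv a hy.1] at h1
      have h2 := T.mul_mem hy.2 (T.inv_mem h1)
      rwa [mul_inv_rev, inv_inv, mul_inv_cancel_left] at h2⟩
    obtain ⟨b, hb, hbe⟩ := exists_aut_of_isIso hI
    have hb' := (mem_autGroup_iff inf_le_right).1 (FusionNormal.congr_mem_autGroup h.inv hi hPT hb)
    refine hb'.congr fun y hy => ?_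
    obtain ⟨x, hx, rfl⟩ := hi.exists_eq hy
    rw [autFn_apply _ (hi.mem hx), hdef x hx.1, ← hbe ⟨x, hx⟩]
    exact congr_apply_coe hi b ⟨x, hx⟩

theorem ac_congr_iff {P Q : Subgroup Ω} {f : Ω → Ω} (hf : IsIso F P Q f) {a : MulAut P} :
    MulAut.congr hf.equiv a ∈ Ac F E Q ↔ a ∈ Ac F E P := by
  refine ⟨fun ha => ?_, h.ac_congr hf⟩
  obtain ⟨g, hg, hgl, -⟩ := hf.symm
  have e : MulAut.congr hg.equiv (MulAut.congr hf.equiv a) = a := by
    refine MulEquiv.ext fun y => ?_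
    obtain ⟨x, rfl⟩ := hg.equiv.surjective y
    obtain ⟨z, rfl⟩ := hf.equiv.surjective x
    refine Subtype.ext ?_
    rw [congr_apply_coe, congr_apply_coe, hgl _ (a z).2]
    congr 1
    refine congrArg a (Subtype.ext ?_)
    rw [IsIso.equiv_apply, IsIso.equiv_apply, hgl _ z.2]
  exact e ▸ h.ac_congr hg ha

theorem ac_normal {W : Subgroup Ω} (hW : W ≤ S) {g a : MulAut W} (hg : g ∈ F.autGroup W)
    (ha : a ∈ Ac F E W) : g * a * g⁻¹ ∈ Ac F E W := by
  have hi := isIso_autFn hW hg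
  have e : MulAut.congr hi.equiv a = g * a * g⁻¹ := by
    refine MulEquiv.ext fun y => ?_
    obtain ⟨x, rfl⟩ := hi.equiv.surjective y
    refine Subtype.ext ?_
    have e1 : hi.equiv x = g x := Subtype.ext ((hi.equiv_apply x).trans (autFn_apply g x.2))
    rw [congr_apply_coe, e1, MulAut.mul_apply, MulAut.mul_apply, MulAut.inv_apply_self,
      autFn_apply g (a x).2]
  exact e ▸ h.ac_congr hi ha

theorem autT_le_Ac {W : Subgroup Ω} (hW : W ≤ S) : autInducedBy T W ≤ Ac F E W := fun a ha => by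
  obtain ⟨t, ht, hte⟩ := mem_autInducedBy_iff.1 ha
  refine ⟨autInducedBy_le_autGroup F h.T_le hW ha, fun x hx => ?_, ?_⟩
  · rw [autFn_apply a hx, hte, show x⁻¹ * (t * x * t⁻¹) = x⁻¹ * t * x * t⁻¹ by group]
    exact T.mul_mem (h.conj_T_inv (hW hx) ht) (T.inv_mem ht)
  · exact (Fusion.IsMap.conj inf_le_right ht).congr fun x hx => by rw [autFn_apply a hx.1, hte]

theorem NP_congr {P Q : Subgroup Ω} {f : Ω → Ω} (hf : IsIso F P Q f) :
    (NP F p E P).map (MulAut.congr hf.equiv).toMonoidHom = NP F p E Q := by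
  rw [NP, MonoidHom.map_closure, NP]
  congr 1
  ext β
  constructor
  · rintro ⟨α, ⟨hα, hc⟩, rfl⟩
    exact ⟨h.ac_congr hf hα, ((MulAut.congr hf.equiv).orderOf_eq α).symm ▸ hc⟩
  · rintro ⟨hβ, hc⟩
    obtain ⟨α, rfl⟩ := (MulAut.congr hf.equiv).surjective β
    exact ⟨α, ⟨(h.ac_congr_iff hf).1 hβ, (MulAut.congr hf.equiv).orderOf_eq α ▸ hc⟩, rfl⟩

theorem NP_normal {W : Subgroup Ω} (hW : W ≤ S) {g a : MulAut W} (hg : g ∈ F.autGroup W)
    (ha : a ∈ NP F p E W) : g * a * g⁻¹ ∈ NP F p E W := by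
  have hle : (NP F p E W).map (MulAut.conj g).toMonoidHom ≤ NP F p E W := by
    rw [NP, MonoidHom.map_closure, Subgroup.closure_le]
    rintro _ ⟨b, ⟨hb, hc⟩, rfl⟩
    exact Subgroup.subset_closure ⟨h.ac_normal hW hg hb, ((MulAut.conj g).orderOf_eq b).symm ▸ hc⟩
  exact hle ⟨a, ha, rfl⟩

theorem inH_iso {R R' P Q : Subgroup Ω} {f : Ω → Ω} (hP : InH E R P) (hf : IsIso F P Q f)
    (hQ : Q ≤ R') : InH E R' Q :=
  ⟨hQ, FusionNormalCent.centric_of_conj h.inv hP.2 (isConj_iff.2 ⟨f, h.iso_inf hf⟩)⟩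

variable [Finite S] [Fact p.Prime]

omit [Fact p.Prime] in
theorem finT : Finite T := finite_of_le h.T_le

/-- A class has a member which is fully normalised together with its part inside `T`. -/
theorem exists_fn_pair {W : Subgroup Ω} (hW : W ≤ S) :
    ∃ W' u, IsMap F (normalizerIn S W) u ∧ img u W = W' ∧
      (∀ x ∈ normalizerIn S W, u x ∈ normalizerIn S W') ∧
      F.IsFullyNormalized W' ∧ F.IsFullyNormalized (W' ⊓ T) := by
  obtain ⟨W₀, u₀, hW₀, hu₀, hu₀W, hu₀N⟩ := exists_fullyNormalized_map h.pgroup h.sat hW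
  obtain ⟨Q₁, u₁, hQ₁, hu₁, hu₁Q, -⟩ :=
    exists_fullyNormalized_map h.pgroup h.sat (inf_le_left.trans hW₀.1 : W₀ ⊓ T ≤ S)
  have hle : normalizerIn S W₀ ≤ normalizerIn S (W₀ ⊓ T) := fun g hg => h.normalizer_inf hg
  have hu₁' := hu₁.mono hle
  have hW₀N : W₀ ≤ normalizerIn S W₀ := le_normalizerIn hW₀.1
  have hWN : W ≤ normalizerIn S W := le_normalizerIn hW
  set W₁ := img u₁ W₀
  have hN₁ : ∀ x ∈ normalizerIn S W₀, u₁ x ∈ normalizerIn S W₁ := fun x hx =>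
    map_normalizerIn hu₁' hW₀N rfl hx hx
  have hi : IsIso F W₀ W₁ u₁ := ⟨hu₁'.mono hW₀N, rfl⟩
  have hQ : W₁ ⊓ T = Q₁ := (h.iso_inf hi).2.symm.trans hu₁Q
  have hi₀ : IsIso F W W₀ u₀ := ⟨hu₀.mono hWN, hu₀W⟩
  refine ⟨W₁, fun x => u₁ (u₀ x), hu₀.comp hu₁' hu₀N, (hi₀.trans hi).2,
    fun x hx => hN₁ _ (hu₀N x hx), ⟨hi.le_right, fun Q hQc => ?_⟩, hQ.symm ▸ hQ₁⟩
  refine (hW₀.2 Q (isConj_trans (isConj_iff.2 ⟨u₁, hi⟩) hQc)).trans ?_
  rw [← hu₁'.card_img le_rfl]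
  have := finite_of_le (S := S) (P := normalizerIn S W₁) inf_le_left
  exact Subgroup.card_le_of_le (hu₁'.img_le le_rfl hN₁)

end PSys

end Cfsg.Agent.FusionProdR
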