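import Cfsg.Agent.Lib.FusionProdR.Frattini
import Cfsg.Agent.Lib.FusionCrit.Basic

/-
The automizer of a universal member of a conjugacy class in the generated system of the product with `R`.
Main results (namespace `Cfsg.Agent.FusionProdR`): `PSys.pgen_split`, `PSys.pgen_agree`, `PSys.chain_of_gen`,
`PSys.far_weaken`, `PSys.autGroup_le_BP`, `PSys.exists_member_TFN`.
-/

set_option autoImplicit false
set_option linter.unusedSectionVars false

namespace Cfsg.Agent.FusionProdR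

open Cfsg Cfsg.Agent.Fusion
open Cfsg.FusionSystem hiding inv_mem
open Cfsg.Agent.FusionCrit (stab mem_stab restr restr_apply autFn_mul autFn_inv_self autFn_self_inv
  FAR Chain ClassHyp IsUniversal)

variable {Ω : Type*} [Group Ω] {S T : Subgroup Ω} {F : FusionSystem S} {p : ℕ}
  {E : FusionSystem T} {R : Subgroup Ω}

theorem autFn_one_apply {P : Subgroup Ω} {x : Ω} (hx : x ∈ P) : autFn (1 : MulAut P) x = x := by
  rw [autFn_apply _ hx]
  rfl

namespace PSys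

variable [Finite S] [Fact p.Prime] (h : PSys F p E) (hTR : T ≤ R) (hRS : R ≤ S)

include h hRS

omit [Fact p.Prime] in
/-- A generated map factors through pieces of larger order and an element of `NP`. -/
theorem pgen_split (k : ℕ) {P : Subgroup Ω} {f : Ω → Ω} (hf : PGen F p E R R 0 P f)
    (hk : Nat.card P = k) :
    ∃ g, PGen F p E R R k P g ∧ ∃ n ∈ NP F p E P, ∀ x ∈ P, f x = g (autFn n x) := by
  induction hf with
  | @aut P Q n hc _ hn hp hPQ =>
    rcases Nat.lt_or_ge k (Nat.card Q) with hlt | hge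
    · exact ⟨autFn n, PGen.aut hc hlt hn hp hPQ, 1, one_mem _, fun x hx => by rw [autFn_one_apply hx]⟩
    · obtain rfl : P = Q := eq_of_le_of_card (hc.1.trans hRS) hPQ (by omega)
      exact ⟨fun x => x, PGen.id hc.1, n, Subgroup.subset_closure ⟨hn, hp⟩, fun _ _ => rfl⟩
  | @conj P r hP hr =>
    exact ⟨_, PGen.conj hP hr, 1, one_mem _, fun x hx => by rw [autFn_one_apply hx]⟩
  | @comp P f₁ f₂ h₁ h₂ ih₁ ih₂ =>
    have hF := amb_self (F := F) (p := p) (E := E) hRS le_rfl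
    have hm₁ := h₁.isMap hF
    obtain ⟨g₁, hg₁, n₁, hn₁, e₁⟩ := ih₁ hk
    obtain ⟨g₂, hg₂, n₂, hn₂, e₂⟩ := ih₂ (by rw [hm₁.card_img le_rfl, hk])
    have hgm := hg₁.isMap hF
    have himg : img g₁ P = img f₁ P := by
      refine IsIso.img_eq_of hgm le_rfl (fun y hy => ?_) fun z hz => ?_
      · have h := hm₁.mem_img (Q := P) (autFn_mem n₁⁻¹ hy)
        rwa [e₁ _ (autFn_mem n₁⁻¹ hy), autFn_self_inv n₁ hy] at h
      · obtain ⟨x, hx, rfl⟩ := (hm₁.mem_img_iff le_rfl).1 hz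
        exact ⟨autFn n₁ x, autFn_mem n₁ hx, (e₁ x hx).symm⟩
    have hiso : IsIso F P (img f₁ P) g₁ := ⟨hgm, himg⟩
    obtain ⟨n₃, hn₃, hn₃e⟩ := (h.NP_congr hiso).ge hn₂
    refine ⟨fun x => g₂ (g₁ x), PGen.comp hg₁ (himg.symm ▸ hg₂), n₃ * n₁, mul_mem hn₃ hn₁, fun x hx => ?_⟩
    show f₂ (f₁ x) = g₂ (g₁ (autFn (n₃ * n₁) x))
    have hn₁x := autFn_mem n₁ hx
    rw [e₂ _ (hm₁.mem_img hx), e₁ x hx, autFn_mul _ _ hx, autFn_apply n₃ hn₁x,
      autFn_apply n₂ (hiso.mem hn₁x), ← hn₃e]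
    exact congrArg g₂ (congr_apply_coe hiso n₃ ⟨_, hn₁x⟩)
  | @congr P f₁ f₂ _ e ih =>
    obtain ⟨g, hg, n, hn, he⟩ := ih hk
    exact ⟨g, hg, n, hn, fun x hx => (e x hx).symm.trans (he x hx)⟩

omit [Fact p.Prime] in
/-- On subgroups of order greater than `k` the pieces of order greater than `k` suffice. -/
theorem pgen_agree (k : ℕ) {P : Subgroup Ω} {f : Ω → Ω} (hf : PGen F p E R R 0 P f)
    (hk : k < Nat.card P) : PGen F p E R R k P f := by
  induction hf with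
  | @aut P Q n hc _ hn hp hPQ =>
    have := finite_of_le (S := S) (hc.1.trans hRS)
    exact PGen.aut hc (hk.trans_le (Subgroup.card_le_of_le hPQ)) hn hp hPQ
  | conj hP hr => exact PGen.conj hP hr
  | @comp P f₁ f₂ h₁ h₂ ih₁ ih₂ =>
    exact PGen.comp (ih₁ hk) (ih₂ (by rwa [(h₁.isMap (amb_self (F := F) (p := p) (E := E) hRS le_rfl)).card_img le_rfl]))
  | congr _ e ih => exact (ih hk).congr e

theorem isMap_weaken {k : ℕ} {P : Subgroup Ω} {f : Ω → Ω} (hf : IsMap (prodSys F p E hRS k) P f) :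
    IsMap (prodSys F p E hRS 0) P f :=
  isMap_prodSys.2 ((isMap_prodSys.1 hf).weaken (Nat.zero_le k))

omit [Fact p.Prime] in
theorem isMap_agree {k : ℕ} {P : Subgroup Ω} {f : Ω → Ω} (hf : IsMap (prodSys F p E hRS 0) P f)
    (hk : k < Nat.card P) : IsMap (prodSys F p E hRS k) P f :=
  isMap_prodSys.2 (h.pgen_agree hRS k (isMap_prodSys.1 hf) hk)

omit [Fact p.Prime] in
theorem isMap_F {k : ℕ} {P : Subgroup Ω} {f : Ω → Ω} (hf : IsMap (prodSys F p E hRS k) P f) : IsMap F P f :=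
  (isMap_prodSys.1 hf).isMap (amb_self (F := F) (p := p) (E := E) hRS le_rfl)

omit [Fact p.Prime] in
theorem isConj_F {k : ℕ} {P Q : Subgroup Ω} (hc : (prodSys F p E hRS k).IsConj P Q) : F.IsConj P Q := by
  obtain ⟨f, hf⟩ := isConj_iff.1 hc
  exact isConj_iff.2 ⟨f, h.isMap_F hRS hf.1, hf.2⟩

omit [Fact p.Prime] in
/-- A map all of whose pieces are larger than the member is a chain. -/
theorem chain_of_gen {k : ℕ} {P : Subgroup Ω} (hlt : P < R)
    (hne : ∀ Q : Subgroup Ω, F.IsConj P Q → InH E R Q → ¬ k < Nat.card Q)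
    {M : Subgroup Ω} {f : Ω → Ω} (hf : PGen F p E R R k M f) :
    F.IsConj P M → Chain (prodSys F p E hRS k) M f := by
  induction hf with
  | @aut M Q n hc hk hn hp hMQ =>
    intro hM
    exact Chain.step (isMap_prodSys.2 (PGen.aut hc hk hn hp le_rfl))
      (lt_of_le_of_ne hMQ fun e => hne M hM (e ▸ hc) (e ▸ hk))
  | @conj M r hM' hr =>
    intro hM
    refine Chain.step (isMap_prodSys.2 (PGen.conj le_rfl hr)) (lt_of_le_of_ne hM' fun e => ?_)
    obtain ⟨g, hg⟩ := isConj_iff.1 hM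
    exact hlt.ne (eq_of_le_of_card hRS hlt.le (by rw [← hg.card_eq, e]))
  | @comp M f₁ f₂ h₁ h₂ ih₁ ih₂ =>
    intro hM
    exact Chain.comp (ih₁ hM)
      (ih₂ (isConj_trans hM (isConj_iff.2 ⟨f₁, (h₁.isMap (amb_self (F := F) (p := p) (E := E) hRS le_rfl)).isIso⟩)))
  | @congr M f₁ f₂ _ e ih => exact fun hM => Chain.congr (ih hM) e

/-- A good member of the full system stays good in the restricted one, for larger subgroups. -/
theorem far_weaken {k : ℕ} {W : Subgroup Ω} (hk : k < Nat.card W)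
    (hW : FAR (prodSys F p E hRS 0) p W) : FAR (prodSys F p E hRS k) p W := by
  have := finite_of_le hRS
  have hWR : W ≤ R := hW.2.1
  have haut : (prodSys F p E hRS k).autGroup W = (prodSys F p E hRS 0).autGroup W :=
    Subgroup.ext fun α => ⟨fun hα => (mem_autGroup_iff hWR).2 (h.isMap_weaken hRS ((mem_autGroup_iff hWR).1 hα)),
      fun hα => (mem_autGroup_iff hWR).2 (h.isMap_agree hRS ((mem_autGroup_iff hWR).1 hα) hk)⟩
  refine ⟨isFullyAutomized_iff.2 ⟨hWR, ?_⟩, isReceptive_iff.2 ⟨hWR, fun P φ hφ => ?_⟩⟩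
  · rw [haut]
    exact (isFullyAutomized_iff.1 hW.1).2
  · obtain ⟨f', hf', he⟩ := (isReceptive_iff.1 hW.2).2 P φ ⟨h.isMap_weaken hRS hφ.1, hφ.2⟩
    refine ⟨f', h.isMap_agree hRS hf' (hk.trans_le ?_), he⟩
    rw [hφ.card_eq]
    have := finite_of_le (S := R) (P := Nx R P φ) hf'.le
    exact Subgroup.card_le_of_le (le_Nx hφ.1)

include hTR in
/-- Restrictions to a member of automorphisms of a larger subgroup land in `BP`. -/
theorem stab_res {k : ℕ} {U W M : Subgroup Ω} (hMW : M ≤ W) (hW : W ≤ R)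
    (hB : IsSylowIn p (autInducedBy R W ⊓ stab W M) ((prodSys F p E hRS k).autGroup W ⊓ stab W M))
    {χ : MulAut W} (hχ : χ ∈ (prodSys F p E hRS k).autGroup W) (hχs : χ ∈ stab W M) {v : Ω → Ω}
    (hvm : IsMap (prodSys F p E hRS k) (normalizerIn R M) v) (hv : IsIso F M U v) :
    MulAut.congr hv.equiv (restr hMW ⟨χ, hχs⟩) ∈ BP F p E R U := by
  have hfR := finite_of_le hRS
  have := finite_mulAut (S := R) hW
  let st := stab W M
  let G : Subgroup st := ((prodSys F p E hRS k).autGroup W).subgroupOf st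
  let H : Subgroup st :=
    (BP F p E R U).comap ((MulAut.congr hv.equiv).toMonoidHom.comp (restr hMW))
  suffices hle : G ≤ H from hle (show (⟨χ, hχs⟩ : st) ∈ G from hχ)
  have hB' : IsSylowIn p ((autInducedBy R W).subgroupOf st) G := by
    have h1 := hB.subgroupOf (W := st) inf_le_right
    rwa [Subgroup.inf_subgroupOf_right, Subgroup.inf_subgroupOf_right] at h1
  refine FusionNormal.autGroup_le_of_sylow_pResidual hB' (fun b hb => ?_) fun g hg hgc => ?_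
  · obtain ⟨r, hr, hre⟩ := mem_autInducedBy_iff.1 (hb : (b : MulAut W) ∈ autInducedBy R W)
    simp only [Subgroup.subtype_apply] at hre
    have hrN : r ∈ normalizerIn R M := by
      have := finite_of_le (S := R) (hMW.trans hW)
      refine mem_normalizerIn_of_conj hr fun y hy => ?_
      rw [← hre ⟨y, hMW hy⟩]
      exact (b.2 _).2 hy
    refine Subgroup.mem_sup_right (mem_autInducedBy_iff.2
      ⟨v r, (isMap_prodSys.1 hvm).mem (amb_self (F := F) (p := p) (E := E) hRS le_rfl) r hrN, fun y => ?_⟩)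
    obtain ⟨x, rfl⟩ := hv.equiv.surjective y
    show ((MulAut.congr hv.equiv (restr hMW b) (hv.equiv x) : U) : Ω) = _
    rw [congr_apply_coe, IsIso.equiv_apply, restr_apply, hre ⟨x, hMW x.2⟩,
      hvm.map_conj hrN (le_normalizerIn (hMW.trans hW) x.2)]
  · have hgc' : (orderOf (g : MulAut W)).Coprime p := by rwa [Subgroup.orderOf_coe]
    have hgA : (g : MulAut W) ∈ Ac F E W :=
      h.mem_Ac_of_gen hRS hTR (isMap_prodSys.1 ((mem_autGroup_iff hW).1 hg)) hgc'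
    obtain ⟨y, hy, hye, -⟩ := h.restrict_ac (hW.trans hRS) hMW hgA fun w hw => by
      rw [autFn_apply _ (hMW hw)]
      exact (g.2 _).2 hw
    have e : restr hMW g = y := MulEquiv.ext fun x => Subtype.ext (by
      rw [restr_apply, ← autFn_apply y x.2, hye x x.2, autFn_apply _ (hMW x.2)])
    exact Subgroup.mem_sup_left ((h.NP_congr hv).le ⟨_, mem_NP (e ▸ hy)
      (Nat.Coprime.coprime_dvd_left (orderOf_map_dvd _ g) hgc), rfl⟩)

include hTR in
/-- Automorphisms of a universal member made of larger pieces lie in `BP`. -/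
theorem step_BP {P U : Subgroup Ω} (hU : IsUniversal (prodSys F p E hRS (Nat.card P)) P U)
    (hfar : ∀ W : Subgroup Ω, W ≤ R → Nat.card P < Nat.card W →
      ∃ W', (prodSys F p E hRS 0).IsConj W W' ∧ FAR (prodSys F p E hRS 0) p W')
    {W : Subgroup Ω} {ψ : Ω → Ω} (hψ : IsMap (prodSys F p E hRS (Nat.card P)) W ψ) (hUW : U < W)
    (hWN : W ≤ normalizerIn R U) (hψU : img ψ U = U) :
    ∃ β ∈ BP F p E R U, ∀ x ∈ U, ψ x = autFn β x := by
  have hfR := finite_of_le hRS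
  set k := Nat.card P
  set N := normalizerIn R U
  have hcN : ∀ {X : Subgroup Ω}, X ≤ N → Nat.card X ≤ Nat.card N := fun hX => by
    have := finite_of_le (S := R) (P := N) inf_le_left
    exact Subgroup.card_le_of_le hX
  induction hd : Nat.card N - Nat.card W using Nat.strong_induction_on generalizing W ψ with
  | _ d ih =>
  have hWR : W ≤ R := hψ.le
  have hkW : k < Nat.card W := ClassHyp.card_lt_of_lt hU.1 hWR hUW
  set W₂ := img ψ W
  have hW₂N : W₂ ≤ N := FusionCrit.img_le_normalizerIn hψ hUW.le hWN hψU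
  have hW₂c : Nat.card W₂ = Nat.card W := hψ.card_img le_rfl
  have hUW₂ : U < W₂ := hψU ▸ FusionCrit.lt_img_of_lt hψ hUW
  obtain ⟨W₀, hW₀c, hW₀⟩ := hfar W hWR hkW
  have hW₀k : k < Nat.card W₀ := by
    obtain ⟨a, ha⟩ := isConj_iff.1 hW₀c
    rwa [ha.card_eq]
  have hconj : (prodSys F p E hRS k).IsConj W W₀ := by
    obtain ⟨a, ha⟩ := isConj_iff.1 hW₀c
    exact isConj_iff.2 ⟨a, h.isMap_agree hRS ha.1 hkW, ha.2⟩
  obtain ⟨Ws, Us, f, ht, hf, hfU⟩ :=
    FusionCrit.exists_pair_target (h.pgroup.to_le hRS) hUW.le (h.far_weaken hRS hW₀k hW₀) hconj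
  have hUs : (prodSys F p E hRS k).IsConj P Us := isConj_trans hU.1
    (isConj_iff.2 ⟨f, hf.1.mono hUW.le, hfU⟩)
  obtain ⟨v, hv, hvU⟩ := hU.2 Us hUs
  have hUsR : Us ≤ R := (isConj_le hUs).2
  have hUsN : Us ≤ normalizerIn R Us := le_normalizerIn hUsR
  have hUsW : Us ≤ Ws := ht.2.1
  have hvi : IsIso F Us U v := ⟨(h.isMap_F hRS hv).mono hUsN, hvU⟩
  by_cases hWN' : W = N
  · subst hWN'
    have hWsN : Ws ≤ normalizerIn R Us := fun z hz => by
      obtain ⟨x, hx, rfl⟩ := hf.exists_eq hz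
      exact map_normalizerIn hf.1 hUW.le hfU hx (hWN hx)
    have hvN : ∀ z ∈ normalizerIn R Us, v z ∈ N := fun z hz => map_normalizerIn hv hUsN hvU hz hz
    have hWsE : Ws = normalizerIn R Us := by
      refine eq_of_le_of_card inf_le_left hWsN ?_
      rw [hf.card_eq, ← hv.card_img le_rfl]
      exact hcN (hv.img_le le_rfl hvN)
    have hvWI : IsIso (prodSys F p E hRS k) Ws N v := by
      refine ⟨hv.mono hWsN, eq_of_le_of_card inf_le_left ((hv.mono hWsN).img_le le_rfl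
        fun z hz => hvN z (hWsN hz)) ?_⟩
      rw [hv.card_img hWsN, hf.card_eq]
    have heq : W₂ = N := eq_of_le_of_card inf_le_left hW₂N hW₂c.ge
    obtain ⟨vi, hvi', hvil, hvir⟩ := hvWI.symm
    obtain ⟨χ, hχ, hχe⟩ := exists_aut_of_isIso
      ((hvWI.trans (show IsIso (prodSys F p E hRS k) N N ψ from ⟨hψ, heq⟩)).trans hvi')
    have hvU' : ∀ z ∈ Ws, v z ∈ U ↔ z ∈ Us := fun z hz => by
      refine ⟨fun hz' => ?_, fun hz' => hvi.mem hz'⟩
      obtain ⟨x, hx, e⟩ := hvi.exists_eq hz'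
      exact hv.inj (hUsN hx) (hWsN hz) e ▸ hx
    have hψU' : ∀ x ∈ N, ψ x ∈ U ↔ x ∈ U := fun x hx => by
      refine ⟨fun hz => ?_, fun hz => hψU ▸ hψ.mem_img hz⟩
      obtain ⟨z, hz, e⟩ := (hψ.mem_img_iff hUW.le).1 (hψU.symm ▸ hz : ψ x ∈ img ψ U)
      exact hψ.inj (hUW.le hz) hx e ▸ hz
    have hχv : ∀ z : Ws, v (χ z : Ws) = ψ (v z) := fun z => by
      rw [hχe]
      exact hvir _ (heq ▸ hψ.mem_img (hvWI.mem z.2))
    have hχs : χ ∈ stab Ws Us := fun z => by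
      rw [← hvU' _ (χ z).2, hχv, hψU' _ (hvWI.mem z.2), hvU' _ z.2]
    have h1 := h.stab_res hTR hRS hUsW (hf.le_right) ht.2.2 hχ hχs hv hvi
    refine ⟨_, h1, fun x hx => ?_⟩
    obtain ⟨y, hy, rfl⟩ := hvi.exists_eq hx
    rw [autFn_apply _ hx]
    refine Eq.trans ?_ (congr_apply_coe hvi (restr hUsW ⟨χ, hχs⟩) ⟨y, hy⟩).symm
    rw [restr_apply]
    exact (hχv ⟨y, hUsW hy⟩).symm
  have hlt : W < N := lt_of_le_of_ne hWN hWN'
  have hlt₂ : W₂ < N := lt_of_le_of_ne hW₂N fun e => hWN'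
    (eq_of_le_of_card inf_le_left hWN (by rw [← hW₂c, e]))
  obtain ⟨h₁, hh₁, hh₁W, hh₁U, hh₁N⟩ := FusionCrit.pair_extension (h.pgroup.to_le hRS) ht hf hUW.le hfU hWN
  obtain ⟨ψi, hψi, hψil, -⟩ := hψ.isIso.symm
  have hψiU : img ψi U = U := by
    refine IsIso.img_eq_of hψi.1 hUW₂.le (fun y hy => ?_) fun x hx => ⟨ψ x, hψU ▸ hψ.mem_img hx,
      hψil x (hUW.le hx)⟩
    obtain ⟨x, hx, rfl⟩ := (hψ.mem_img_iff hUW.le).1 (hψU.symm ▸ hy : y ∈ img ψ U)
    rwa [hψil x (hUW.le hx)]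
  have hfψ : img (fun x => f (ψi x)) U = Us := by
    refine IsIso.img_eq_of (hψi.trans hf).1 hUW₂.le (fun y hy => hfU ▸ hf.1.mem_img
      (hψiU ▸ hψi.1.mem_img hy)) fun z hz => ?_
    obtain ⟨x, hx, rfl⟩ := (hf.1.mem_img_iff hUW.le).1 (hfU.symm ▸ hz : z ∈ img f U)
    obtain ⟨y, hy, rfl⟩ := (hψi.1.mem_img_iff hUW₂.le).1 (hψiU.symm ▸ hx : x ∈ img ψi U)
    exact ⟨y, hy, rfl⟩
  obtain ⟨h₂, hh₂, hh₂W, hh₂U, hh₂N⟩ :=
    FusionCrit.pair_extension (h.pgroup.to_le hRS) ht (hψi.trans hf) hUW₂.le hfψ hW₂N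
  set NN₁ := FusionCrit.NN R W U
  set NN₂ := FusionCrit.NN R W₂ U
  have hlt₁' : W < NN₁ := FusionCrit.lt_NN (h.pgroup.to_le hRS) hlt
  have hlt₂' : W₂ < NN₂ := FusionCrit.lt_NN (h.pgroup.to_le hRS) hlt₂
  -- the two outer maps
  have houter : ∀ (X : Subgroup Ω) (hX : Ω → Ω), IsMap (prodSys F p E hRS k) (FusionCrit.NN R X U) hX →
      img hX U = Us → (∀ y ∈ FusionCrit.NN R X U, hX y ∈ FusionCrit.NN R Ws Us) →
      X < FusionCrit.NN R X U → U < X → Nat.card X = Nat.card W →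
      ∃ β ∈ BP F p E R U, ∀ x ∈ U, v (hX x) = autFn β x := by
    intro X hX hm hUe hmem hXlt hUX hXc
    have hUNN : U < FusionCrit.NN R X U := hUX.trans hXlt
    have hm' : IsMap (prodSys F p E hRS k) (FusionCrit.NN R X U) (fun x => v (hX x)) :=
      hm.comp hv fun y hy => (hmem y hy).2
    refine ih _ ?_ hUNN ?_ hm' inf_le_right rfl
    · have h1 := FusionCrit.card_lt (S := R) hm.le hXlt
      have h2 : Nat.card (FusionCrit.NN R X U) ≤ Nat.card N := hcN inf_le_right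
      omega
    · rw [FusionCrit.img_comp (hm.mono hUNN.le) (hv.mono (by rw [hUe]; exact hUsN)), hUe, hvU]
  obtain ⟨β₁, hβ₁, e₁⟩ := houter W h₁ hh₁ hh₁U hh₁N hlt₁' hUW rfl
  obtain ⟨β₂, hβ₂, e₂⟩ := houter W₂ h₂ hh₂ hh₂U hh₂N hlt₂' hUW₂ hW₂c
  -- the middle automorphism
  have hi₁ : IsIso (prodSys F p E hRS k) W Ws h₁ := ⟨hh₁.mono hlt₁'.le, hh₁W⟩
  have hi₂ : IsIso (prodSys F p E hRS k) W₂ Ws h₂ := ⟨hh₂.mono hlt₂'.le, hh₂W⟩
  obtain ⟨i₁, hi₁', hi₁l, -⟩ := hi₁.symm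
  obtain ⟨χ, hχ, hχe⟩ := exists_aut_of_isIso ((hi₁'.trans hψ.isIso).trans hi₂)
  have hWsR : Ws ≤ R := hi₁.le_right
  have hWsk : k < Nat.card Ws := by rw [hi₁.card_eq]; exact hkW
  have hχh : ∀ x (hx : x ∈ W), ((χ ⟨h₁ x, hi₁.mem hx⟩ : Ws) : Ω) = h₂ (ψ x) := fun x hx => by
    rw [hχe]
    show h₂ (ψ (i₁ (h₁ x))) = _
    rw [hi₁l x hx]
  have hχs : χ ∈ stab Ws Us := fun y => by
    obtain ⟨x, hx, hxy⟩ := hi₁.exists_eq y.2
    have hy : y = ⟨h₁ x, hi₁.mem hx⟩ := Subtype.ext hxy.symm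
    rw [hy, hχh x hx]
    show h₂ (ψ x) ∈ Us ↔ h₁ x ∈ Us
    have k1 : h₁ x ∈ Us ↔ x ∈ U := by
      rw [← hh₁U, (hh₁.mono hlt₁'.le).mem_img_iff hUW.le]
      exact ⟨fun ⟨z, hz, e⟩ => hi₁.1.inj (hUW.le hz) hx e ▸ hz, fun hz => ⟨x, hz, rfl⟩⟩
    have hψx : ψ x ∈ W₂ := hψ.mem_img hx
    have k2 : h₂ (ψ x) ∈ Us ↔ ψ x ∈ U := by
      rw [← hh₂U, (hh₂.mono hlt₂'.le).mem_img_iff hUW₂.le]
      exact ⟨fun ⟨z, hz, e⟩ => hi₂.1.inj (hUW₂.le hz) hψx e ▸ hz, fun hz => ⟨_, hz, rfl⟩⟩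
    have k3 : ψ x ∈ U ↔ x ∈ U := by
      refine ⟨fun hz => ?_, fun hz => hψU ▸ hψ.mem_img hz⟩
      obtain ⟨z, hz, e⟩ := (hψ.mem_img_iff hUW.le).1 (hψU.symm ▸ hz : ψ x ∈ img ψ U)
      exact hψ.inj (hUW.le hz) hx e ▸ hz
    rw [k1, k2, k3]
  have h3 := h.stab_res hTR hRS hUsW hWsR ht.2.2 hχ hχs hv hvi
  set β₃ := MulAut.congr hvi.equiv (restr hUsW ⟨χ, hχs⟩)
  refine ⟨β₂⁻¹ * β₃ * β₁, mul_mem (mul_mem (inv_mem hβ₂) h3) hβ₁, fun x hx => ?_⟩
  have hxW := hUW.le hx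
  have hψx : ψ x ∈ U := hψU ▸ hψ.mem_img hx
  have hh₁x : h₁ x ∈ Us := hh₁U ▸ hh₁.mem_img hx
  have h4 : autFn β₃ (v (h₁ x)) = v (h₂ (ψ x)) := by
    rw [autFn_apply _ (hvi.mem hh₁x)]
    refine (congr_apply_coe hvi (restr hUsW ⟨χ, hχs⟩) ⟨h₁ x, hh₁x⟩).trans ?_
    rw [restr_apply]
    exact congrArg v (hχh x hxW)
  rw [autFn_mul _ _ hx, autFn_mul _ _ (autFn_mem β₁ hx), ← e₁ x hx, h4, e₂ _ hψx,
    autFn_inv_self β₂ hψx]

include hTR in
/-- The automizer of a universal member with maximal normalizer. -/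
theorem autGroup_le_BP {P U : Subgroup Ω} (hlt : P < R)
    (hU : IsUniversal (prodSys F p E hRS (Nat.card P)) P U) 
    (hfar : ∀ W : Subgroup Ω, W ≤ R → Nat.card P < Nat.card W →
      ∃ W', (prodSys F p E hRS 0).IsConj W W' ∧ FAR (prodSys F p E hRS 0) p W') :
    (prodSys F p E hRS 0).autGroup U ≤ BP F p E R U := by
  have hfR := finite_of_le hRS
  set k := Nat.card P
  have hne : ∀ Q : Subgroup Ω, F.IsConj P Q → InH E R Q → ¬ k < Nat.card Q := fun Q hQ _ => by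
    obtain ⟨g, hg⟩ := isConj_iff.1 hQ
    rw [hg.card_eq]
    exact lt_irrefl _
  -- chains between members
  have hchain : ∀ {M : Subgroup Ω} {f : Ω → Ω}, Chain (prodSys F p E hRS k) M f →
      (prodSys F p E hRS k).IsConj P M → ∀ u u' : Ω → Ω, IsMap (prodSys F p E hRS k) (normalizerIn R M) u →
        img u M = U → IsMap (prodSys F p E hRS k) (normalizerIn R (img f M)) u' → img u' (img f M) = U →
        ∃ β ∈ BP F p E R U, ∀ x ∈ M, u' (f x) = autFn β (u x) := by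
    intro M f hc
    induction hc with
    | @step M X f hf hMX =>
      intro hM u u' hu huM hu' hu'M
      set X' := normalizerIn X M
      have hXR : X ≤ R := hf.le
      have hMX' : M < X' := lt_normalizerIn (h.pgroup.to_le hRS) hXR hMX
      have hX'N : X' ≤ normalizerIn R M := inf_le_inf_right _ hXR
      have hfX : IsMap (prodSys F p E hRS k) X' f := hf.mono inf_le_left
      have hMN : M ≤ normalizerIn R M := hMX'.le.trans hX'N
      have huX := hu.mono hX'N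
      obtain ⟨i, hi, hil, -⟩ := huX.isIso.symm
      have hfN : ∀ y ∈ X', f y ∈ normalizerIn R (img f M) := fun y hy =>
        map_normalizerIn hfX hMX'.le rfl hy (hX'N hy)
      have hψ : IsMap (prodSys F p E hRS k) (img u X') (fun y => u' (f (i y))) :=
        (hi.trans hfX.isIso).1.comp hu' fun y hy => hfN _ (hi.mem hy)
      have hUX : U < img u X' := huM ▸ FusionCrit.lt_img_of_lt huX hMX'
      have hψU : img (fun y => u' (f (i y))) U = U := by
        refine IsIso.img_eq_of hψ hUX.le (fun y hy => ?_) fun z hz => ?_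
        · obtain ⟨x, hx, rfl⟩ := (hu.mem_img_iff hMN).1 (huM.symm ▸ hy : y ∈ img u M)
          rw [hil x (hMX'.le hx), ← hu'M]
          exact hu'.mem_img (hf.mem_img hx)
        · obtain ⟨w, hw, rfl⟩ := (hu'.mem_img_iff (le_normalizerIn
            ((hf.mono hMX.le).img_le_S))).1 (hu'M.symm ▸ hz : z ∈ img u' (img f M))
          obtain ⟨x, hx, rfl⟩ := (hf.mem_img_iff hMX.le).1 hw
          exact ⟨u x, huM ▸ hu.mem_img hx, by rw [hil x (hMX'.le hx)]⟩
      obtain ⟨β, hβ, e⟩ := h.step_BP hTR hRS hU hfar hψ hUX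
        (FusionCrit.img_le_normalizerIn huX hMX'.le hX'N huM) hψU
      refine ⟨β, hβ, fun x hx => ?_⟩
      rw [← e (u x) (huM ▸ hu.mem_img hx), hil x (hMX'.le hx)]
    | @comp M f g h₁ h₂ ih₁ ih₂ =>
      intro hM u u' hu huM hu' hu'M
      have hc₁ : (prodSys F p E hRS k).IsConj P (img f M) :=
        isConj_trans hM (isConj_iff.2 ⟨f, h₁.isMap.isIso⟩)
      obtain ⟨w, hw, hwM⟩ := hU.2 _ hc₁
      rw [FusionCrit.img_comp h₁.isMap h₂.isMap] at hu' hu'M
      obtain ⟨β₁, hβ₁, e₁⟩ := ih₁ hM u w hu huM hw hwM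
      obtain ⟨β₂, hβ₂, e₂⟩ := ih₂ hc₁ w u' hw hwM hu' hu'M
      refine ⟨β₂ * β₁, mul_mem hβ₂ hβ₁, fun x hx => ?_⟩
      show u' (g (f x)) = _
      rw [e₂ _ (h₁.isMap.mem_img hx), e₁ x hx, ← autFn_mul _ _ (huM ▸ hu.mem_img hx)]
    | @congr M f g _ e ih =>
      intro hM u u' hu huM hu' hu'M
      rw [← img_congr e] at hu' hu'M
      obtain ⟨β, hβ, e'⟩ := ih hM u u' hu huM hu' hu'M
      exact ⟨β, hβ, fun x hx => by rw [← e x hx]; exact e' x hx⟩
  intro α hα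
  have hUR : U ≤ R := (isConj_le hU.1).2
  obtain ⟨g, hg, n, hn, he⟩ :=
    h.pgen_split hRS k (isMap_prodSys.1 ((mem_autGroup_iff hUR).1 hα)) (ClassHyp.card_eq hU.1)
  have hgm := hg.isMap (amb_self (F := F) (p := p) (E := E) hRS le_rfl)
  have hgU : img g U = U := by
    refine IsIso.img_eq_of hgm le_rfl (fun y hy => ?_) fun z hz => ?_
    · have h1 := he _ (autFn_mem n⁻¹ hy)
      rw [autFn_self_inv n hy] at h1
      exact h1 ▸ autFn_mem α (autFn_mem n⁻¹ hy)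
    · refine ⟨autFn n (autFn α⁻¹ z), autFn_mem n (autFn_mem _ hz), ?_⟩
      rw [← he _ (autFn_mem _ hz), autFn_self_inv α hz]
  have hid : IsMap (prodSys F p E hRS k) (normalizerIn R U) (fun x => x) := Fusion.IsMap.id inf_le_left
  have hidU : img (fun x : Ω => x) U = U := by rw [img, Set.image_id', Subgroup.closure_eq]
  obtain ⟨β, hβ, e⟩ := hchain (h.chain_of_gen hRS hlt hne hg (h.isConj_F hRS hU.1)) hU.1 (fun x => x)
    (fun x => x) hid hidU (by rwa [hgU]) (by rwa [hgU])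
  suffices e' : α = β * n by
    rw [e']
    exact mul_mem hβ (Subgroup.mem_sup_left hn)
  refine MulEquiv.ext fun x => Subtype.ext ?_
  rw [← autFn_apply α x.2, ← autFn_apply (β * n) x.2, autFn_mul _ _ x.2, he x x.2]
  exact e _ (autFn_mem n x.2)

omit [Finite S] [Fact p.Prime] in
theorem autR_le_aut {k : ℕ} {P : Subgroup Ω} (hP : P ≤ R) :
    autInducedBy R P ≤ (prodSys F p E hRS k).autGroup P :=
  autInducedBy_le_autGroup _ le_rfl hP

omit [Fact p.Prime] in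
theorem BP_le_aut {U : Subgroup Ω} (hU : InH E R U) :
    BP F p E R U ≤ (prodSys F p E hRS 0).autGroup U := by
  refine sup_le ((Subgroup.closure_le _).2 fun n hn => (mem_autGroup_iff hU.1).2
    (isMap_prodSys.2 (PGen.aut hU ?_ hn.1 hn.2 le_rfl))) (h.autR_le_aut hRS hU.1)
  have := finite_of_le (S := S) (hU.1.trans hRS)
  exact Nat.card_pos


include hTR in
/-- A class has a member with maximal normalizer in `T`, inside the restricted system. -/
theorem exists_member_TFN {P : Subgroup Ω} (hP : P ≤ R) :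
    ∃ M, (prodSys F p E hRS (Nat.card P)).IsConj P M ∧ TFN F T M := by
  obtain ⟨P₀, hc, hP₀⟩ := exists_fullyNormalized F (hP.trans hRS)
  obtain ⟨f, hf⟩ := isConj_iff.1 hc
  obtain ⟨α, hα, d, hd, he⟩ := h.frattini hf.1
  have hd' := hd.enlarge (sup_le hP hTR) hTR
  obtain ⟨g, hg, n, hn, he'⟩ := h.pgen_split hRS (Nat.card P) hd' rfl
  have hA := amb_self (F := F) (p := p) (E := E) hα.le (le_sup_right : T ≤ P ⊔ T)
  have hdm := hd.isMap hA
  have hgm := hg.isMap (amb_self (F := F) (p := p) (E := E) hRS le_rfl)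
  have hM : img g P = img d P := by
    refine IsIso.img_eq_of hgm le_rfl (fun y hy => ?_) fun z hz => ?_
    · have h1 := hdm.mem_img (Q := P) (autFn_mem n⁻¹ hy)
      rwa [he' _ (autFn_mem n⁻¹ hy), autFn_self_inv n hy] at h1
    · obtain ⟨x, hx, rfl⟩ := (hdm.mem_img_iff le_rfl).1 hz
      exact ⟨autFn n x, autFn_mem n hx, (he' x hx).symm⟩
  refine ⟨img g P, isConj_iff.2 ⟨g, isMap_prodSys.2 hg, rfl⟩, ?_⟩
  set M := img g P
  have hMle : M ≤ P ⊔ T := hM ▸ hdm.img_le le_rfl (hd.mem hA)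
  have hMS : M ≤ S := hMle.trans hα.le
  have hMP : IsIso F M P₀ α := by
    refine ⟨hα.mono hMle, IsIso.img_eq_of hα hMle (fun y hy => ?_) fun z hz => ?_⟩
    · obtain ⟨x, hx, rfl⟩ := (hdm.mem_img_iff le_rfl).1 (hM ▸ hy : y ∈ img d P)
      rw [← he x hx]
      exact hf.mem hx
    · obtain ⟨x, hx, rfl⟩ := hf.exists_eq hz
      exact ⟨d x, hM ▸ hdm.mem_img hx, (he x hx).symm⟩
  refine ⟨hMS, fun Q hQ => ?_⟩
  refine ((h.tfn_of_fn hP₀).2 Q (isConj_trans (isConj_symm (isConj_iff.2 ⟨α, hMP⟩)) hQ)).trans ?_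
  obtain ⟨i, hi, hil, -⟩ := hα.isIso.symm
  have hTT : img α T = T := eq_of_le_of_card h.T_le
    (hα.img_le le_sup_right fun x hx => h.map_T hα (Subgroup.mem_sup_right hx) hx)
    (hα.card_img le_sup_right).ge
  have hdom : P₀ ⊔ normalizerIn T P₀ ≤ img α (P ⊔ T) := sup_le
    (hMP.2 ▸ hα.img_le hMle fun x hx => hα.mem_img (hMle hx))
    (inf_le_left.trans (hTT.ge.trans (hα.img_le le_sup_right fun x hx => hα.mem_img (Subgroup.mem_sup_right hx))))
  have hi' : IsMap F (P₀ ⊔ normalizerIn T P₀) i := hi.1.mono hdom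
  have hiP : img i P₀ = M := by
    refine IsIso.img_eq_of hi' le_sup_left (fun z hz => ?_) fun x hx => ⟨α x, hMP.mem hx, hil x (hMle hx)⟩
    obtain ⟨x, hx, rfl⟩ := hMP.exists_eq hz
    rwa [hil x (hMle hx)]
  rw [← hi'.card_img le_sup_right]
  have := finite_of_le (S := S) (P := normalizerIn T M) (inf_le_left.trans h.T_le)
  exact Subgroup.card_le_of_le (hi'.img_le le_sup_right fun y hy =>
    ⟨h.map_T hi' (Subgroup.mem_sup_right hy) hy.1, (map_normalizerIn hi' le_sup_left hiP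
      (Subgroup.mem_sup_right hy) (⟨h.T_le hy.1, hy.2⟩ : y ∈ normalizerIn S P₀)).2⟩)

end PSys

end Cfsg.Agent.FusionProdR
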