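import Cfsg.Agent.Lib.FusionProdR.Basic
import Cfsg.Agent.Lib.FusionLayer.ProductAlgebra
import Cfsg.Agent.Lib.FusionLayer.MeetBasic

/-
An element of order prime to `p` of `Aut_E(Q)`, `Q` centric in `E` and fully normalised in `F`, extends to
the conjugations it normalises, trivially modulo `T` and inside `E` on the part in `T`.
Main results (namespace `Cfsg.Agent.FusionProdR`): `PSys.stable_of_agree`, `PSys.restrict_ac`, `PSys.exists_ext`.
-/

set_option autoImplicit false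

namespace Cfsg.Agent.FusionProdR

open Cfsg Cfsg.Agent.Fusion Cfsg.Agent.FusionNormalCent
open Cfsg.FusionSystem hiding inv_mem
open Cfsg.Agent.FusionCrit (stab mem_stab autFn_mul autFn_inv_self autFn_self_inv)

variable {Ω : Type*} [Group Ω] {S T : Subgroup Ω} {p : ℕ} {F : FusionSystem S} {E : FusionSystem T}

namespace PSys

variable [Finite S] [Fact p.Prime] (h : PSys F p E)

include h

omit [Fact p.Prime] in
/-- An element of `Ac M` agreeing on `W ⊓ T` with one of `Ac W` stabilises `W`, for `W ⊓ T` centric. -/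
theorem stable_of_agree {M W : Subgroup Ω} (hMS : M ≤ S) (hWM : W ≤ M) (hc : E.IsCentric (W ⊓ T))
    {y : MulAut M} (hy : y ∈ Ac F E M) {n : MulAut W} (hn : n ∈ Ac F E W)
    (he : ∀ x ∈ W ⊓ T, autFn y x = autFn n x) : ∀ w ∈ W, autFn y w ∈ W := by
  have hWS := hWM.trans hMS
  have := finite_of_le hWS
  have hC : centralizerIn T (W ⊓ T) ≤ W ⊓ T := hc.2 _ (isConj_refl E inf_le_right)
  have hym : IsMap F M (autFn y) := (mem_autGroup_iff hMS).1 hy.1
  have hnm : IsMap F W (autFn n) := (mem_autGroup_iff hWS).1 hn.1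
  intro w hw
  set d := (autFn n w)⁻¹ * autFn y w with hd
  have hdT : d ∈ T := by
    rw [hd, show (autFn n w)⁻¹ * autFn y w = (w⁻¹ * autFn n w)⁻¹ * (w⁻¹ * autFn y w) by group]
    exact T.mul_mem (T.inv_mem (hn.2.1 w hw)) (hy.2.1 w (hWM hw))
  have hdC : d ∈ centralizerIn T (W ⊓ T) := by
    refine mem_centralizerIn_of_conj hdT fun z hz => ?_
    obtain ⟨x, hx, rfl⟩ := ((h.iso_inf (isIso_autFn hWS hn.1)).exists_eq hz)
    have hwx : w * x * w⁻¹ ∈ W ⊓ T :=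
      normalizerIn_conj (h.normalizer_inf (le_normalizerIn hWS hw)) hx
    have h1 := he _ hwx
    rw [hnm.map_conj hw hx.1, hym.map_conj (hWM hw) (hWM hx.1), he x hx] at h1
    calc (autFn n w)⁻¹ * autFn y w * autFn n x * ((autFn n w)⁻¹ * autFn y w)⁻¹
        = (autFn n w)⁻¹ * (autFn y w * autFn n x * (autFn y w)⁻¹) * autFn n w := by group
      _ = autFn n x := by rw [h1]; group
  have h2 : autFn y w = autFn n w * d := by rw [hd]; group
  rw [h2]
  exact W.mul_mem (autFn_mem n hw) (hC hdC).1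

omit [Fact p.Prime] in
/-- Restriction inside `Ac`. -/
theorem restrict_ac {M W : Subgroup Ω} (hMS : M ≤ S) (hWM : W ≤ M) {y : MulAut M} (hy : y ∈ Ac F E M)
    (hst : ∀ w ∈ W, autFn y w ∈ W) :
    ∃ y' ∈ Ac F E W, (∀ w ∈ W, autFn y' w = autFn y w) ∧ orderOf y' ∣ orderOf y := by
  obtain ⟨y', hy', hye, hyo⟩ := FusionInner.exists_restrict hMS hWM hy.1 hst
  exact ⟨y', ⟨hy', fun x hx => hye x hx ▸ hy.2.1 x (hWM hx),
    ((hy.2.2).mono (inf_le_inf_right T hWM)).congr fun x hx => (hye x hx.1).symm⟩, hye, hyo⟩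

/-- The extension at a fully normalised centric subgroup. -/
theorem exists_ext {Q : Subgroup Ω} (hQ : F.IsFullyNormalized Q) (hQc : E.IsCentric Q)
    {n : MulAut Q} (hn : n ∈ E.autGroup Q) (hnp : (orderOf n).Coprime p)
    {Z : Subgroup (MulAut Q)} (hnZ : ∀ z ∈ Z, n * z * n⁻¹ ∈ Z)
    (hcomm : ∀ z ∈ Z, z⁻¹ * (n * z * n⁻¹) ∈ autInducedBy T Q) :
    ∃ y ∈ Ac F E (Q ⊔ NK S Q Z), (orderOf y).Coprime p ∧ ∀ x ∈ Q, autFn y x = autFn n x := by
  have hS := h.pgroup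
  have hF := h.sat
  have hQT : Q ≤ T := hQc.1
  have hQS : Q ≤ S := hQ.1
  have := finite_of_le hQS
  have := h.finT
  have hQC : centralizerIn T Q ≤ Q := hQc.2 Q (isConj_refl E hQT)
  obtain ⟨f, L, hper⟩ := exists_periodic_lift hS hF h.normal hQc hn hnp
  set D := Dom S Q with hDdef
  have hQD : Q ≤ D := le_dom S Q
  have hDS : D ≤ S := dom_le hQS
  have hDT : D ⊓ T = Q := FusionProduct.inf_T_sup_centralizer (fun _ hs _ ht => h.conj_T hs ht) hQT hQS hQC
  have hND : ∀ g ∈ normalizerIn S Q, g ∈ normalizerIn S D :=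
    fun g hg => FusionProduct.normalizerIn_le_sup_centralizer hQS hg
  obtain ⟨hDr, hSyl⟩ := FusionLayer.stab_receptive hS hF hQ hQD hDS hND
  have := finite_of_le hDS
  have := finite_mulAut (S := S) hDS
  have hfD : IsIso F D D f := ⟨L.map, eq_of_le_of_card hDS
    (L.map.img_le le_rfl fun x hx => L.mem hx) (L.map.card_img le_rfl).ge⟩
  obtain ⟨α, hα, hαe⟩ := exists_aut_of_isIso hfD
  have hQimg : ∀ y ∈ Q, ∃ x ∈ Q, f x = y := fun y hy => L.surj hy
  have hDW : ∀ x ∈ D, ∀ w ∈ Q, x * w * x⁻¹ ∈ Q := fun x hx w hw =>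
    normalizerIn_conj (dom_le_normalizerIn hQS hx : x ∈ normalizerIn S Q) hw
  set K := F.autGroup D ⊓ FusionProduct.stabilizing D Q hDW
  have hKn : ∀ β ∈ F.autGroup D, ∀ k ∈ K, β * k * β⁻¹ ∈ K := fun β hβ k hk => by
    have hpres : ∀ γ ∈ F.autGroup D, ∀ x : D, (x : Ω) ∈ Q → ((γ x : D) : Ω) ∈ Q := fun γ hγ x hx => by
      refine hDT.le (Subgroup.mem_inf.2 ⟨(γ x).2, ?_⟩)
      rw [← autFn_apply γ x.2]
      exact h.map_T ((mem_autGroup_iff hDS).1 hγ) x.2 (hQT hx)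
    refine Subgroup.mem_inf.2 ⟨mul_mem (mul_mem hβ hk.1) (inv_mem hβ), fun x hx => ?_, fun x => ?_⟩
    · rw [MulAut.mul_apply, MulAut.mul_apply, hk.2.1 _ (hpres _ (inv_mem hβ) x hx),
        MulAut.apply_inv_self]
    · have h := hpres β hβ ((β⁻¹ x)⁻¹ * k (β⁻¹ x)) (hk.2.2 (β⁻¹ x))
      rw [map_mul, map_inv, MulAut.apply_inv_self] at h
      exact h
  have hKS : K ≤ autInducedBy S D := fun k hk => by
    have hle : K ≤ F.autGroup D ⊓ stab D Q := fun κ hκ => Subgroup.mem_inf.2 ⟨hκ.1, fun x =>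
      ⟨fun h => by
        have e : κ (κ x) = κ x := hκ.2.1 _ h
        rw [κ.injective e] at h
        exact h, fun h => by rw [hκ.2.1 _ h]; exact h⟩⟩
    have hKp : IsPGroup p K :=
      (FusionProduct.isPGroup_stabilizing (hS.to_le hDS)).to_le inf_le_right
    obtain ⟨c, hc, hcK⟩ := hSyl.exists_conj_le hKp hle
    have h := (hcK _ (hKn c⁻¹ (inv_mem hc.1) k hk)).1
    simpa [mul_assoc] using h
  set M := NK S Q Z
  have hMN : M ≤ normalizerIn S Q := NK_le_normalizerIn S Q Z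
  have hMD : M ≤ normalizerIn S D := fun s hs => hND s (hMN hs)
  have hMZ : ∀ s (hs : s ∈ M), normConj S Q ⟨s, hMN hs⟩ ∈ Z := fun s hs => by
    obtain ⟨s₀, hs₀, e⟩ := hs
    obtain rfl : (s₀ : Ω) = s := e
    exact hs₀
  -- the twisted partner of an element of `M`
  have hrel' : ∀ s ∈ M, ∃ u ∈ M, u * s⁻¹ ∈ T ∧
      ∀ x ∈ Q, f (s * x * s⁻¹) = u * f x * u⁻¹ := fun s hs => by
    set z := normConj S Q ⟨s, hMN hs⟩ with hz
    obtain ⟨t, ht, hte⟩ := mem_autInducedBy_iff.1 (hcomm z (hMZ s hs))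
    have hconj : ∀ x : Q, (((n * z * n⁻¹) x : Q) : Ω) = (s * t) * x * (s * t)⁻¹ := fun x => by
      have e : n * z * n⁻¹ = z * (z⁻¹ * (n * z * n⁻¹)) := (mul_inv_cancel_left _ _).symm
      rw [e, MulAut.mul_apply, hz, normConj_apply, ← hz, hte]
      group
    refine ⟨s * t, mem_NK.2 ⟨S.mul_mem (hMN hs).1 (h.T_le ht), _, hnZ z (hMZ s hs), hconj⟩,
      h.conj_T (hMN hs).1 ht, fun x hx => ?_⟩
    have h1 := hconj (n ⟨x, hx⟩)
    rw [MulAut.mul_apply, MulAut.mul_apply, MulAut.inv_apply_self] at h1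
    rw [L.eq _ (normalizerIn_conj (hMN hs) hx), L.eq x hx,
      autFn_apply n (normalizerIn_conj (hMN hs) hx), autFn_apply n hx, ← h1]
    rfl
  have hext0 : ∀ s (hs : s ∈ M),
      α * normConj S D ⟨s, hMD hs⟩ * α⁻¹ ∈ autInducedBy S D := fun s hs => by
    obtain ⟨u, hu, huT, hue⟩ := hrel' s hs
    set γ := normConj S D ⟨s, hMD hs⟩
    set γ' := normConj S D ⟨u, hMD hu⟩
    have hγ' : γ' ∈ autInducedBy S D := (range_normConj S D).le ⟨_, rfl⟩
    suffices hκ : γ'⁻¹ * (α * γ * α⁻¹) ∈ K by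
      have := mul_mem hγ' (hKS hκ)
      rwa [mul_inv_cancel_left] at this
    have hSF : autInducedBy S D ≤ F.autGroup D := autInducedBy_le_autGroup F le_rfl hDS
    refine Subgroup.mem_inf.2 ⟨mul_mem (inv_mem (hSF hγ'))
      (mul_mem (mul_mem hα (hSF ((range_normConj S D).le ⟨_, rfl⟩))) (inv_mem hα)),
      fun x hx => ?_, fun x => ?_⟩
    · obtain ⟨y, hy, hye⟩ := L.surj hx
      have e : x = α ⟨y, hQD hy⟩ := Subtype.ext (by rw [hαe]; exact hye.symm)
      apply γ'.injective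
      rw [MulAut.mul_apply, MulAut.apply_inv_self, e, MulAut.mul_apply, MulAut.mul_apply,
        MulAut.inv_apply_self]
      refine Subtype.ext ?_
      rw [hαe, normConj_apply, normConj_apply, hαe]
      exact hue y hy
    · set v := α⁻¹ x with hv
      have hfv : f v = x := by rw [← hαe, hv, MulAut.apply_inv_self]
      set z : Ω := s * (x : Ω) * s⁻¹ with hz
      have hzD : z ∈ D := normalizerIn_conj (hMD hs) x.2
      have huxD : u * (x : Ω) * u⁻¹ ∈ D := normalizerIn_conj (hMD hu) x.2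
      have hw3 : z⁻¹ * (u * (x : Ω) * u⁻¹) ∈ Q := by
        refine hDT.le (Subgroup.mem_inf.2 ⟨mul_mem (inv_mem hzD) huxD, ?_⟩)
        rw [show z⁻¹ * (u * (x : Ω) * u⁻¹) = (z⁻¹ * (u * s⁻¹) * z⁻¹⁻¹) * (u * s⁻¹)⁻¹ by rw [hz]; group]
        exact T.mul_mem (h.conj_T (inv_mem (hDS hzD)) huT) (inv_mem huT)
      have hw1 : (s * (v : Ω) * s⁻¹)⁻¹ * f (s * (v : Ω) * s⁻¹) ∈ Q :=
        L.modP _ (normalizerIn_conj (hMD hs) v.2)
      have hw2 : (v : Ω)⁻¹ * x ∈ Q := hfv ▸ L.modP v v.2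
      have he : ((γ'⁻¹ * (α * γ * α⁻¹)) x : D) = (⟨u⁻¹ * f (s * (v : Ω) * s⁻¹) * u, by
          have h := normalizerIn_conj (inv_mem (hMD hu)) (L.mem (normalizerIn_conj (hMD hs) v.2))
          rwa [inv_inv] at h⟩ : D) := by
        apply γ'.injective
        rw [MulAut.mul_apply, MulAut.apply_inv_self]
        refine Subtype.ext ?_
        rw [MulAut.mul_apply, MulAut.mul_apply, hαe, normConj_apply, normConj_apply, ← hv]
        group
      rw [he]
      show (x : Ω)⁻¹ * (u⁻¹ * f (s * (v : Ω) * s⁻¹) * u) ∈ Q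
      have hw : (z⁻¹ * (u * (x : Ω) * u⁻¹))⁻¹ * (s * ((v : Ω)⁻¹ * x)⁻¹ * s⁻¹) *
          ((s * (v : Ω) * s⁻¹)⁻¹ * f (s * (v : Ω) * s⁻¹)) ∈ Q :=
        mul_mem (mul_mem (inv_mem hw3) (normalizerIn_conj (hMN hs) (inv_mem hw2))) hw1
      convert normalizerIn_conj_inv (hMN hu) hw using 1
      rw [hz]
      group
  obtain ⟨g, hg, hge⟩ := FusionChain.exists_extension hDr hα hMD hext0
  set M' := D ⊔ M
  have hM'S : M' ≤ S := hg.le
  have := finite_of_le hM'S
  have := finite_mulAut (S := S) hM'S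
  have hge' : ∀ x ∈ D, g x = f x := fun x hx => by rw [hge x hx, autFn_apply α hx, hαe]
  have hext : ∀ k, IsMap F M' k → (∀ x ∈ D, k x = f x) → ∀ s ∈ M,
      k s ∈ M ∧ ∃ u ∈ M, u * s⁻¹ ∈ T ∧ u⁻¹ * k s ∈ centralizerIn S Q := fun k hh he s hs => by
    obtain ⟨u, hu, huT, hue⟩ := hrel' s hs
    have hsM' : s ∈ M' := Subgroup.mem_sup_right hs
    have hkey : ∀ x ∈ Q, k s * f x * (k s)⁻¹ = u * f x * u⁻¹ := fun x hx => by
      have hxD : x ∈ D := hQD hx
      rw [← he x hxD, ← hh.map_conj hsM' (Subgroup.mem_sup_left hxD), he x hxD,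
        he _ (normalizerIn_conj (hMD hs) hxD)]
      exact hue x hx
    refine ⟨mem_NK.2 ⟨hh.mem hsM', _, hMZ u hu, fun y => ?_⟩, u, hu, huT,
      mem_centralizerIn_of_conj (S.mul_mem (S.inv_mem (hMN hu).1) (hh.mem hsM')) fun y hy => ?_⟩
    · obtain ⟨x, hx, e⟩ := hQimg y y.2
      rw [normConj_apply, ← e, hkey x hx]
    · obtain ⟨x, hx, rfl⟩ := hQimg y hy
      rw [show u⁻¹ * k s * f x * (u⁻¹ * k s)⁻¹ = u⁻¹ * (k s * f x * (k s)⁻¹) * u by group,
        hkey x hx]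
      group
  have hgM' : IsIso F M' M' g := ⟨hg, eq_of_le_of_card hM'S (hg.img_le le_rfl fun x hx =>
    hg.forall_mem_sup le_sup_left le_sup_right
      (fun y hy => Subgroup.mem_sup_left (hge' y hy ▸ L.mem hy))
      (fun y hy => Subgroup.mem_sup_right (hext g hg hge' y hy).1) hx) (hg.card_img le_rfl).ge⟩
  obtain ⟨β, hβ, hβe⟩ := exists_aut_of_isIso hgM'
  obtain ⟨m, hm, hmp⟩ := FusionProduct.exists_pow_coprime_modEq β (d := orderOf n) hnp
  set g' := autFn (β ^ m) with hg'def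
  have hg' : IsMap F M' g' := (mem_autGroup_iff hM'S).1 (pow_mem hβ m)
  have hg'e : ∀ x ∈ D, g' x = f x := fun x hx => by
    show autFn (β ^ m) x = f x
    rw [autFn_pow β m (Subgroup.mem_sup_left hx : x ∈ M'), iterate_congr (f := f) (fun y hy => L.mem hy)
      (fun y hy => by rw [autFn_apply β (Subgroup.mem_sup_left hy : y ∈ M'), hβe]; exact hge' y hy) m x hx]
    exact iterate_eq_of_periodic (hper x hx) hm
  have hTM : ∀ x ∈ T ⊓ M', g' x ∈ T ⊓ M' := fun x hx => Subgroup.mem_inf.2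
    ⟨h.map_T hg' hx.2 hx.1, autFn_mem _ hx.2⟩
  set H := T ⊓ M'
  set V := H ⊔ centralizerIn S Q
  have hCM : centralizerIn S Q ≤ M' := (cen_le_dom S Q).trans le_sup_left
  have hVM : V ≤ M' := sup_le inf_le_right hCM
  have hWH : Q ≤ H := le_inf hQT (hQD.trans le_sup_left)
  have hVN : V ≤ normalizerIn S H := fun x hx => by
    have := finite_of_le (S := S) (P := H) (inf_le_right.trans hM'S)
    refine mem_normalizerIn_of_conj (hM'S (hVM hx)) fun y hy => Subgroup.mem_inf.2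
      ⟨h.conj_T (hM'S (hVM hx)) hy.1, mul_mem (mul_mem (hVM hx) hy.2) (inv_mem (hVM hx))⟩
  have hmodH : ∀ v ∈ V, v⁻¹ * g' v ∈ H :=
    mod_of_gen (hg'.mono hVM) hVN (fun x hx => mul_mem (inv_mem hx) (hTM x hx)) fun c hc => by
      rw [hg'e c (cen_le_dom S Q hc)]
      exact hWH (L.modP c (cen_le_dom S Q hc))
  -- trivial modulo `T`
  have hdM : ∀ s ∈ M, s⁻¹ * g' s ∈ T := fun s hs => by
    have hsM' : s ∈ M' := Subgroup.mem_sup_right hs
    obtain ⟨-, u, hu, huT, huc⟩ := hext g' hg' hg'e s hs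
    have hsV : s⁻¹ * g' s ∈ V := by
      rw [show s⁻¹ * g' s = (s⁻¹ * (u * s⁻¹) * s⁻¹⁻¹) * (u⁻¹ * g' s) by group]
      refine mul_mem (Subgroup.mem_sup_left (Subgroup.mem_inf.2
        ⟨h.conj_T (S.inv_mem (hMN hs).1) huT, ?_⟩)) (Subgroup.mem_sup_right huc)
      rw [inv_inv]
      exact mul_mem (mul_mem (inv_mem hsM') (mul_mem (Subgroup.mem_sup_right hu) (inv_mem hsM'))) hsM'
    exact (coprime_twist_mem hS hg' hVM le_sup_left hTM hmodH hsM' hsV hmp
      (by rw [hg'def, ← autFn_pow (β ^ m) _ hsM', pow_orderOf_eq_one, autFn_apply _ hsM']; rfl)).1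
  have hM'T : M' ≤ normalizerIn S T := fun x hx => by
    have := h.finT
    exact mem_normalizerIn_of_conj (hM'S hx) fun y hy => h.conj_T (hM'S hx) hy
  have hdisp : ∀ x ∈ M', x⁻¹ * g' x ∈ T := mod_of_gen hg' hM'T
    (fun x hx => by rw [hg'e x hx]; exact hQT (L.modP x hx)) hdM
  -- in `E` on the part inside `T`
  set y := β ^ m with hy
  set Qm := M' ⊓ T with hQm
  have hQmS : Qm ≤ S := inf_le_left.trans hM'S
  have := finite_of_le hQmS
  have := finite_mulAut (S := S) hQmS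
  have hQQm : Q ≤ Qm := le_inf (hQD.trans le_sup_left) hQT
  have hM'Q : M' ≤ normalizerIn S Q := sup_le (dom_le_normalizerIn hQS) hMN
  have hcl : ∀ x ∈ Qm, autFn y x ∈ Qm := fun x hx => Subgroup.mem_inf.2
    ⟨autFn_mem y hx.1, h.map_T hg' hx.1 hx.2⟩
  obtain ⟨b, hb, hbe, hbo⟩ := FusionInner.exists_restrict hM'S (inf_le_left : Qm ≤ M') (pow_mem hβ m) hcl
  have hbc : (orderOf b).Coprime p := Nat.Coprime.coprime_dvd_left hbo hmp
  have hg'n : ∀ x ∈ Q, g' x = autFn n x := fun x hx => (hg'e x (hQD hx)).trans (L.eq x hx)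
  have hQmN : Qm ≤ normalizerIn T Q := fun x hx => ⟨hx.2, (hM'Q hx.1).2⟩
  have hrec := receptive_of_fullyNormalized h.pT h.esat (fullyNormalized_sub hS hF h.inv hQT hQ)
  obtain ⟨f₁, hf₁, hf₁e⟩ := FusionChain.exists_extension hrec hn hQmN fun w hw => by
    refine mem_autInducedBy_iff.2 ⟨g' w, (hcl w hw).2, fun x => ?_⟩
    obtain ⟨x, rfl⟩ := n.surjective x
    rw [MulAut.mul_apply, MulAut.mul_apply, MulAut.inv_apply_self,
      ← autFn_apply n (normConj T Q ⟨w, hQmN hw⟩ x).2, ← hg'n _ (normConj T Q ⟨w, hQmN hw⟩ x).2,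
      normConj_apply, hg'.map_conj hw.1 ((hQD.trans le_sup_left) x.2), hg'n _ x.2, autFn_apply n x.2]
  have hf₁m : IsMap E Qm f₁ := hf₁.mono le_sup_right
  have hf₁Qm : ∀ w ∈ Qm, f₁ w ∈ Qm := fun w hw => by
    have hd : (g' w)⁻¹ * f₁ w ∈ centralizerIn T Q := by
      refine mem_centralizerIn_of_conj (T.mul_mem (T.inv_mem (hcl w hw).2) (hf₁m.mem hw)) fun x hx => ?_
      obtain ⟨v, hv, rfl⟩ : ∃ v ∈ Q, autFn n v = x :=
        ⟨autFn n⁻¹ x, autFn_mem _ hx, autFn_self_inv n hx⟩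
      have hwv : w * v * w⁻¹ ∈ Q := normalizerIn_conj (hQmN hw) hv
      have h1 : f₁ w * autFn n v * (f₁ w)⁻¹ = autFn n (w * v * w⁻¹) := by
        rw [← hf₁e _ hwv, hf₁m.map_conj hw (hQQm hv), hf₁e v hv]
      have h2 : g' w * autFn n v * (g' w)⁻¹ = autFn n (w * v * w⁻¹) := by
        rw [← hg'n _ hwv, hg'.map_conj hw.1 ((hQD.trans le_sup_left) hv), hg'n v hv]
      calc (g' w)⁻¹ * f₁ w * autFn n v * ((g' w)⁻¹ * f₁ w)⁻¹
          = (g' w)⁻¹ * (f₁ w * autFn n v * (f₁ w)⁻¹) * g' w := by group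
        _ = autFn n v := by rw [h1, ← h2]; group
    rw [show f₁ w = g' w * ((g' w)⁻¹ * f₁ w) by group]
    exact mul_mem (hcl w hw) (hQQm (hQC hd))
  obtain ⟨a, ha, hae⟩ := exists_aut_of_isIso (show IsIso E Qm Qm f₁ from ⟨hf₁m,
    eq_of_le_of_card (S := T) inf_le_right (hf₁m.img_le le_rfl hf₁Qm) (hf₁m.card_img le_rfl).ge⟩)
  have haF := FusionNormal.autGroup_le_of_sub h.inv.1 inf_le_right ha
  have hQn : ∀ x ∈ Qm, ∀ w ∈ Q, x * w * x⁻¹ ∈ Q := fun x hx w hw => normalizerIn_conj (hQmN hx) hw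
  set Ka := FusionProduct.stabilizing Qm Q hQn ⊓ F.autGroup Qm
  have hκ : a⁻¹ * b ∈ Ka := by
    have hfix : ∀ x ∈ Q, autFn (a⁻¹ * b) x = x := fun x hx => by
      have e1 : autFn b x = autFn a x := by
        rw [hbe x (hQQm hx), autFn_apply a (hQQm hx), hae, hf₁e x hx]
        exact hg'n x hx
      rw [autFn_mul _ _ (hQQm hx), e1, autFn_inv_self _ (hQQm hx)]
    refine Subgroup.mem_inf.2 ⟨⟨fun x hx => Subtype.ext ?_, fun x => ?_⟩, mul_mem (inv_mem haF) hb⟩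
    · rw [← autFn_apply _ x.2]
      exact hfix x hx
    · rw [← autFn_apply _ x.2]
      exact mod_of_fix (T := T) ((mem_autGroup_iff hQmS).1 (mul_mem (inv_mem haF) hb)) hQQm
        inf_le_right (hQmN.trans (inf_le_inf_right _ h.T_le)) hQC (fun y hy => autFn_mem _ hy) hfix x x.2
  have hbE : b ∈ E.autGroup Qm := FusionLayer.mem_of_coprime_sup (K := Ka)
    ((FusionProduct.isPGroup_stabilizing (hS.to_le hQmS)).to_le inf_le_left)
    (fun k hk c hc => FusionNormal.conj_mem_autGroup h.inv inf_le_right hk.2 hc)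
    (by
      simpa using mul_mem (Subgroup.mem_sup_left ha : a ∈ E.autGroup Qm ⊔ Ka)
        (Subgroup.mem_sup_right hκ)) hbc
  have hyAc : y ∈ Ac F E M' := ⟨pow_mem hβ m, hdisp,
    ((mem_autGroup_iff inf_le_right).1 hbE).congr fun x hx => hbe x hx⟩
  have hMM : Q ⊔ M = M' := le_antisymm (sup_le_sup_right hQD M)
    (sup_le (sup_le le_sup_left ((centralizerIn_le_NK S Q Z).trans le_sup_right)) le_sup_right)
  rw [hMM]
  exact ⟨y, hyAc, hmp, hg'n⟩

end PSys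

end Cfsg.Agent.FusionProdR
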