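import Cfsg.Agent.Lib.FusionProdR.Gen
import Cfsg.Agent.Lib.FusionCrit.Basic

/-
The Frattini property: every map of `F` on `P` is a map defined on `P T` after a map generated inside `P T`.
Main results (namespace `Cfsg.Agent.FusionProdR`): `FF`, `PSys.exists_stab_conj`, `PSys.stab_mem_pCoreAut`,
`PSys.inH_of_radical`, `PSys.frattini`.
-/

set_option autoImplicit false

namespace Cfsg.Agent.FusionProdR

open Cfsg Cfsg.Agent.Fusion
open Cfsg.FusionSystem hiding inv_mem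
open Cfsg.Agent.FusionCrit (autFn_mul autFn_inv_self autFn_self_inv)
open scoped Pointwise

variable {Ω : Type*} [Group Ω] {S T : Subgroup Ω} {p : ℕ} {F : FusionSystem S} {E : FusionSystem T}

/-- Frattini factorisation of a map. -/
def FF (F : FusionSystem S) (p : ℕ) (E : FusionSystem T) (P : Subgroup Ω) (f : Ω → Ω) : Prop :=
  ∃ α, IsMap F (P ⊔ T) α ∧ ∃ d, PGen F p E (P ⊔ T) T 0 P d ∧ ∀ x ∈ P, f x = α (d x)

namespace PSys

variable [Finite S] [Fact p.Prime] (h : PSys F p E)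

include h

omit [Fact p.Prime] in
/-- A centralizer element of `W ⊓ T` outside it normalising `W`. -/
theorem exists_stab_conj (hS : IsPGroup p S) [Fact p.Prime] {W : Subgroup Ω} (hW : W ≤ S)
    (hC : ¬ centralizerIn T (W ⊓ T) ≤ W ⊓ T) :
    ∃ c ∈ centralizerIn T (W ⊓ T), c ∈ normalizerIn S W ∧ c ∉ W := by
  set C := centralizerIn T (W ⊓ T)
  have hCS : C ≤ S := inf_le_left.trans h.T_le
  have := finite_of_le hW
  have hnorm : W ≤ Subgroup.normalizer (C : Set Ω) := fun w hw => by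
    have key : ∀ g ∈ W, ∀ c ∈ C, g * c * g⁻¹ ∈ C := fun g hg c hc => by
      refine mem_centralizerIn_of_conj (h.conj_T (hW hg) hc.1) fun x hx => ?_
      have hx' := normalizerIn_conj_inv (h.normalizer_inf (le_normalizerIn hW hg)) hx
      calc g * c * g⁻¹ * x * (g * c * g⁻¹)⁻¹ = g * (c * (g⁻¹ * x * g) * c⁻¹) * g⁻¹ := by group
        _ = x := by rw [centralizerIn_conj hc hx']; group
    exact Subgroup.mem_normalizer_iff.2 fun c => ⟨key w hw c, fun hc => by
      simpa [mul_assoc] using key w⁻¹ (W.inv_mem hw) _ hc⟩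
  have hlt : W < C ⊔ W := lt_of_le_of_ne le_sup_right fun e => hC fun c hc =>
    Subgroup.mem_inf.2 ⟨e.symm ▸ Subgroup.mem_sup_left hc, hc.1⟩
  obtain ⟨m, hm, hmW⟩ := SetLike.exists_of_lt (lt_normalizerIn hS (sup_le hCS hW) hlt)
  have hm' : m ∈ (C : Set Ω) * (W : Set Ω) := by
    rw [← Subgroup.coe_mul_of_right_le_normalizer_left C W hnorm]
    exact hm.1
  obtain ⟨c, hc, w, hw, rfl⟩ := hm'
  refine ⟨c, hc, ?_, fun hcW => hmW (W.mul_mem hcW hw)⟩
  have hmS : c * w ∈ normalizerIn S W := ⟨S.mul_mem (hCS hc) (hW hw), hm.2⟩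
  simpa using (normalizerIn S W).mul_mem hmS ((normalizerIn S W).inv_mem (le_normalizerIn hW hw))

omit [Fact p.Prime] in
/-- Such an element acts on `W` by an element of `O_p` of every automizer inside `F` containing it. -/
theorem stab_mem_pCoreAut [Fact p.Prime] {R : Subgroup Ω} {U : FusionSystem R} (hU : U.IsSubsystemOf F)
    {W : Subgroup Ω} (hWR : W ≤ R) (hRS : R ≤ S) {c : Ω} (hcR : c ∈ R)
    (hc : c ∈ centralizerIn T (W ⊓ T)) (hcN : c ∈ normalizerIn S W) :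
    normConj S W ⟨c, hcN⟩ ∈ autInducedBy R W ⊓ FusionChain.pCoreAut U p W := by
  have hWS := hWR.trans hRS
  have := finite_of_le hWS
  set Q := W ⊓ T
  have hQn : ∀ x ∈ W, ∀ w ∈ Q, x * w * x⁻¹ ∈ Q := fun x hx w hw =>
    normalizerIn_conj (h.normalizer_inf (le_normalizerIn hWS hx)) hw
  have hR : normConj S W ⟨c, hcN⟩ ∈ autInducedBy R W :=
    mem_autInducedBy_iff.2 ⟨c, hcR, fun x => normConj_apply _ _⟩
  refine Subgroup.mem_inf.2 ⟨hR, ?_⟩
  set K := U.autGroup W ⊓ FusionProduct.stabilizing W Q hQn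
  refine FusionChain.le_pCoreAut (K := K)
    ((FusionProduct.isPGroup_stabilizing (h.pgroup.to_le hWS)).to_le inf_le_right) inf_le_left
    (fun β hβ k hk => ?_) (Subgroup.mem_inf.2 ⟨autInducedBy_le_autGroup U le_rfl hWR hR,
      fun x hx => Subtype.ext ?_, fun x => ?_⟩)
  · have hpres : ∀ γ ∈ U.autGroup W, ∀ x : W, (x : Ω) ∈ Q → ((γ x : W) : Ω) ∈ Q := fun γ hγ x hx => by
      rw [← autFn_apply γ x.2]
      exact (h.iso_inf (isIso_autFn hWS (FusionNormal.autGroup_le_of_sub hU hWR hγ))).mem hx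
    refine Subgroup.mem_inf.2 ⟨mul_mem (mul_mem hβ hk.1) (inv_mem hβ), fun x hx => ?_, fun x => ?_⟩
    · rw [MulAut.mul_apply, MulAut.mul_apply, hk.2.1 _ (hpres _ (inv_mem hβ) x hx),
        MulAut.apply_inv_self]
    · have h := hpres β hβ ((β⁻¹ x)⁻¹ * k (β⁻¹ x)) (hk.2.2 (β⁻¹ x))
      rw [map_mul, map_inv, MulAut.apply_inv_self] at h
      exact h
  · rw [normConj_apply]
    exact centralizerIn_conj hc hx
  · rw [normConj_apply]
    refine Subgroup.mem_inf.2 ⟨W.mul_mem (W.inv_mem x.2) (normalizerIn_conj hcN x.2), ?_⟩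
    rw [show (x : Ω)⁻¹ * (c * x * c⁻¹) = (x : Ω)⁻¹ * c * x * c⁻¹ by group]
    exact T.mul_mem (h.conj_T_inv (hWS x.2) hc.1) (T.inv_mem hc.1)

/-- A centric radical subgroup of `F` has centric part inside `T`. -/
theorem inH_of_radical {W : Subgroup Ω} (hWc : F.IsCentric W) (hWr : F.IsRadical p W) :
    E.IsCentric (W ⊓ T) := by
  have hW := hWc.1
  obtain ⟨Q', u, hQ', hu, huQ, -⟩ :=
    exists_fullyNormalized_map h.pgroup h.sat (inf_le_left.trans hW : W ⊓ T ≤ S)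
  have hu' : IsMap F W u := hu.mono fun w hw => h.normalizer_inf (le_normalizerIn hW hw)
  set W' := img u W
  have hi : IsIso F W W' u := ⟨hu', rfl⟩
  have hW'T : W' ⊓ T = Q' := (h.iso_inf hi).2.symm.trans huQ
  have hconj : F.IsConj W' W := isConj_symm (isConj_iff.2 ⟨u, hi⟩)
  have hQT : Q' ≤ T := hW'T ▸ inf_le_right
  refine FusionNormalCent.centric_of_conj h.inv
    (FusionNormalCent.centric_of_fullyNormalized h.pgroup h.sat h.inv hQT hQ' ?_)
    (isConj_symm (isConj_iff.2 ⟨u, hW'T ▸ h.iso_inf hi⟩))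
  rw [← hW'T]
  by_contra hC
  have hW'S := hi.le_right
  have hC' : centralizerIn S W' ≤ W' := hWc.2 W' (isConj_symm hconj)
  obtain ⟨c, hc, hcN, hcW⟩ := h.exists_stab_conj h.pgroup hW'S hC
  have hmem := (h.stab_mem_pCoreAut (U := F) (fun _ _ hφ => hφ) hW'S le_rfl hcN.1 hc hcN).2
  obtain ⟨g, hg, -, hgr⟩ := hi.symm
  have h1 := FusionCrit.congr_mem_pCoreAut hg hmem
  rw [(FusionChain.isRadical_iff.1 hWr).2] at h1
  obtain ⟨y, hy⟩ := h1
  refine hcW ?_
  have hx : u y ∈ W' := hi.mem y.2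
  have hcx : (u y)⁻¹ * c ∈ centralizerIn S W' := by
    refine mem_centralizerIn_of_conj (S.mul_mem (S.inv_mem (hW'S hx)) hcN.1) fun v hv => ?_
    have h2 := congr_apply_coe hg (normConj S W' ⟨c, hcN⟩) ⟨v, hv⟩
    rw [← hy, normConj_apply] at h2
    have hgv := hg.mem hv
    have h4 : u ((y : Ω) * g v * (y : Ω)⁻¹) = c * v * c⁻¹ := by
      rw [show (y : Ω) * g v * (y : Ω)⁻¹ = g (c * v * c⁻¹) from h2, hgr _ (normalizerIn_conj hcN hv)]
    rw [hu'.map_conj y.2 hgv, hgr v hv] at h4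
    calc (u y)⁻¹ * c * v * ((u y)⁻¹ * c)⁻¹ = (u y)⁻¹ * (c * v * c⁻¹) * u y := by group
      _ = v := by rw [← h4]; group
  have h5 := W'.mul_mem hx (hC' hcx)
  rwa [mul_inv_cancel_left] at h5

omit [Finite S] [Fact p.Prime] h in
theorem ff_congr {P : Subgroup Ω} {f g : Ω → Ω} (hf : FF F p E P f) (e : ∀ x ∈ P, f x = g x) :
    FF F p E P g :=
  let ⟨α, hα, d, hd, he⟩ := hf
  ⟨α, hα, d, hd, fun x hx => (e x hx).symm.trans (he x hx)⟩

theorem ff_mono {P P' : Subgroup Ω} {f : Ω → Ω} (hf : FF F p E P f) (hle : P' ≤ P) : FF F p E P' f := by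
  obtain ⟨α, hα, d, hd, he⟩ := hf
  have hRS : P ⊔ T ≤ S := hα.le
  have hd' := (hd.mono (amb_self hRS le_sup_right) P' hle).enlarge le_rfl (le_sup_right : T ≤ P ⊔ T)
  obtain ⟨r, hr, d', hd'', he'⟩ := h.decomp hRS le_sup_right hd'
  have hle' : P' ⊔ T ≤ P ⊔ T := sup_le_sup_right hle T
  have hc : IsMap F (P' ⊔ T) (fun y => r * y * r⁻¹) := Fusion.IsMap.conj (hle'.trans hRS) (hRS hr)
  refine ⟨fun y => α (r * y * r⁻¹), hc.comp hα fun y hy => mul_mem (mul_mem hr (hle' hy)) (inv_mem hr),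
    d', hd'', fun x hx => ?_⟩
  rw [he x (hle hx), he' x hx]

theorem ff_comp {P P' : Subgroup Ω} {f g : Ω → Ω} (hfm : IsMap F P f) (hf : FF F p E P f)
    (hg : FF F p E P' g) (hm : ∀ x ∈ P, f x ∈ P') : FF F p E P (fun x => g (f x)) := by
  have hP'f : img f P ≤ P' := hfm.img_le le_rfl hm
  set P₁ := img f P with hP₁
  obtain ⟨α, hα, d, hd, he⟩ := hf
  obtain ⟨α', hα', d', hd', he'⟩ := h.ff_mono hg hP'f
  have hR₁S : P ⊔ T ≤ S := hα.le
  have hR₂S : P₁ ⊔ T ≤ S := hα'.le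
  have hA₁ := amb_self (F := F) (p := p) (E := E) hR₁S (le_sup_right : T ≤ P ⊔ T)
  have hA₂ := amb_self (F := F) (p := p) (E := E) hR₂S (le_sup_right : T ≤ P₁ ⊔ T)
  have hdm := hd.isMap hA₁
  have hdP : img d P ⊔ T = P ⊔ T := PSys.img_supT_of_disp h hdm (h.disp hR₁S le_sup_right hd).1
  have hdle : img d P ≤ P ⊔ T := hdm.img_le le_rfl (hd.mem hA₁)
  have himg : img α (img d P) = P₁ := by
    refine IsIso.img_eq_of hα hdle (fun y hy => ?_) fun z hz => ?_
    · obtain ⟨x, hx, rfl⟩ := (hdm.mem_img_iff le_rfl).1 hy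
      rw [← he x hx]
      exact hfm.mem_img hx
    · obtain ⟨x, hx, rfl⟩ := (hfm.mem_img_iff le_rfl).1 hz
      exact ⟨d x, hdm.mem_img hx, (he x hx).symm⟩
  have hαI : IsIso F (P ⊔ T) (P₁ ⊔ T) α := by
    refine ⟨hα, ?_⟩
    have hα' : IsMap F (img d P ⊔ T) α := hdP.symm ▸ hα
    rw [← hdP, h.img_supT hα', himg]
  obtain ⟨αi, hαi, hail, hair⟩ := hαI.symm
  have hd₂ := h.transport hR₂S le_sup_right le_sup_right hαi
    (fun t ht => h.map_T hαi.1 (Subgroup.mem_sup_right ht) ht) hd'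
    (fun y => αi (d' (α y))) fun x hx => by rw [hair x (Subgroup.mem_sup_left hx)]
  have himg' : img αi P₁ = img d P := by
    refine IsIso.img_eq_of hαi.1 le_sup_left (fun y hy => ?_) fun z hz => ?_
    · obtain ⟨x, hx, rfl⟩ := (hfm.mem_img_iff le_rfl).1 hy
      rw [he x hx, hail _ (hd.mem hA₁ x hx)]
      exact hdm.mem_img hx
    · obtain ⟨x, hx, rfl⟩ := (hdm.mem_img_iff le_rfl).1 hz
      exact ⟨f x, hfm.mem_img hx, by rw [he x hx, hail _ (hd.mem hA₁ x hx)]⟩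
  rw [himg'] at hd₂
  refine ⟨fun y => α' (α y), hα.comp hα' fun y hy => hαI.mem hy, fun x => αi (d' (α (d x))),
    (PGen.comp (g := fun y => αi (d' (α y))) hd hd₂).congr fun _ _ => rfl, fun x hx => ?_⟩
  show g (f x) = α' (α (αi (d' (α (d x)))))
  rw [← he x hx, hair _ (hd'.mem hA₂ _ (hfm.mem_img hx)), ← he' _ (hfm.mem_img hx)]

theorem ff_inv {P P' : Subgroup Ω} {f fi : Ω → Ω} (hfI : IsIso F P P' f) (hf : FF F p E P f)
    (hfi : ∀ x ∈ P, fi (f x) = x) : FF F p E P' fi := by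
  obtain ⟨α, hα, d, hd, he⟩ := hf
  have hR₁S : P ⊔ T ≤ S := hα.le
  have hA₁ := amb_self (F := F) (p := p) (E := E) hR₁S (le_sup_right : T ≤ P ⊔ T)
  have hdm := hd.isMap hA₁
  have hdP : img d P ⊔ T = P ⊔ T := PSys.img_supT_of_disp h hdm (h.disp hR₁S le_sup_right hd).1
  have hdle : img d P ≤ P ⊔ T := hdm.img_le le_rfl (hd.mem hA₁)
  obtain ⟨di, hdi, hdil, -⟩ := hdm.isIso.symm
  have hds := hd.symm hA₁ di hdil
  have himg : img α (img d P) = P' := by
    refine IsIso.img_eq_of hα hdle (fun y hy => ?_) fun z hz => ?_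
    · obtain ⟨x, hx, rfl⟩ := (hdm.mem_img_iff le_rfl).1 hy
      rw [← he x hx]
      exact hfI.mem hx
    · obtain ⟨x, hx, rfl⟩ := hfI.exists_eq hz
      exact ⟨d x, hdm.mem_img hx, (he x hx).symm⟩
  have hαI : IsIso F (P ⊔ T) (P' ⊔ T) α := by
    refine ⟨hα, ?_⟩
    have hα' : IsMap F (img d P ⊔ T) α := hdP.symm ▸ hα
    rw [← hdP, h.img_supT hα', himg]
  obtain ⟨αi, hαi, hail, -⟩ := hαI.symm
  have hd₂ := h.transport hR₁S le_sup_right le_sup_right hαI
    (fun t ht => h.map_T hα (Subgroup.mem_sup_right ht) ht) hds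
    (fun y => α (di (αi y))) fun x hx => by rw [hail x (hdle hx)]
  rw [himg] at hd₂
  refine ⟨αi, hαi.1, fun y => α (di (αi y)), hd₂, fun y hy => ?_⟩
  obtain ⟨x, hx, rfl⟩ := hfI.exists_eq hy
  show fi (f x) = αi (α (di (αi (f x))))
  rw [hfi x hx, he x hx, hail _ (hd.mem hA₁ x hx), hdil x hx, hail x (Subgroup.mem_sup_left hx)]

omit [Fact p.Prime] in
theorem ff_conj {P : Subgroup Ω} (hP : P ≤ S) {s : Ω} (hs : s ∈ S) :
    FF F p E P (fun x => s * x * s⁻¹) :=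
  ⟨fun x => s * x * s⁻¹, Fusion.IsMap.conj (sup_le hP h.T_le) hs, fun x => x, PGen.id le_sup_left,
    fun _ _ => rfl⟩

/-- The Frattini property. -/
theorem frattini {P : Subgroup Ω} {f : Ω → Ω} (hf : IsMap F P f) : FF F p E P f := by
  refine FusionChain.alperin_induction h.pgroup h.sat (FF F p E) (fun _ _ _ _ hf e => ff_congr hf e)
    (fun _ _ _ _ hle hf => h.ff_mono hf hle) (fun _ _ _ _ hfm _ hm hf hg => h.ff_comp hfm hf hg hm) ?_ hf
  intro R hR hc hr γ hγ hbig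
  have hRS := hR.1
  have := finite_of_le hRS
  have := finite_mulAut (S := S) hRS
  have hγm : IsMap F R (autFn γ) := (mem_autGroup_iff hRS).1 hγ
  by_cases hTR : T ≤ R
  · have e : R ⊔ T = R := sup_eq_left.2 hTR
    exact ⟨autFn γ, e.symm ▸ hγm, fun x => x, PGen.id le_sup_left, fun _ _ => rfl⟩
  have hH : InH E (R ⊔ T) R := ⟨le_sup_left, h.inH_of_radical hc hr⟩
  let H : Subgroup (MulAut R) :=
    { carrier := {a | a ∈ F.autGroup R ∧ FF F p E R (autFn a)}
      one_mem' := ⟨one_mem _, ff_congr (h.ff_conj hRS S.one_mem) fun x hx => by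
        rw [autFn_apply _ hx]; simp⟩
      mul_mem' := fun {a b} ha hb => ⟨mul_mem ha.1 hb.1,
        ff_congr (h.ff_comp ((mem_autGroup_iff hRS).1 hb.1) hb.2 ha.2 fun x hx => autFn_mem b hx)
          fun x hx => (autFn_mul a b hx).symm⟩
      inv_mem' := fun {a} ha => ⟨inv_mem ha.1,
        h.ff_inv (isIso_autFn hRS ha.1) ha.2 fun x hx => autFn_inv_self a hx⟩ }
  have hAF : Ac F E R ≤ F.autGroup R := fun a ha => ha.1
  have hSylA : IsSylowIn p (autInducedBy S R ⊓ Ac F E R) (Ac F E R) :=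
    (isFullyAutomized_iff.1 (fullyAutomized_of_fullyNormalized h.pgroup h.sat hR)).2.inf_normal hAF
      fun g hg a ha => h.ac_normal hRS hg ha
  have hAH : Ac F E R ≤ H := by
    refine FusionNormal.autGroup_le_of_sylow_pResidual hSylA (fun z hz => ⟨hAF hz.2, ?_⟩)
      fun n hn hnc => ⟨hAF hn, ?_⟩
    · obtain ⟨s, hs, hse⟩ := mem_autInducedBy_iff.1 hz.1
      exact ff_congr (h.ff_conj hRS hs) fun x hx => by rw [autFn_apply z hx, hse]
    · exact ⟨fun x => x, Fusion.IsMap.id (sup_le hRS h.T_le), autFn n,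
        PGen.aut hH Nat.card_pos hn hnc le_rfl, fun _ _ => rfl⟩
  obtain ⟨a, ha, haZ⟩ := hSylA.exists_conj_le (hSylA.isPGroup.map (MulAut.conj γ).toMonoidHom) (by
    rintro _ ⟨z, hz, rfl⟩
    exact h.ac_normal hRS hγ hz.2)
  have haγ : a * γ ∈ F.autGroup R := mul_mem (hAF ha) hγ
  obtain ⟨g, hg, hge, -⟩ := FusionChain.exists_extension_NK
    (receptive_of_fullyNormalized h.pgroup h.sat hR) haγ (Ac F E R) fun z hz => by
      have := haZ _ ⟨z, hz, rfl⟩
      simpa [mul_assoc] using this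
  have hlt : R < R ⊔ NK S R (Ac F E R) := by
    refine left_lt_sup.2 fun hle => hTR fun t₀ ht₀ => ?_
    by_contra ht₀R
    have hlt : R < T ⊔ R := lt_of_le_of_ne le_sup_right fun e => ht₀R (e.symm ▸ Subgroup.mem_sup_left ht₀)
    obtain ⟨m, hm, hmR⟩ := SetLike.exists_of_lt (lt_normalizerIn h.pgroup (sup_le h.T_le hRS) hlt)
    have hnorm : R ≤ Subgroup.normalizer (T : Set Ω) := fun r hr => Subgroup.mem_normalizer_iff.2 fun t =>
      ⟨h.conj_T (hRS hr), fun ht => by simpa [mul_assoc] using h.conj_T_inv (hRS hr) ht⟩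
    have hm' : m ∈ (T : Set Ω) * (R : Set Ω) := by
      rw [← Subgroup.coe_mul_of_right_le_normalizer_left T R hnorm]
      exact hm.1
    obtain ⟨t, ht, r, hr, rfl⟩ := hm'
    refine hmR (R.mul_mem (hle ?_) hr)
    have htN : t ∈ normalizerIn S R := by
      have hmS : t * r ∈ normalizerIn S R := ⟨S.mul_mem (h.T_le ht) (hRS hr), hm.2⟩
      simpa using (normalizerIn S R).mul_mem hmS ((normalizerIn S R).inv_mem (le_normalizerIn hRS hr))
    exact mem_NK.2 ⟨htN.1, normConj S R ⟨t, htN⟩,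
      h.autT_le_Ac hRS (mem_autInducedBy_iff.2 ⟨t, ht, fun x => normConj_apply _ _⟩),
      fun x => normConj_apply _ _⟩
  have h1 : FF F p E R g := h.ff_mono (hbig _ g hg (FusionCrit.card_lt hg.le hlt)) hlt.le
  have h2 : a * γ ∈ H := ⟨haγ, ff_congr h1 hge⟩
  have h3 := mul_mem (inv_mem (hAH ha)) h2
  rw [inv_mul_cancel_left] at h3
  exact h3.2

end PSys

end Cfsg.Agent.FusionProdR
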