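import Cfsg.Agent.Lib.FusionProdR.Sylow

/-
The maps generated over `R` by conjugations from `K` and elements of order prime to `p` of `Ac`.
Main results (namespace `Cfsg.Agent.FusionProdR`): `PGen`, `prodSys`, `PSys.transport`, `PSys.disp`, `PSys.decomp`,
`PSys.mem_Ac_of_gen`.
-/

set_option autoImplicit false

namespace Cfsg.Agent.FusionProdR

open Cfsg Cfsg.Agent.Fusion
open Cfsg.FusionSystem hiding inv_mem
open Cfsg.Agent.FusionCrit (autFn_mul autFn_inv_self autFn_self_inv)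

variable {Ω : Type*} [Group Ω] {S T T' : Subgroup Ω}

/-- The generated maps, with pieces of order greater than `k`. -/
inductive PGen (F : FusionSystem S) (p : ℕ) (E : FusionSystem T) (R K : Subgroup Ω) (k : ℕ) :
    Subgroup Ω → (Ω → Ω) → Prop
  | aut {P Q : Subgroup Ω} {n : MulAut Q} : InH E R Q → k < Nat.card Q → n ∈ Ac F E Q →
      (orderOf n).Coprime p → P ≤ Q → PGen F p E R K k P (autFn n)
  | conj {P : Subgroup Ω} {r : Ω} : P ≤ R → r ∈ K → PGen F p E R K k P (fun x => r * x * r⁻¹)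
  | comp {P : Subgroup Ω} {f g : Ω → Ω} : PGen F p E R K k P f → PGen F p E R K k (img f P) g →
      PGen F p E R K k P (fun x => g (f x))
  | congr {P : Subgroup Ω} {f g : Ω → Ω} : PGen F p E R K k P f → (∀ x ∈ P, f x = g x) →
      PGen F p E R K k P g

variable {F : FusionSystem S} {p : ℕ} {E : FusionSystem T} {R K : Subgroup Ω} {k : ℕ}

/-- A system containing the generators. -/
structure Amb (F : FusionSystem S) (p : ℕ) (E : FusionSystem T) (R K : Subgroup Ω)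
    (U : FusionSystem T') : Prop where
  R_le : R ≤ T'
  K_le : K ≤ R
  piece : ∀ (Q : Subgroup Ω) (n : MulAut Q), InH E R Q → n ∈ Ac F E Q → (orderOf n).Coprime p →
    IsMap U Q (autFn n)

theorem amb_self (hRS : R ≤ S) (hKR : K ≤ R) : Amb F p E R K F :=
  ⟨hRS, hKR, fun _ _ hQ hn _ => (mem_autGroup_iff (hQ.1.trans hRS)).1 hn.1⟩

namespace PGen

theorem le {P : Subgroup Ω} {f : Ω → Ω} (h : PGen F p E R K k P f) : P ≤ R := by
  induction h with
  | aut hc _ _ _ hP => exact hP.trans hc.1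
  | conj hP _ => exact hP
  | comp _ _ ih1 _ => exact ih1
  | congr _ _ ih => exact ih

theorem isMap {U : FusionSystem T'} (hU : Amb F p E R K U) {P : Subgroup Ω} {f : Ω → Ω}
    (h : PGen F p E R K k P f) : IsMap U P f := by
  induction h with
  | aut hc _ hn hp hP => exact (hU.piece _ _ hc hn hp).mono hP
  | conj hP hr => exact Fusion.IsMap.conj (hP.trans hU.R_le) (hU.R_le (hU.K_le hr))
  | comp _ _ ih1 ih2 => exact ih1.comp ih2 fun x hx => ih1.mem_img hx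
  | congr _ e ih => exact ih.congr e

theorem id {P : Subgroup Ω} (hP : P ≤ R) : PGen F p E R K k P (fun x => x) :=
  (PGen.conj hP (one_mem _)).congr fun x _ => by group

theorem mem {U : FusionSystem T'} (hU : Amb F p E R K U) {P : Subgroup Ω} {f : Ω → Ω}
    (h : PGen F p E R K k P f) : ∀ x ∈ P, f x ∈ R := by
  induction h with
  | aut hc _ _ _ hP => exact fun x hx => hc.1 (autFn_mem _ (hP hx))
  | conj hP hr => exact fun x hx => mul_mem (mul_mem (hU.K_le hr) (hP hx)) (inv_mem (hU.K_le hr))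
  | @comp P f g h1 _ _ ih2 => exact fun x hx => ih2 (f x) ((h1.isMap hU).mem_img hx)
  | congr _ e ih => exact fun x hx => e x hx ▸ ih x hx

theorem mono {U : FusionSystem T'} (hU : Amb F p E R K U) {P : Subgroup Ω} {f : Ω → Ω}
    (h : PGen F p E R K k P f) : ∀ P' : Subgroup Ω, P' ≤ P → PGen F p E R K k P' f := by
  induction h with
  | aut hc hk hn hp hP => exact fun P' h => PGen.aut hc hk hn hp (h.trans hP)
  | conj hP hr => exact fun P' h => PGen.conj (h.trans hP) hr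
  | @comp P f g h1 _ ih1 ih2 =>
    intro P' h
    exact PGen.comp (ih1 P' h)
      (ih2 _ ((h1.isMap hU).img_le h fun x hx => (h1.isMap hU).mem_img (h hx)))
  | congr _ e ih => exact fun P' h => (ih P' h).congr fun x hx => e x (h hx)

theorem comp_of_le {U : FusionSystem T'} (hU : Amb F p E R K U) {P P' : Subgroup Ω} {f g : Ω → Ω}
    (hf : PGen F p E R K k P f) (hg : PGen F p E R K k P' g) (h : ∀ x ∈ P, f x ∈ P') :
    PGen F p E R K k P (fun x => g (f x)) :=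
  PGen.comp hf (hg.mono hU _ ((hf.isMap hU).img_le le_rfl h))

theorem symm {U : FusionSystem T'} (hU : Amb F p E R K U) {P : Subgroup Ω} {f : Ω → Ω}
    (h : PGen F p E R K k P f) :
    ∀ g : Ω → Ω, (∀ x ∈ P, g (f x) = x) → PGen F p E R K k (img f P) g := by
  induction h with
  | @aut P Q n hc hk hn hp hP =>
    intro g hg
    have hm := hU.piece _ _ hc hn hp
    refine (PGen.aut hc hk (inv_mem hn) (by rwa [orderOf_inv])
      (hm.img_le hP fun x hx => autFn_mem n (hP hx))).congr fun y hy => ?_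
    obtain ⟨x, hx, rfl⟩ := (hm.mem_img_iff hP).1 hy
    rw [hg x hx, autFn_inv_self n (hP hx)]
  | @conj P t hP ht =>
    intro g hg
    have ht' := hU.K_le ht
    have hm : IsMap U P (fun x => t * x * t⁻¹) := Fusion.IsMap.conj (hP.trans hU.R_le) (hU.R_le ht')
    refine (PGen.conj (hm.img_le le_rfl fun x hx => mul_mem (mul_mem ht' (hP hx)) (inv_mem ht'))
      (inv_mem ht)).congr fun y hy => ?_
    obtain ⟨x, hx, rfl⟩ := (hm.mem_img_iff le_rfl).1 hy
    rw [hg x hx]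
    group
  | @comp P f₁ f₂ h₁ h₂ ih₁ ih₂ =>
    intro m hm
    obtain ⟨i, hi, hil, -⟩ := (h₁.isMap hU).isIso.symm
    obtain ⟨j, hj, hjl, -⟩ := (h₂.isMap hU).isIso.symm
    have c₁ := ih₁ i hil
    rw [((h₁.isMap hU).isIso.trans (h₂.isMap hU).isIso).2]
    refine ((ih₂ j hjl).comp_of_le hU c₁ fun y hy => hj.mem hy).congr fun y hy => ?_
    obtain ⟨z, hz, rfl⟩ := ((h₂.isMap hU).mem_img_iff le_rfl).1 hy
    obtain ⟨x, hx, rfl⟩ := ((h₁.isMap hU).mem_img_iff le_rfl).1 hz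
    rw [hjl _ hz, hil x hx, hm x hx]
  | @congr P f₁ f₂ _ e ih =>
    intro g hg
    rw [← img_congr e]
    exact ih g fun x hx => by rw [e x hx, hg x hx]

theorem weaken {k' : ℕ} {P : Subgroup Ω} {f : Ω → Ω} (h : PGen F p E R K k P f) (hk : k' ≤ k) :
    PGen F p E R K k' P f := by
  induction h with
  | aut hc hk' hn hp hP => exact PGen.aut hc (hk.trans_lt hk') hn hp hP
  | conj hP hr => exact PGen.conj hP hr
  | comp _ _ ih₁ ih₂ => exact PGen.comp ih₁ ih₂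
  | congr _ e ih => exact ih.congr e

theorem enlarge {R' K' : Subgroup Ω} (hR : R ≤ R') (hK : K ≤ K') {P : Subgroup Ω} {f : Ω → Ω}
    (h : PGen F p E R K k P f) : PGen F p E R' K' k P f := by
  induction h with
  | aut hc hk hn hp hP => exact PGen.aut ⟨hc.1.trans hR, hc.2⟩ hk hn hp hP
  | conj hP hr => exact PGen.conj (hP.trans hR) (hK hr)
  | comp _ _ ih₁ ih₂ => exact PGen.comp ih₁ ih₂
  | congr _ e ih => exact ih.congr e

end PGen

/-- The generated system over `R`. -/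
def prodSys (F : FusionSystem S) (p : ℕ) (E : FusionSystem T) (hRS : R ≤ S) (k : ℕ) : FusionSystem R where
  Hom P := {φ | PGen F p E R R k P (toFn φ)}
  le_of_mem h := ⟨h.le, fun x => by
    have := h.mem (amb_self hRS le_rfl) x x.2
    rwa [toFn_coe] at this⟩
  injective_of_mem h a b e := Subtype.ext ((h.isMap (amb_self hRS le_rfl)).inj a.2 b.2 (by
    rw [toFn_coe, toFn_coe, e]))
  conj_mem {P g} hP hg := (PGen.conj hP hg).congr fun x hx => ((toFn_apply (conjHom P g) hx).trans rfl).symm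
  comp_mem {P Q φ ψ} hφ hψ h := by
    refine (hφ.comp_of_le (amb_self hRS le_rfl) hψ fun x hx => (toFn_apply φ hx).symm ▸ h ⟨x, hx⟩).congr
      fun x hx => ?_
    rw [toFn_apply (ψ.comp (φ.codRestrict Q h)) hx, toFn_apply φ hx, toFn_apply ψ (h ⟨x, hx⟩)]
    rfl
  inv_mem {P φ} hφ := by
    obtain ⟨ψ, hψ, hinv⟩ := F.inv_mem
      (mem_of_isMap (hφ.isMap (amb_self hRS le_rfl)) fun x => (toFn_coe φ x).symm)
    refine ⟨ψ, ?_, hinv⟩
    have hs := hφ.symm (amb_self hRS le_rfl) (toFn ψ) fun x hx => by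
      rw [toFn_apply φ hx, toFn_apply ψ (show φ ⟨x, hx⟩ ∈ φ.range from ⟨_, rfl⟩)]
      exact hinv ⟨x, hx⟩
    rwa [toFn_img] at hs

theorem isMap_prodSys {hRS : R ≤ S} {P : Subgroup Ω} {f : Ω → Ω} :
    IsMap (prodSys F p E hRS k) P f ↔ PGen F p E R R k P f := by
  constructor
  · rintro ⟨φ, hφ, e⟩
    exact PGen.congr hφ fun x hx => (toFn_apply φ hx).trans (e x hx)
  · intro h
    obtain ⟨φ, -, e⟩ := h.isMap (amb_self hRS le_rfl)
    exact ⟨φ, h.congr fun x hx => ((toFn_apply φ hx).trans (e x hx)).symm, e⟩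

theorem prodSys_sub {hRS : R ≤ S} : (prodSys F p E hRS k).IsSubsystemOf F := fun _ φ hφ =>
  mem_of_isMap (PGen.isMap (amb_self hRS le_rfl) hφ) fun x => (toFn_coe φ x).symm

namespace PSys

variable [Finite S] [Fact p.Prime] (h : PSys F p E)

include h

omit [Fact p.Prime] in
/-- The image of `P T` is the image of `P` times `T`. -/
theorem img_supT {P : Subgroup Ω} {α : Ω → Ω} (hα : IsMap F (P ⊔ T) α) :
    img α (P ⊔ T) = img α P ⊔ T := by
  have hTT : img α T = T := eq_of_le_of_card h.T_le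
    (hα.img_le le_sup_right fun x hx => h.map_T hα (Subgroup.mem_sup_right hx) hx)
    (hα.card_img le_sup_right).ge
  refine le_antisymm (hα.img_le le_rfl fun x hx => ?_) (sup_le ?_ ?_)
  · exact hα.forall_mem_sup le_sup_left le_sup_right
      (fun y hy => Subgroup.mem_sup_left (hα.mem_img hy))
      (fun y hy => Subgroup.mem_sup_right (h.map_T hα (Subgroup.mem_sup_right hy) hy)) hx
  · exact hα.img_le le_sup_left fun x hx => hα.mem_img (Subgroup.mem_sup_left hx)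
  · exact hTT.ge.trans (hα.img_le le_sup_right fun x hx => hα.mem_img (Subgroup.mem_sup_right hx))

omit [Finite S] [Fact p.Prime] in
/-- Transport by an isomorphism of the groups `R`. -/
theorem transport {R₂ K₂ : Subgroup Ω} (hRS : R ≤ S) (hKR : K ≤ R) (hK₂ : K₂ ≤ R₂) {α : Ω → Ω}
    (hα : IsIso F R R₂ α) (hαK : ∀ r ∈ K, α r ∈ K₂) {P : Subgroup Ω} {f : Ω → Ω}
    (hf : PGen F p E R K k P f) :
    ∀ g : Ω → Ω, (∀ x ∈ P, g (α x) = α (f x)) → PGen F p E R₂ K₂ k (img α P) g := by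
  have hF := amb_self (F := F) (p := p) (E := E) hRS hKR
  have hF₂ := amb_self (F := F) (p := p) (E := E) hα.le_right hK₂
  obtain ⟨ai, -, hail, -⟩ := hα.symm
  have hm := hα.1
  induction hf with
  | @aut P Q n hc hk hn hp hPQ =>
    intro g hg
    have hiso : IsIso F Q (img α Q) α := ⟨hm.mono hc.1, rfl⟩
    refine (PGen.aut (h.inH_iso hc hiso (hm.img_le hc.1 fun x hx => hα.mem (hc.1 hx)))
      (hiso.card_eq.symm ▸ hk) (h.ac_congr hiso hn)
      (((MulAut.congr hiso.equiv).orderOf_eq n).symm ▸ hp)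
      (hm.img_le (hPQ.trans hc.1) fun x hx => hm.mem_img (hPQ hx))).congr fun y hy => ?_
    obtain ⟨x, hx, rfl⟩ := (hm.mem_img_iff (hPQ.trans hc.1)).1 hy
    rw [hg x hx, autFn_apply _ (hiso.mem (hPQ hx)), autFn_apply n (hPQ hx)]
    exact congr_apply_coe hiso n ⟨x, hPQ hx⟩
  | @conj P r hP hr =>
    intro g hg
    refine (PGen.conj (hm.img_le hP fun x hx => hα.mem (hP hx)) (hαK r hr)).congr fun y hy => ?_
    obtain ⟨x, hx, rfl⟩ := (hm.mem_img_iff hP).1 hy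
    rw [hg x hx, hm.map_conj (hKR hr) (hP hx)]
  | @comp P f₁ f₂ h₁ h₂ ih₁ ih₂ =>
    intro g hg
    have hP := h₁.le
    have hf₁ := h₁.isMap hF
    set g₁ := fun y => α (f₁ (ai y))
    have e₁ : ∀ x ∈ P, g₁ (α x) = α (f₁ x) := fun x hx => by
      show α (f₁ (ai (α x))) = _
      rw [hail x (hP hx)]
    have c₁ := ih₁ g₁ e₁
    have hf₂R : img f₁ P ≤ R := hf₁.img_le le_rfl (h₁.mem hF)
    have himg : img g₁ (img α P) = img α (img f₁ P) := by
      refine IsIso.img_eq_of (c₁.isMap hF₂) le_rfl (fun y hy => ?_) fun z hz => ?_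
      · obtain ⟨x, hx, rfl⟩ := (hm.mem_img_iff hP).1 hy
        rw [e₁ x hx]
        exact hm.mem_img (hf₁.mem_img hx)
      · obtain ⟨w, hw, rfl⟩ := (hm.mem_img_iff hf₂R).1 hz
        obtain ⟨x, hx, rfl⟩ := (hf₁.mem_img_iff le_rfl).1 hw
        exact ⟨α x, hm.mem_img hx, e₁ x hx⟩
    set g₂ := fun y => α (f₂ (ai y))
    have e₂ : ∀ x ∈ img f₁ P, g₂ (α x) = α (f₂ x) := fun x hx => by
      show α (f₂ (ai (α x))) = _
      rw [hail x (hf₂R hx)]
    have c₂ := ih₂ g₂ e₂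
    rw [← himg] at c₂
    refine (PGen.comp c₁ c₂).congr fun y hy => ?_
    obtain ⟨x, hx, rfl⟩ := (hm.mem_img_iff hP).1 hy
    show g₂ (g₁ (α x)) = g (α x)
    rw [e₁ x hx, e₂ _ (hf₁.mem_img hx), hg x hx]
  | @congr P f₁ f₂ _ e ih =>
    intro g hg
    exact ih g fun x hx => by rw [hg x hx, e x hx]

omit [Finite S] [Fact p.Prime] in
/-- Without conjugations from outside `T` the maps are trivial modulo `T` and in `E` inside `T`. -/
theorem disp (hRS : R ≤ S) (hTR : T ≤ R) {P : Subgroup Ω} {f : Ω → Ω} (hf : PGen F p E R T k P f) :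
    (∀ x ∈ P, x⁻¹ * f x ∈ T) ∧ IsMap E (P ⊓ T) f := by
  have hF := amb_self (F := F) (p := p) (E := E) hRS hTR
  induction hf with
  | @aut P Q n _ _ hn _ hPQ =>
    exact ⟨fun x hx => hn.2.1 x (hPQ hx), hn.2.2.mono (inf_le_inf_right T hPQ)⟩
  | @conj P r hP hr =>
    refine ⟨fun x hx => ?_, Fusion.IsMap.conj inf_le_right hr⟩
    rw [show x⁻¹ * (r * x * r⁻¹) = x⁻¹ * r * x * r⁻¹ by group]
    exact T.mul_mem (h.conj_T_inv (hRS (hP hx)) hr) (T.inv_mem hr)
  | @comp P f g h₁ _ ih₁ ih₂ =>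
    refine ⟨fun x hx => ?_, ih₁.2.comp ih₂.2 fun x hx =>
      ⟨(h₁.isMap hF).mem_img hx.1, ih₁.2.mem hx⟩⟩
    rw [show x⁻¹ * g (f x) = (x⁻¹ * f x) * ((f x)⁻¹ * g (f x)) by group]
    exact T.mul_mem (ih₁.1 x hx) (ih₂.1 _ ((h₁.isMap hF).mem_img hx))
  | @congr P f g _ e ih =>
    exact ⟨fun x hx => e x hx ▸ ih.1 x hx, ih.2.congr fun x hx => e x hx.1⟩

omit [Fact p.Prime] in
theorem img_supT_of_disp {P : Subgroup Ω} {d : Ω → Ω} (hd : IsMap F P d) (he : ∀ x ∈ P, x⁻¹ * d x ∈ T) :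
    img d P ⊔ T = P ⊔ T := by
  refine le_antisymm (sup_le (hd.img_le le_rfl fun x hx => ?_) le_sup_right)
    (sup_le (fun x hx => ?_) le_sup_right)
  · rw [show d x = x * (x⁻¹ * d x) by group]
    exact mul_mem (Subgroup.mem_sup_left hx) (Subgroup.mem_sup_right (he x hx))
  · rw [show x = d x * (x⁻¹ * d x)⁻¹ by group]
    exact mul_mem (Subgroup.mem_sup_left (hd.mem_img hx)) (Subgroup.mem_sup_right (inv_mem (he x hx)))

/-- A generated map is a conjugation from `R` after a map generated inside `P T`. -/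
theorem decomp (hRS : R ≤ S) (hTR : T ≤ R) {P : Subgroup Ω} {f : Ω → Ω} (hf : PGen F p E R R k P f) :
    ∃ r ∈ R, ∃ d, PGen F p E (P ⊔ T) T 0 P d ∧ ∀ x ∈ P, f x = r * d x * r⁻¹ := by
  have hF := amb_self (F := F) (p := p) (E := E) hRS le_rfl
  induction hf with
  | @aut P Q n hc _ hn hp hPQ =>
    set Q' := Q ⊓ (P ⊔ T)
    have hQS : Q ≤ S := hc.1.trans hRS
    have hst : ∀ x ∈ Q', autFn n x ∈ Q' := fun x hx => Subgroup.mem_inf.2 ⟨autFn_mem n hx.1, by
      rw [show autFn n x = x * (x⁻¹ * autFn n x) by group]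
      exact mul_mem hx.2 (Subgroup.mem_sup_right (hn.2.1 x hx.1))⟩
    obtain ⟨n', hn', hn'e, hn'o⟩ := h.restrict_ac hQS inf_le_left hn hst
    have hQ'T : Q' ⊓ T = Q ⊓ T := le_antisymm (inf_le_inf_right T inf_le_left)
      (le_inf (le_inf inf_le_left (inf_le_right.trans le_sup_right)) inf_le_right)
    have := finite_of_le (S := S) (P := Q') (inf_le_left.trans hQS)
    refine ⟨1, one_mem R, autFn n', PGen.aut ⟨inf_le_right, hQ'T ▸ hc.2⟩ Nat.card_pos hn'
      (Nat.Coprime.coprime_dvd_left hn'o hp) (le_inf hPQ le_sup_left), fun x hx => ?_⟩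
    rw [hn'e x (Subgroup.mem_inf.2 ⟨hPQ hx, Subgroup.mem_sup_left hx⟩)]
    group
  | @conj P r hP hr => exact ⟨r, hr, fun x => x, PGen.id le_sup_left, fun x _ => rfl⟩
  | @comp P f₁ f₂ h₁ h₂ ih₁ ih₂ =>
    obtain ⟨r₁, hr₁, d₁, hd₁, e₁⟩ := ih₁
    obtain ⟨r₂, hr₂, d₂, hd₂, e₂⟩ := ih₂
    set P₁ := img f₁ P
    set R₁ := P ⊔ T
    set R₂ := P₁ ⊔ T
    have hm₁ : IsMap F P f₁ := h₁.isMap hF
    have hP₁R : P₁ ≤ R := hm₁.img_le le_rfl (h₁.mem hF)
    have hR₁S : R₁ ≤ S := (sup_le h₁.le hTR).trans hRS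
    have hR₂S : R₂ ≤ S := (sup_le hP₁R hTR).trans hRS
    have hA₁ := amb_self (F := F) (p := p) (E := E) hR₁S (le_sup_right : T ≤ R₁)
    have hd₁m : IsMap F P d₁ := hd₁.isMap hA₁
    have hd₁P : img d₁ P ⊔ T = R₁ := h.img_supT_of_disp hd₁m (h.disp hR₁S le_sup_right hd₁).1
    have hβ : IsMap F R₂ (fun x => r₁⁻¹ * x * r₁⁻¹⁻¹) := Fusion.IsMap.conj hR₂S (S.inv_mem (hRS hr₁))
    have hβP : img (fun x => r₁⁻¹ * x * r₁⁻¹⁻¹) P₁ = img d₁ P := by
      refine IsIso.img_eq_of hβ le_sup_left (fun y hy => ?_) fun z hz => ?_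
      · obtain ⟨x, hx, rfl⟩ := (hm₁.mem_img_iff le_rfl).1 hy
        rw [e₁ x hx, show r₁⁻¹ * (r₁ * d₁ x * r₁⁻¹) * r₁⁻¹⁻¹ = d₁ x by group]
        exact hd₁m.mem_img hx
      · obtain ⟨x, hx, rfl⟩ := (hd₁m.mem_img_iff le_rfl).1 hz
        exact ⟨f₁ x, hm₁.mem_img hx, by rw [e₁ x hx]; group⟩
    have hβI : IsIso F R₂ R₁ (fun x => r₁⁻¹ * x * r₁⁻¹⁻¹) := ⟨hβ, by rw [h.img_supT hβ, hβP, hd₁P]⟩
    have hd₂' := h.transport hR₂S le_sup_right le_sup_right hβI
      (fun t ht => h.map_T hβ (Subgroup.mem_sup_right ht) ht) hd₂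
      (fun y => r₁⁻¹ * d₂ (r₁ * y * r₁⁻¹) * r₁) fun x _ => by
        rw [show r₁ * (r₁⁻¹ * x * r₁⁻¹⁻¹) * r₁⁻¹ = x by group, inv_inv]
    rw [hβP] at hd₂'
    refine ⟨r₂ * r₁, mul_mem hr₂ hr₁, fun x => r₁⁻¹ * d₂ (r₁ * d₁ x * r₁⁻¹) * r₁,
      PGen.comp hd₁ hd₂', fun x hx => ?_⟩
    show f₂ (f₁ x) = _
    rw [e₂ _ (hm₁.mem_img hx), e₁ x hx]
    group
  | @congr P f g _ e ih =>
    obtain ⟨r, hr, d, hd, he⟩ := ih
    exact ⟨r, hr, d, hd, fun x hx => (e x hx).symm.trans (he x hx)⟩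

omit [Fact p.Prime] in
theorem exists_conj_aut {s : Ω} (hs : s ∈ S) :
    ∃ γ ∈ F.autGroup T, ∀ x ∈ T, autFn γ x = s * x * s⁻¹ := by
  have hm : IsMap F T (fun x => s * x * s⁻¹) := Fusion.IsMap.conj h.T_le hs
  obtain ⟨γ, hγ, he⟩ := exists_aut_of_isIso (⟨hm, eq_of_le_of_card h.T_le
    (hm.img_le le_rfl fun x hx => h.conj_T hs hx) (hm.card_img le_rfl).ge⟩ :
    IsIso F T T (fun x => s * x * s⁻¹))
  exact ⟨γ, hγ, fun x hx => (autFn_apply γ hx).trans (he ⟨x, hx⟩)⟩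

omit [Fact p.Prime] in
/-- Maps of `E` conjugated by elements of `S` are maps of `E`. -/
theorem conj_E {P P' : Subgroup Ω} {f : Ω → Ω} (hf : IsMap E P f) {s : Ω} (hs : s ∈ S)
    (hP' : ∀ y ∈ P', s⁻¹ * y * s ∈ P) : IsMap E P' (fun y => s * f (s⁻¹ * y * s) * s⁻¹) := by
  obtain ⟨γ, hγ, hγe⟩ := h.exists_conj_aut hs
  obtain ⟨g, hg, hge⟩ := FusionNormal.transport_map h.inv hf.le hf hγ
  have hmem : ∀ y ∈ P', y ∈ img (autFn γ) P := fun y hy => by
    have := Subgroup.subset_closure (k := autFn γ '' (P : Set Ω)) ⟨_, hP' y hy, rfl⟩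
    rwa [hγe _ (hf.le (hP' y hy)), show s * (s⁻¹ * y * s) * s⁻¹ = y by group] at this
  refine (hg.mono fun y hy => hmem y hy).congr fun y hy => ?_
  have h1 := hge _ (hP' y hy)
  rwa [hγe _ (hf.le (hP' y hy)), show s * (s⁻¹ * y * s) * s⁻¹ = y by group,
    hγe _ (hf.mem (hP' y hy))] at h1

/-- An automorphism of order prime to `p` made of generated maps lies in `Ac`. -/
theorem mem_Ac_of_gen (hRS : R ≤ S) (hTR : T ≤ R) {P : Subgroup Ω} {a : MulAut P}
    (ha : PGen F p E R R k P (autFn a)) (hac : (orderOf a).Coprime p) : a ∈ Ac F E P := by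
  have hF := amb_self (F := F) (p := p) (E := E) hRS le_rfl
  have hPS : P ≤ S := ha.le.trans hRS
  obtain ⟨r, hr, d, hd, he⟩ := h.decomp hRS hTR ha
  have hPTS : P ⊔ T ≤ S := sup_le hPS h.T_le
  obtain ⟨hdisp, hdE⟩ := h.disp hPTS le_sup_right hd
  have hrS : r ∈ S := hRS hr
  have hconjT : ∀ {s : Ω}, s ∈ S → ∀ {x y : Ω}, x⁻¹ * y ∈ T → (s * x * s⁻¹)⁻¹ * (s * y * s⁻¹) ∈ T :=
    fun {s} hs {x y} hxy => by
      rw [show (s * x * s⁻¹)⁻¹ * (s * y * s⁻¹) = s * (x⁻¹ * y) * s⁻¹ by group]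
      exact h.conj_T hs hxy
  have hpow : ∀ (j : ℕ), ∀ x ∈ P, (r ^ j * x * (r ^ j)⁻¹)⁻¹ * autFn (a ^ j) x ∈ T := by
    intro j
    induction j with
    | zero => intro x hx; rw [autFn_apply _ hx]; simp
    | succ j ih =>
      intro x hx
      have hy := autFn_mem (a ^ j) hx
      rw [pow_succ' a, autFn_mul _ _ hx, he _ hy, pow_succ']
      have h1 := T.mul_mem (hconjT hrS (ih x hx)) (hconjT hrS (hdisp _ hy))
      convert h1 using 1
      group
  let Cm : Subgroup Ω :=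
    { carrier := {s | s ∈ S ∧ ∀ x ∈ P, x⁻¹ * (s * x * s⁻¹) ∈ T}
      one_mem' := ⟨S.one_mem, fun x _ => by simp⟩
      mul_mem' := fun {s s'} hs hs' => ⟨S.mul_mem hs.1 hs'.1, fun x hx => by
        rw [show x⁻¹ * (s * s' * x * (s * s')⁻¹) =
          (x⁻¹ * (s * x * s⁻¹)) * (s * (x⁻¹ * (s' * x * s'⁻¹)) * s⁻¹) by group]
        exact T.mul_mem (hs.2 x hx) (h.conj_T hs.1 (hs'.2 x hx))⟩
      inv_mem' := fun {s} hs => ⟨S.inv_mem hs.1, fun x hx => by
        rw [show x⁻¹ * (s⁻¹ * x * s⁻¹⁻¹) = (s⁻¹ * (x⁻¹ * (s * x * s⁻¹)) * s)⁻¹ by group]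
        exact T.inv_mem (h.conj_T_inv hs.1 (hs.2 x hx))⟩ }
  set n := orderOf a
  have hrn : r ^ n ∈ Cm := ⟨S.pow_mem hrS n, fun x hx => by
    have h1 := hpow n x hx
    rw [pow_orderOf_eq_one, autFn_apply _ hx, MulAut.one_apply] at h1
    simpa using T.inv_mem h1⟩
  obtain ⟨e, he'⟩ := h.pgroup ⟨r, hrS⟩
  have hre : r ^ p ^ e = 1 := congrArg Subtype.val he'
  have hrC : r ∈ Cm := by
    have h4 := FusionNormal.pow_gcd_mem hrn hre
    rwa [(hac.pow_right e).gcd_eq_one, pow_one] at h4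
  have hdT : ∀ x ∈ P, x⁻¹ * autFn a x ∈ T := fun x hx => by
    rw [he x hx, show x⁻¹ * (r * d x * r⁻¹) = (x⁻¹ * (r * x * r⁻¹)) * ((r * x * r⁻¹)⁻¹ * (r * d x * r⁻¹))
      by group]
    exact T.mul_mem (hrC.2 x hx) (hconjT hrS (hdisp x hx))
  refine ⟨(mem_autGroup_iff hPS).2 (ha.isMap hF), hdT, ?_⟩
  set Q := P ⊓ T
  have hclQ : ∀ (j : ℕ), ∀ x ∈ Q, autFn (a ^ j) x ∈ Q := by
    intro j
    induction j with
    | zero => intro x hx; rw [autFn_apply _ hx.1]; exact hx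
    | succ j ih =>
      intro x hx
      rw [pow_succ', autFn_mul _ _ hx.1]
      have hy := ih x hx
      refine Subgroup.mem_inf.2 ⟨autFn_mem a hy.1, ?_⟩
      have h1 := T.mul_mem hy.2 (hdT _ hy.1)
      rwa [mul_inv_cancel_left] at h1
  have hpowE : ∀ j : ℕ, IsMap E Q (fun x => (r ^ j)⁻¹ * autFn (a ^ j) x * r ^ j) := by
    intro j
    induction j with
    | zero => exact (Fusion.IsMap.id inf_le_right).congr fun x hx => by rw [autFn_apply _ hx.1]; simp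
    | succ j ih =>
      have hd' : IsMap E (img (fun x => (r ^ j)⁻¹ * autFn (a ^ j) x * r ^ j) Q)
          (fun y => (r ^ j)⁻¹ * d (((r ^ j)⁻¹)⁻¹ * y * (r ^ j)⁻¹) * ((r ^ j)⁻¹)⁻¹) :=
        h.conj_E hdE (S.inv_mem (S.pow_mem hrS j)) fun y hy => by
          obtain ⟨x, hx, rfl⟩ := (ih.mem_img_iff le_rfl).1 hy
          convert hclQ j x hx using 1
          group
      refine (ih.comp hd' fun x hx => ih.mem_img hx).congr fun x hx => ?_
      rw [pow_succ' a, autFn_mul _ _ hx.1, he _ (autFn_mem _ hx.1), pow_succ' r,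
        show ((r ^ j)⁻¹)⁻¹ * ((r ^ j)⁻¹ * autFn (a ^ j) x * r ^ j) * (r ^ j)⁻¹ = autFn (a ^ j) x by group]
      group
  set s := (r ^ n)⁻¹ with hs
  have hsS : s ∈ S := S.inv_mem (S.pow_mem hrS n)
  have hsE : IsMap E Q (fun x => s * x * s⁻¹) := (hpowE n).congr fun x hx => by
    rw [pow_orderOf_eq_one, autFn_apply _ hx.1, hs]
    simp
  have hsi : ∀ i : ℕ, IsMap E Q (fun x => s ^ i * x * (s ^ i)⁻¹) := by
    intro i
    induction i with
    | zero => exact (Fusion.IsMap.id inf_le_right).congr fun x _ => by group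
    | succ i ih =>
      have hd' : IsMap E (img (fun x => s * x * s⁻¹) Q)
          (fun y => s * (s ^ i * (s⁻¹ * y * s) * (s ^ i)⁻¹) * s⁻¹) := h.conj_E ih hsS fun y hy => by
        obtain ⟨x, hx, rfl⟩ := (hsE.mem_img_iff le_rfl).1 hy
        convert hx using 1
        group
      refine (hsE.comp hd' fun x hx => hsE.mem_img hx).congr fun x _ => ?_
      rw [pow_succ]
      group
  have hcop : n.Coprime (orderOf r⁻¹) := by
    rw [orderOf_inv]
    exact Nat.Coprime.coprime_dvd_right (orderOf_dvd_of_pow_eq_one hre) (hac.pow_right e)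
  obtain ⟨i, hi⟩ := exists_pow_eq_self_of_coprime hcop
  have hri : s ^ i = r⁻¹ := by rw [hs, ← inv_pow, hi]
  have hrm : IsMap E Q (fun x => r⁻¹ * x * r⁻¹⁻¹) := hri ▸ hsi i
  obtain ⟨g, hg, hgl, -⟩ := hrm.isIso.symm
  have hdm : IsMap F P d := hd.isMap (amb_self hPTS le_sup_right)
  have hmem : ∀ x ∈ Q, d x ∈ img (fun x => r⁻¹ * x * r⁻¹⁻¹) Q := fun x hx => by
    refine (hrm.mem_img_iff le_rfl).2 ⟨autFn a x, by simpa using hclQ 1 x hx, ?_⟩
    rw [he x hx.1]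
    group
  refine (hdE.comp hg.1 hmem).congr fun x hx => ?_
  have h1 := hgl _ (show autFn a x ∈ Q by simpa using hclQ 1 x hx)
  rw [he x hx.1, show r⁻¹ * (r * d x * r⁻¹) * r⁻¹⁻¹ = d x by group] at h1
  rw [he x hx.1]
  exact h1

end PSys

end Cfsg.Agent.FusionProdR
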