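import Cfsg.Agent.Lib.FusionProdR.Class

/-
Elements of the automizer of a member with maximal normalizer in `T` extend inside the generated system.
Main results (namespace `Cfsg.Agent.FusionProdR`): `Good`, `PSys.good_ext`.
-/

set_option autoImplicit false
set_option linter.unusedSectionVars false

namespace Cfsg.Agent.FusionProdR

open Cfsg Cfsg.Agent.Fusion
open Cfsg.FusionSystem hiding inv_mem
open Cfsg.Agent.FusionCrit (autFn_mul autFn_inv_self autFn_self_inv)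

variable {Ω : Type*} [Group Ω] {S T R : Subgroup Ω} {F : FusionSystem S} {p : ℕ} {E : FusionSystem T}

/-- `b` extends by a generated map to `U N_R^Z(U)`. -/
def Good (F : FusionSystem S) (p : ℕ) (E : FusionSystem T) (R U : Subgroup Ω)
    (Z : Subgroup (MulAut U)) (b : MulAut U) : Prop :=
  ∃ g, PGen F p E R R 0 (U ⊔ NK R U Z) g ∧ ∀ x ∈ U, g x = autFn b x

theorem dz_le {U : Subgroup Ω} (hU : U ≤ R) (Z : Subgroup (MulAut U)) : U ⊔ NK R U Z ≤ R :=
  sup_le hU (NK_le R U Z)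

theorem dz_mono {U : Subgroup Ω} {Z Z' : Subgroup (MulAut U)} (hZ : Z ≤ Z') :
    U ⊔ NK R U Z ≤ U ⊔ NK R U Z' := by
  refine sup_le_sup_left (fun g hg => ?_) U
  obtain ⟨hgR, α, hα, e⟩ := mem_NK.1 hg
  exact mem_NK.2 ⟨hgR, α, hZ hα, e⟩

namespace PSys

variable [Finite S] [Fact p.Prime] (h : PSys F p E) (hTR : T ≤ R) (hRS : R ≤ S)
variable {U : Subgroup Ω}

omit [Finite S] [Fact p.Prime] in
include h hRS in
theorem good_mono {Z Z' : Subgroup (MulAut U)} {b : MulAut U} (hg : Good F p E R U Z' b) (hZ : Z ≤ Z') :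
    Good F p E R U Z b :=
  let ⟨g, hgen, he⟩ := hg
  ⟨g, hgen.mono (amb_self (F := F) (p := p) (E := E) hRS le_rfl) _ (dz_mono hZ), he⟩

omit [Finite S] [Fact p.Prime] in
include h hRS in
theorem good_mem {Z Z' : Subgroup (MulAut U)} {b : MulAut U} {g : Ω → Ω}
    (hg : PGen F p E R R 0 (U ⊔ NK R U Z) g) (he : ∀ x ∈ U, g x = autFn b x)
    (hb : ∀ z ∈ Z, b * z * b⁻¹ ∈ Z') :
    ∀ x ∈ U ⊔ NK R U Z, g x ∈ U ⊔ NK R U Z' := fun x hx => by
  have hm := hg.isMap (amb_self (F := F) (p := p) (E := E) hRS le_rfl)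
  refine hm.forall_mem_sup le_sup_left le_sup_right
    (fun y hy => Subgroup.mem_sup_left (he y hy ▸ autFn_mem b hy)) (fun y hy => ?_) hx
  obtain ⟨hyR, z, hz, hye⟩ := mem_NK.1 hy
  refine Subgroup.mem_sup_right (mem_NK.2 ⟨hg.mem (amb_self (F := F) (p := p) (E := E) hRS le_rfl) _ (Subgroup.mem_sup_right hy), _, hb z hz,
    fun w => ?_⟩)
  obtain ⟨v, rfl⟩ := b.surjective w
  rw [MulAut.mul_apply, MulAut.mul_apply, MulAut.inv_apply_self, ← autFn_apply b (z v).2,
    ← he _ (z v).2, hye, hm.map_conj (Subgroup.mem_sup_right hy) (Subgroup.mem_sup_left v.2),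
    he _ v.2, autFn_apply b v.2]

omit [Finite S] [Fact p.Prime] in
include h hRS in
theorem good_comp {Z Z' : Subgroup (MulAut U)} {b b' : MulAut U} (hg : Good F p E R U Z b)
    (hg' : Good F p E R U Z' b') (hb : ∀ z ∈ Z, b * z * b⁻¹ ∈ Z') :
    Good F p E R U Z (b' * b) := by
  obtain ⟨g, hgen, he⟩ := hg
  obtain ⟨g', hgen', he'⟩ := hg'
  refine ⟨fun x => g' (g x), hgen.comp_of_le (amb_self (F := F) (p := p) (E := E) hRS le_rfl) hgen' (h.good_mem hRS hgen he hb), fun x hx => ?_⟩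
  show g' (g x) = _
  rw [he x hx, he' _ (autFn_mem b hx), autFn_mul _ _ hx]

omit [Fact p.Prime] in
include h hRS in
theorem good_inv (hUR : U ≤ R) {Z Z' : Subgroup (MulAut U)} {b : MulAut U}
    (hg : Good F p E R U Z b) (hb : ∀ z ∈ Z, b * z * b⁻¹ ∈ Z')
    (hb' : ∀ z ∈ Z', b⁻¹ * z * b ∈ Z) (hZ : Z ≤ autInducedBy R U) :
    Good F p E R U Z' b⁻¹ := by
  obtain ⟨g, hgen, he⟩ := hg
  have hm := hgen.isMap (amb_self (F := F) (p := p) (E := E) hRS le_rfl)
  obtain ⟨i, hi, hil, -⟩ := hm.isIso.symm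
  have himg : img g (U ⊔ NK R U Z) = U ⊔ NK R U Z' := by
    refine le_antisymm (hm.img_le le_rfl (h.good_mem hRS hgen he hb)) (sup_le (fun y hy => ?_) fun y hy => ?_)
    · have h1 := hm.mem_img (Q := U ⊔ NK R U Z) (Subgroup.mem_sup_left (autFn_mem b⁻¹ hy))
      rwa [he _ (autFn_mem b⁻¹ hy), autFn_self_inv b hy] at h1
    · obtain ⟨hyR, z', hz', hye⟩ := mem_NK.1 hy
      obtain ⟨s, hs, hse⟩ := mem_autInducedBy_iff.1 (hZ (hb' z' hz'))
      have hsN : s ∈ U ⊔ NK R U Z :=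
        Subgroup.mem_sup_right (mem_NK.2 ⟨hs, _, hb' z' hz', hse⟩)
      have hgs := hgen.mem (amb_self (F := F) (p := p) (E := E) hRS le_rfl) s hsN
      have hc : (g s)⁻¹ * y ∈ centralizerIn R U := by
        refine mem_centralizerIn_of_conj (mul_mem (inv_mem hgs) hyR) fun w hw => ?_
        have hv := autFn_mem b⁻¹ hw
        have h1 : g (s * autFn b⁻¹ w * s⁻¹) = y * w * y⁻¹ := by
          rw [autFn_apply b⁻¹ hw, ← hse (b⁻¹ ⟨w, hw⟩), MulAut.mul_apply, MulAut.mul_apply,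
            MulAut.apply_inv_self, he _ (b⁻¹ (z' ⟨w, hw⟩)).2, autFn_apply b (b⁻¹ (z' ⟨w, hw⟩)).2,
            Subtype.coe_eta, MulAut.apply_inv_self, hye]
        rw [hm.map_conj hsN (Subgroup.mem_sup_left hv), he _ hv, autFn_self_inv b hw] at h1
        calc (g s)⁻¹ * y * w * ((g s)⁻¹ * y)⁻¹ = (g s)⁻¹ * (y * w * y⁻¹) * g s := by group
          _ = w := by rw [← h1]; group
      have h1 : y = g s * ((g s)⁻¹ * y) := (mul_inv_cancel_left _ _).symm
      rw [h1]
      refine mul_mem (hm.mem_img hsN) ?_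
      set C := centralizerIn R U
      have hCle : C ≤ U ⊔ NK R U Z := fun c hc => Subgroup.mem_sup_right
        (mem_NK.2 ⟨hc.1, 1, one_mem _, fun v => (centralizerIn_conj hc v.2).symm⟩)
      have hCC : ∀ c ∈ C, g c ∈ C := fun c hc => by
        refine mem_centralizerIn_of_conj (hgen.mem (amb_self (F := F) (p := p) (E := E) hRS le_rfl) c (hCle hc))
          fun w hw => ?_
        have hv := autFn_mem b⁻¹ hw
        have h3 := hm.map_conj (hCle hc) (Subgroup.mem_sup_left hv)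
        rw [centralizerIn_conj hc hv, he _ hv, autFn_self_inv b hw] at h3
        exact h3.symm
      have hCim : img g C = C := eq_of_le_of_card (inf_le_left.trans hRS) (hm.img_le hCle hCC)
        (hm.card_img hCle).ge
      obtain ⟨c', hc', e⟩ := (hm.mem_img_iff hCle).1 (hCim.symm ▸ hc : (g s)⁻¹ * y ∈ img g C)
      exact e ▸ hm.mem_img (hCle hc')
  refine ⟨i, himg ▸ hgen.symm (amb_self (F := F) (p := p) (E := E) hRS le_rfl) i hil, fun y hy => ?_⟩
  have h1 := hil _ (Subgroup.mem_sup_left (autFn_mem b⁻¹ hy) : autFn b⁻¹ y ∈ U ⊔ NK R U Z)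
  rwa [he _ (autFn_mem b⁻¹ hy), autFn_self_inv b hy] at h1

omit [Finite S] [Fact p.Prime] in
theorem good_conj (hUR : U ≤ R) (Z : Subgroup (MulAut U)) {b : MulAut U} {r : Ω}
    (hr : r ∈ R) (he : ∀ x : U, ((b x : U) : Ω) = r * x * r⁻¹) : Good F p E R U Z b :=
  ⟨_, PGen.conj (dz_le hUR Z) hr, fun x hx => by rw [autFn_apply b hx, he]⟩

include h hTR hRS in
/-- An element of the automizer extends along the conjugations it carries into conjugations. -/
theorem good_ext (hU : TFN F T U) (hc : InH E R U) {Z : Subgroup (MulAut U)}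
    (hZ : Z ≤ autInducedBy R U) {b : MulAut U} (hb : b ∈ BP F p E R U)
    (hbZ : ∀ z ∈ Z, b * z * b⁻¹ ∈ autInducedBy R U) : Good F p E R U Z b := by
  have hUR := hc.1
  have hUS : U ≤ S := hU.1
  have := finite_mulAut (S := S) hUS
  have := finite_of_le hUS
  set G := BP F p E R U
  set Y := (autInducedBy R U).subgroupOf G
  have hSyl : IsSylowIn p Y (⊤ : Subgroup G) := by
    have h1 := (h.sylow_BP hTR hRS hU hc.2).subgroupOf (W := G) le_rfl
    rwa [Subgroup.subgroupOf_self] at h1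
  let Sy : Sylow p G := ⟨Y, hSyl.2.1, fun hQ hle => hSyl.2.2 _ hle le_top hQ⟩
  have hsat : (groupFusionSystem Y).IsSaturated p := isSaturated_group Sy
  let amb : Subgroup G → Subgroup (MulAut U) := fun P => P.map G.subtype
  have hambmem : ∀ {P : Subgroup G}, P ≤ Y → amb P ≤ autInducedBy R U := by
    rintro P hP _ ⟨q, hq, rfl⟩
    exact hP hq
  have hconjamb : ∀ {P P' : Subgroup G} {g : G}, (∀ x ∈ P, g * x * g⁻¹ ∈ P') →
      ∀ z ∈ amb P, (g : MulAut U) * z * (g : MulAut U)⁻¹ ∈ amb P' := by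
    rintro P P' g hg _ ⟨q, hq, rfl⟩
    exact ⟨_, hg q hq, rfl⟩
  -- elements of order prime to `p` normalising `P`
  have hpp : ∀ (P : Subgroup G), P ≤ Y → ∀ g : G, (orderOf g).Coprime p →
      (∀ x ∈ P, g * x * g⁻¹ ∈ P) → Good F p E R U (amb P) g := fun P hP g hgc hgP => by
    have hgc' : (orderOf (g : MulAut U)).Coprime p := by rwa [Subgroup.orderOf_coe]
    have hgA := NP_le_Ac U (h.mem_NP_of_coprime hTR hRS hUS g.2 hgc')
    obtain ⟨M, hM, hMR, a, ha, hac, hae⟩ :=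
      h.exists_ext_coprime hTR hRS hU hc hgA hgc' (hambmem hP) (hconjamb hgP)
    have := finite_of_le (S := S) (hMR.trans hRS)
    exact ⟨autFn a, PGen.aut ⟨hMR, FusionCrit.isCentric_of_le hc.2
      (inf_le_inf_right T (le_sup_left.trans hM)) inf_le_right⟩ Nat.card_pos ha hac hM, hae⟩
  -- every map of the group system is induced by a good element
  have key : ∀ (P : Subgroup G) (f : G → G), IsMap (groupFusionSystem Y) P f →
      ∃ g : G, (∀ x ∈ P, f x = g * x * g⁻¹) ∧ Good F p E R U (amb P) g := by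
    intro P f hf
    refine FusionChain.alperin_induction hSyl.isPGroup hsat
      (fun P f => ∃ g : G, (∀ x ∈ P, f x = g * x * g⁻¹) ∧ Good F p E R U (amb P) g) ?_ ?_ ?_ ?_ hf
    · rintro P f f' - ⟨g, hg, hgood⟩ he
      exact ⟨g, fun x hx => (he x hx).symm.trans (hg x hx), hgood⟩
    · rintro P P' f - hle ⟨g, hg, hgood⟩
      exact ⟨g, fun x hx => hg x (hle hx), h.good_mono hRS hgood (Subgroup.map_mono hle)⟩
    · rintro P P' f f' - - hfP ⟨g, hg, hgood⟩ ⟨g', hg', hgood'⟩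
      refine ⟨g' * g, fun x hx => ?_,
        h.good_comp hRS hgood hgood' (hconjamb fun x hx => hg x hx ▸ hfP x hx)⟩
      show f' (f x) = _
      rw [hg' _ (hfP x hx), hg x hx]
      group
    intro X hR _ _ α hα _
    have := finite_mulAut (S := Y) hR.1
    let H : Subgroup (MulAut X) :=
      { carrier := {a | ∃ g : G, (∀ x : X, ((a x : X) : G) = g * x * g⁻¹) ∧ Good F p E R U (amb X) g}
        one_mem' := ⟨1, fun x => by simp, ⟨fun x => x, PGen.id (dz_le hUR _), fun x hx =>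
          (autFn_one_apply hx).symm⟩⟩
        mul_mem' := fun {a a'} ⟨g, hg, hgood⟩ ⟨g', hg', hgood'⟩ => ⟨g * g', fun x => by
            rw [MulAut.mul_apply, hg, hg']
            group,
          h.good_comp hRS hgood' hgood (hconjamb fun x hx => hg' ⟨x, hx⟩ ▸ (a' ⟨x, hx⟩).2)⟩
        inv_mem' := fun {a} ⟨g, hg, hgood⟩ => ⟨g⁻¹, fun x => by
            have h1 := hg (a⁻¹ x)
            rw [MulAut.apply_inv_self] at h1
            rw [h1]
            group,
          h.good_inv hRS hc.1 hgood (hconjamb fun x hx => hg ⟨x, hx⟩ ▸ (a ⟨x, hx⟩).2) (fun z hz => by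
            obtain ⟨q, hq, rfl⟩ := hz
            refine ⟨g⁻¹ * q * g, ?_, rfl⟩
            have h1 := hg (a⁻¹ ⟨q, hq⟩)
            rw [MulAut.apply_inv_self] at h1
            obtain ⟨v, hv⟩ : ∃ v : X, q = g * (v : G) * g⁻¹ := ⟨_, h1⟩
            rw [hv, show g⁻¹ * (g * (v : G) * g⁻¹) * g = (v : G) by group]
            exact v.2) (hambmem hR.1)⟩ }
    have hle : (groupFusionSystem Y).autGroup X ≤ H := by
      refine FusionNormal.autGroup_le_of_sylow_pResidual (isFullyAutomized_iff.1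
        (fullyAutomized_of_fullyNormalized hSyl.isPGroup hsat hR)).2
        (fun a ha => ?_) fun a ha hac => ?_
      · obtain ⟨y, hy, hye⟩ := mem_autInducedBy_iff.1 ha
        obtain ⟨r, hr, hre⟩ := mem_autInducedBy_iff.1 (hy : (y : MulAut U) ∈ autInducedBy R U)
        exact ⟨y, hye, good_conj hUR _ hr hre⟩
      · rw [autGroup_group hR.1] at ha
        obtain ⟨g, -, hge⟩ := mem_autInducedBy_iff.1 ha
        obtain ⟨m, hm, hmp⟩ := FusionProduct.exists_pow_coprime_modEq g hac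
        have hpow : ∀ (k : ℕ) (y : X), ((((a ^ k) y) : X) : G) = g ^ k * y * (g ^ k)⁻¹ := by
          intro k
          induction k with
          | zero => intro y; simp
          | succ k ih =>
            intro y
            rw [pow_succ' a, MulAut.mul_apply, hge, ih, pow_succ']
            group
        have hgm : ∀ y : X, ((a y : X) : G) = g ^ m * y * (g ^ m)⁻¹ := fun y => by
          rw [← hpow, FusionProduct.pow_eq_self_of_modEq hm]
        exact ⟨g ^ m, hgm, hpp X hR.1 (g ^ m) hmp fun q hq => hgm ⟨q, hq⟩ ▸ (a ⟨q, hq⟩).2⟩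
    obtain ⟨g, hg, hgood⟩ := hle hα
    exact ⟨g, fun x hx => (autFn_apply α hx).trans (hg ⟨x, hx⟩), hgood⟩
  -- the given element
  set b' : G := ⟨b, hb⟩
  set Z' := Z.subgroupOf G
  have hZG : Z ≤ G := hZ.trans le_sup_right
  have hambZ : amb Z' = Z := Subgroup.map_subgroupOf_eq_of_le hZG
  have hZY : Z' ≤ Y := fun x hx => hZ hx
  obtain ⟨g₁, hg₁, hgood₁⟩ := key Z' (fun x => b' * x * b'⁻¹) (isMap_group_iff.2
    ⟨hZY, b', fun x hx => ⟨hbZ _ hx, rfl⟩⟩)
  -- a fully normalised conjugate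
  obtain ⟨W, w, hW, hw, hwW, -⟩ := exists_fullyNormalized_map hSyl.isPGroup hsat hZY
  have hwZ : IsIso (groupFusionSystem Y) Z' W w := ⟨hw.mono (le_normalizerIn hZY), hwW⟩
  obtain ⟨g₀, hg₀, hgood₀⟩ := key Z' w hwZ.1
  have hWY : W ≤ Y := hW.1
  have hC' : ∀ c : G, c ∈ Subgroup.centralizer (W : Set G) → ∀ x ∈ W, c * x * c⁻¹ ∈ W := fun c hc x hx => by
    rw [← Subgroup.mem_centralizer_iff.1 hc x hx, mul_inv_cancel_right]
    exact hx
  let HC : Subgroup G :=
    { carrier := {c | c ∈ Subgroup.centralizer (W : Set G) ∧ Good F p E R U (amb W) c}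
      one_mem' := ⟨one_mem _, ⟨fun x => x, PGen.id (dz_le hUR _), fun x hx => (autFn_one_apply hx).symm⟩⟩
      mul_mem' := fun {a a'} ha ha' => ⟨mul_mem ha.1 ha'.1,
        h.good_comp hRS ha'.2 ha.2 (hconjamb (hC' a' ha'.1))⟩
      inv_mem' := fun {a} ha => ⟨inv_mem ha.1, h.good_inv hRS hc.1 ha.2 (hconjamb (hC' a ha.1))
        (fun z hz => by
          have := hconjamb (hC' a⁻¹ (inv_mem ha.1)) z hz
          simpa using this) (hambmem hWY)⟩ }
  have hCle : Subgroup.centralizer (W : Set G) ≤ HC := by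
    refine FusionNormal.autGroup_le_of_sylow_pResidual
      (sylow_centralizer Sy ((fullyNormalized_group_iff Sy hWY).1 hW)) (fun y hy => ⟨hy.2, ?_⟩)
      fun g hg hgc => ⟨hg, hpp W hWY g hgc (hC' g hg)⟩
    obtain ⟨r, hr, hre⟩ := mem_autInducedBy_iff.1 (hy.1 : (y : MulAut U) ∈ autInducedBy R U)
    exact good_conj hUR _ hr hre
  set c := g₁⁻¹ * b'
  have hcZ : ∀ x ∈ Z', c * x * c⁻¹ = x := fun x hx => by
    have h1 := hg₁ x hx
    calc c * x * c⁻¹ = g₁⁻¹ * (b' * x * b'⁻¹) * g₁ := by simp only [c]; group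
      _ = x := by rw [h1]; group
  have hcW : g₀ * c * g₀⁻¹ ∈ Subgroup.centralizer (W : Set G) := by
    refine Subgroup.mem_centralizer_iff.2 fun y hy => ?_
    obtain ⟨x, hx, rfl⟩ := hwZ.exists_eq hy
    rw [hg₀ x hx]
    calc g₀ * x * g₀⁻¹ * (g₀ * c * g₀⁻¹) = g₀ * (x * c) * g₀⁻¹ := by group
      _ = g₀ * (c * x * c⁻¹ * c) * g₀⁻¹ := by rw [hcZ x hx]
      _ = g₀ * c * g₀⁻¹ * (g₀ * x * g₀⁻¹) := by group
  have hg₀W : ∀ x ∈ Z', g₀ * x * g₀⁻¹ ∈ W := fun x hx => hg₀ x hx ▸ hwZ.mem hx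
  have hW₀ : ∀ y ∈ W, g₀⁻¹ * y * g₀ ∈ Z' := fun y hy => by
    obtain ⟨x, hx, rfl⟩ := hwZ.exists_eq hy
    rw [hg₀ x hx]
    simpa [mul_assoc] using hx
  have hg₀i : Good F p E R U (amb W) ((g₀ : MulAut U)⁻¹) :=
    h.good_inv hRS hc.1 hgood₀ (hconjamb hg₀W) (fun z hz => by
      obtain ⟨q, hq, rfl⟩ := hz
      exact ⟨g₀⁻¹ * q * g₀, hW₀ q hq, rfl⟩) (hambmem hZY)
  have h1 := h.good_comp hRS hgood₀ (hCle hcW).2 (hconjamb hg₀W)
  have h2 := h.good_comp hRS h1 hg₀i (hconjamb (g := g₀ * c * g₀⁻¹ * g₀) fun x hx => by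
    rw [show g₀ * c * g₀⁻¹ * g₀ * x * (g₀ * c * g₀⁻¹ * g₀)⁻¹ =
      g₀ * (c * x * c⁻¹) * g₀⁻¹ by group, hcZ x hx]
    exact hg₀W x hx)
  have hc2 : Good F p E R U (amb Z') (c : MulAut U) := by
    convert h2 using 2
    simp [mul_assoc]
  have h3 := h.good_comp hRS hc2 hgood₁ (hconjamb fun x hx => (hcZ x hx).symm ▸ hx)
  rw [hambZ] at h3
  convert h3 using 2
  show b = ((g₁ * c : G) : MulAut U)
  rw [show g₁ * c = b' from mul_inv_cancel_left _ _]

end PSys

end Cfsg.Agent.FusionProdR
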