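import Cfsg.Agent.Lib.FusionProdR.Sat
import Cfsg.Agent.Lib.FusionPIndex.Normal
import Cfsg.Agent.Lib.FusionPIndex.Existence
import Cfsg.Agent.Lib.FusionProduct.NormalTools

/-
The product `E R` has the residual of `E`, and the residual of a normal subsystem is normal.
Main results (namespace `Cfsg.Agent.FusionProdR`): `PSys.disp_hyperfocal`, `PSys.prod_props`,
`PSys.residual_normal`.
-/

set_option autoImplicit false
set_option linter.unusedSectionVars false

namespace Cfsg.Agent.FusionProdR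

open Cfsg Cfsg.Agent.Fusion
open Cfsg.FusionSystem hiding inv_mem
open Cfsg.Agent.FusionCrit (autFn_mul autFn_inv_self autFn_self_inv)
open scoped Pointwise

variable {Ω : Type*} [Group Ω] {S T : Subgroup Ω} {p : ℕ} {F : FusionSystem S} {E : FusionSystem T}

namespace PSys

variable [Finite S] [Fact p.Prime] (h : PSys F p E)

include h

/-- An element of order prime to `p` of `Ac W` is trivial modulo the hyperfocal subgroup of `E`. -/
theorem disp_hyperfocal {W : Subgroup Ω} (hW : W ≤ S) {y : MulAut W} (hy : y ∈ Ac F E W)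
    (hyp : (orderOf y).Coprime p) {x : Ω} (hx : x ∈ W) :
    x⁻¹ * autFn y x ∈ E.hyperfocalSubgroup p := by
  set H := E.hyperfocalSubgroup p
  have := finite_of_le hW
  have hQW : W ⊓ T ≤ W := inf_le_left
  obtain ⟨b, hb, hbe, hbo⟩ := FusionInner.exists_restrict hW hQW hy.1
    fun u hu => (h.iso_inf (isIso_autFn hW hy.1)).mem hu
  have hbE : b ∈ E.autGroup (W ⊓ T) :=
    (mem_autGroup_iff inf_le_right).2 (hy.2.2.congr fun u hu => (hbe u hu).symm)
  have hbp : (orderOf b).Coprime p := Nat.Coprime.coprime_dvd_left hbo hyp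
  have hQ : ∀ u ∈ W ⊓ T, u⁻¹ * autFn y u ∈ H := fun u hu => by
    rw [← hbe u hu]
    exact FusionChain.inv_mul_autFn_mem_hyperfocal inf_le_right hbE
      (FusionChain.mem_pResidual_of_coprime hbE hbp) hu
  set t := x⁻¹ * autFn y x with ht
  have htT : t ∈ T := hy.2.1 x hx
  have hHT : H ≤ T := FusionChain.hyperfocalSubgroup_le p
  have hpow : ∀ i : ℕ, (t ^ i)⁻¹ * (x⁻¹ * autFn (y ^ i) x) ∈ H := by
    intro i
    induction i with
    | zero => rw [autFn_apply _ hx]; simp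
    | succ i ih =>
      set u := x⁻¹ * autFn (y ^ i) x with hu
      have huW : u ∈ W := W.mul_mem (W.inv_mem hx) (autFn_mem _ hx)
      have huT : u ∈ T := by
        have h2 := T.mul_mem (T.pow_mem htT i) (hHT ih)
        rwa [mul_inv_cancel_left] at h2
      have hux : autFn (y ^ i) x = x * u := (mul_inv_cancel_left _ _).symm
      have hym : IsMap F W (autFn y) := (mem_autGroup_iff hW).1 hy.1
      have e : autFn (y ^ (i + 1)) x = autFn y x * autFn y u := by
        rw [pow_succ', autFn_mul _ _ hx, hux,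
          hym.map_mul hx huW]
      rw [e, show (t ^ (i + 1))⁻¹ * (x⁻¹ * (autFn y x * autFn y u)) =
        (t ^ i)⁻¹ * u * (u⁻¹ * autFn y u) by
          rw [pow_succ', show autFn y x = x * t by rw [ht]; group]; group]
      exact H.mul_mem ih (hQ u (Subgroup.mem_inf.2 ⟨huW, huT⟩))
  have h1 := hpow (orderOf y)
  rw [pow_orderOf_eq_one, autFn_apply _ hx, MulAut.one_apply, inv_mul_cancel, mul_one] at h1
  obtain ⟨e, he⟩ := h.pgroup ⟨t, h.T_le htT⟩
  have h2 := FusionNormal.pow_gcd_mem (inv_mem_iff.1 h1) (congrArg Subtype.val he : t ^ p ^ e = 1)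
  rwa [(hyp.pow_right e).gcd_eq_one, pow_one] at h2

variable {R : Subgroup Ω} (hTR : T ≤ R) (hRS : R ≤ S)

include hTR hRS

/-- `E` lies in the product. -/
theorem sub_prodSys : E.IsSubsystemOf (prodSys F p E hRS 0) := fun _ φ hφ => by
  refine mem_of_isMap ?_ fun x => (toFn_coe φ x).symm
  set D := prodSys F p E hRS 0
  have := h.finT
  refine FusionChain.alperin_induction h.pT h.esat (fun P f => IsMap D P f)
    (fun _ _ _ _ hf e => hf.congr e) (fun _ _ _ _ hle hf => hf.mono hle)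
    (fun _ _ _ _ _ _ hm hf hg => hf.comp hg hm) ?_ (isMap_toFn hφ)
  intro W hW hc _ α hα _
  have hWR : W ≤ R := hc.1.trans hTR
  have := finite_mulAut (S := T) hc.1
  refine (mem_autGroup_iff hWR).1 (FusionNormal.autGroup_le_of_sylow_pResidual (H := D.autGroup W)
    (isFullyAutomized_iff.1 (fullyAutomized_of_fullyNormalized h.pT h.esat hW)).2
    (autInducedBy_le_autGroup _ hTR hWR) (fun g hg hgc => ?_) hα)
  have hgm : IsMap E W (autFn g) := (mem_autGroup_iff hc.1).1 hg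
  have hgA : g ∈ Ac F E W :=
    ⟨FusionNormal.autGroup_le_of_sub h.inv.1 hc.1 hg,
      fun x hx => T.mul_mem (T.inv_mem (hc.1 hx)) (hc.1 (autFn_mem g hx)), hgm.mono inf_le_left⟩
  have := finite_of_le (S := T) hc.1
  exact (mem_autGroup_iff hWR).2 (isMap_prodSys.2
    (PGen.aut ⟨hWR, (inf_eq_left.2 hc.1).symm ▸ hc⟩ Nat.card_pos hgA hgc le_rfl))

/-- Residual data of the product. -/
theorem prod_props :
    (prodSys F p E hRS 0).IsSaturated p ∧ (prodSys F p E hRS 0).IsSubsystemOf F ∧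
      (prodSys F p E hRS 0).hyperfocalSubgroup p = E.hyperfocalSubgroup p ∧
      ∀ E₁ : FusionSystem (E.hyperfocalSubgroup p), E₁.HasPPowerIndexIn E p →
        E₁.HasPPowerIndexIn (prodSys F p E hRS 0) p := by
  set D := prodSys F p E hRS 0
  set H := E.hyperfocalSubgroup p
  have hsub := h.sub_prodSys hTR hRS
  have hcop : ∀ {P : Subgroup Ω}, P ≤ R → ∀ α ∈ D.autGroup P, (orderOf α).Coprime p → α ∈ Ac F E P :=
    fun hP α hα hc => h.mem_Ac_of_gen hRS hTR (isMap_prodSys.1 ((mem_autGroup_iff hP).1 hα)) hc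
  have hle : D.hyperfocalSubgroup p ≤ H := by
    refine (Subgroup.closure_le _).2 ?_
    rintro _ ⟨P, α, x, hP, hα, rfl⟩
    revert x
    refine Subgroup.closure_induction (fun a ha => ?_) (fun x => ?_) (fun a b _ _ ha hb x => ?_)
      (fun a _ ha x => ?_) hα
    · intro x
      have hac : (orderOf (a : MulAut P)).Coprime p := by rw [Subgroup.orderOf_coe]; exact ha
      rw [← autFn_apply _ x.2]
      exact h.disp_hyperfocal (hP.trans hRS) (hcop hP _ a.2 hac) hac x.2
    · simp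
    · have := H.mul_mem (hb x) (ha ((b : MulAut P) x))
      simpa [mul_assoc] using this
    · have := H.inv_mem (ha (((a : MulAut P)⁻¹) x))
      simpa [mul_assoc] using this
  refine ⟨h.isSaturated hTR hRS, prodSys_sub,
    le_antisymm hle (FusionNormal.hyperfocal_mono hsub hTR), fun E₁ hE₁ => ⟨fun P φ hφ =>
      hsub P (hE₁.1 P hφ), hle, fun P hP => ?_⟩⟩
  rw [Subgroup.map_le_iff_le_comap]
  refine (Subgroup.closure_le _).2 fun a ha => ?_
  have hac : (orderOf (a : MulAut P)).Coprime p := by rw [Subgroup.orderOf_coe]; exact ha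
  have hPT : P ≤ T := hP.trans (FusionChain.hyperfocalSubgroup_le p)
  obtain ⟨-, -, haE⟩ := hcop (hPT.trans hTR) _ a.2 hac
  exact hE₁.2.2 P hP (FusionNormal.mem_pResidual_map
    ((mem_autGroup_iff hPT).2 (haE.mono (le_inf le_rfl hPT))) hac)

omit hTR hRS

/-- Automorphisms of `T` in `F` preserve the hyperfocal subgroup of `E`. -/
theorem autT_hyperfocal {γ : MulAut T} (hγ : γ ∈ F.autGroup T) {y : Ω}
    (hy : y ∈ E.hyperfocalSubgroup p) : autFn γ y ∈ E.hyperfocalSubgroup p := by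
  set H := E.hyperfocalSubgroup p
  have hm : IsMap F T (autFn γ) := (mem_autGroup_iff h.T_le).1 hγ
  have hle : H ≤ (H.comap (T.subtype.comp γ.toMonoidHom)).map T.subtype := by
    refine (Subgroup.closure_le _).2 ?_
    rintro _ ⟨P, α, x, hP, hα, rfl⟩
    revert x
    have hiso : IsIso F P (img (autFn γ) P) (autFn γ) := ⟨hm.mono hP, rfl⟩
    have hP' : img (autFn γ) P ≤ T := hm.img_le hP fun z hz => autFn_mem γ (hP hz)
    refine Subgroup.closure_induction (fun a ha => ?_) (fun x => ?_) (fun a b _ _ ha hb x => ?_)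
      (fun a _ ha x => ?_) hα
    · intro x
      refine ⟨⟨_, T.mul_mem (T.inv_mem (hP x.2)) (hP (Subtype.prop _))⟩, ?_, rfl⟩
      show ((γ ⟨_, _⟩ : T) : Ω) ∈ H
      rw [← autFn_apply γ, hm.map_mul (T.inv_mem (hP x.2)) (hP (Subtype.prop _)), hm.map_inv (hP x.2)]
      have hβ := FusionNormal.congr_mem_autGroup h.inv hiso hP a.2
      have hc : (orderOf (MulAut.congr hiso.equiv (a : MulAut P))).Coprime p := by
        rw [MulEquiv.orderOf_eq, Subgroup.orderOf_coe]
        exact ha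
      have h1 := FusionChain.inv_mul_autFn_mem_hyperfocal hP' hβ
        (FusionChain.mem_pResidual_of_coprime hβ hc) (hiso.mem x.2)
      rw [autFn_apply _ (hiso.mem x.2)] at h1
      exact (congr_apply_coe hiso (a : MulAut P) x) ▸ h1
    · simp
    · have := ((H.comap (T.subtype.comp γ.toMonoidHom)).map T.subtype).mul_mem (hb x)
        (ha ((b : MulAut P) x))
      simpa [mul_assoc] using this
    · have := ((H.comap (T.subtype.comp γ.toMonoidHom)).map T.subtype).inv_mem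
        (ha (((a : MulAut P)⁻¹) x))
      simpa [mul_assoc] using this
  obtain ⟨z, hz, rfl⟩ := hle hy
  show autFn γ (z : Ω) ∈ H
  rw [autFn_apply γ z.2]
  exact hz

theorem hyperfocal_stronglyClosed : F.StronglyClosed (E.hyperfocalSubgroup p) := by
  set H := E.hyperfocalSubgroup p
  have hHT : H ≤ T := FusionChain.hyperfocalSubgroup_le p
  have := h.finT
  have hcE : E.StronglyClosed H :=
    FusionPIndex.stronglyClosed_of_normal h.pT h.esat hHT FusionTate.hyperfocal_normal le_rfl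
  refine ⟨hHT.trans h.T_le, fun P hP φ hφ x => ?_⟩
  obtain ⟨γ, hγ, f₀, hf₀, he⟩ := FusionNormal.frattini_map h.inv (hP.trans hHT) (isMap_toFn hφ)
  rw [← toFn_coe φ x, he x x.2]
  exact h.autT_hyperfocal hγ (FusionChain.isMap_mem_of_stronglyClosed hcE hf₀ x.2 (hP x.2))

variable {H : Subgroup Ω} (hH : E.hyperfocalSubgroup p = H) {E₁ : FusionSystem H} (h₁ : E₁.IsSaturated p)
  (i₁ : E₁.HasPPowerIndexIn E p)

include hH h₁ i₁

theorem residual_transport {α : MulAut ↥H}
    (hα : α ∈ F.autGroup H) {P : Subgroup Ω} {f : Ω → Ω} (hf : IsMap E₁ P f) :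
    ∃ g, IsMap E₁ (img (autFn α) P) g ∧ ∀ x ∈ P, g (autFn α x) = autFn α (f x) := by
  have hHT : H ≤ T := hH ▸ FusionChain.hyperfocalSubgroup_le p
  have hHS : H ≤ S := hHT.trans h.T_le
  have := finite_of_le hHS
  have hH : IsPGroup p H := h.pgroup.to_le hHS
  have hαS : IsMap F H (autFn α) := (mem_autGroup_iff hHS).1 hα
  refine FusionChain.alperin_induction hH h₁
    (fun P f => ∃ g, IsMap E₁ (img (autFn α) P) g ∧ ∀ x ∈ P, g (autFn α x) = autFn α (f x))
    ?_ ?_ ?_ ?_ hf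
  · rintro P f f' - ⟨g, hg, hge⟩ he
    exact ⟨g, hg, fun x hx => by rw [hge x hx, he x hx]⟩
  · intro P P' f hf hle
    rintro ⟨g, hg, hge⟩
    refine ⟨g, hg.mono ?_, fun x hx => hge x (hle hx)⟩
    exact (hαS.mono (hle.trans hf.le)).img_le le_rfl fun x hx => (hαS.mono hf.le).mem_img (hle hx)
  · rintro P P' f f' hf hf' hfP ⟨g, hg, hge⟩ ⟨g', hg', hge'⟩
    refine ⟨fun y => g' (g y), hg.comp hg' fun y hy => ?_, fun x hx => ?_⟩
    · obtain ⟨x, hx, rfl⟩ := (hαS.mem_img_iff hf.le).1 hy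
      rw [hge x hx]
      exact (hαS.mono hf'.le).mem_img (hfP x hx)
    · show g' (g (autFn α x)) = _
      rw [hge x hx, hge' _ (hfP x hx)]
  intro W hW _ _ a ha _
  have hiso : IsIso F W (img (autFn α) W) (autFn α) := (hαS.mono hW.1).isIso
  have hQH : img (autFn α) W ≤ H := hαS.img_le hW.1 fun x hx => autFn_mem α (hW.1 hx)
  have := finite_mulAut (S := H) hW.1
  have hle : E₁.autGroup W ≤ (E₁.autGroup (img (autFn α) W)).comap
      (MulAut.congr hiso.equiv).toMonoidHom := by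
    refine FusionNormal.autGroup_le_of_sylow_pResidual
      (isFullyAutomized_iff.1 (fullyAutomized_of_fullyNormalized hH h₁ hW)).2 (fun b hb => ?_)
      fun b hb hco => ?_
    · obtain ⟨t, ht, hbt⟩ := mem_autInducedBy_iff.1 hb
      refine autInducedBy_le_autGroup E₁ (K := H) le_rfl hQH
        (mem_autInducedBy_iff.2 ⟨autFn α t, autFn_mem α ht, fun y => ?_⟩)
      obtain ⟨x, rfl⟩ := hiso.equiv.surjective y
      show ((MulAut.congr hiso.equiv b (hiso.equiv x) : img (autFn α) W) : Ω) = _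
      rw [congr_apply_coe hiso b x, hbt x, hαS.map_conj ht (hW.1 x.2)]
      rfl
    · refine i₁.2.2 _ hQH (FusionNormal.mem_pResidual_map (FusionNormal.congr_mem_autGroup h.inv
        hiso (hW.1.trans hHT) (FusionNormal.autGroup_le_of_sub i₁.1 hW.1 hb)) ?_)
      show (orderOf (MulAut.congr hiso.equiv b)).Coprime p
      rwa [MulEquiv.orderOf_eq]
  refine ⟨autFn (MulAut.congr hiso.equiv a), (mem_autGroup_iff hQH).1 (hle ha), fun x hx => ?_⟩
  rw [autFn_apply _ (hiso.mem hx), autFn_apply a hx]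
  exact congr_apply_coe hiso a ⟨x, hx⟩

theorem residual_frattini {P : Subgroup Ω} (hP : P ≤ H) {f : Ω → Ω}
    (hf : IsMap F P f) :
    ∃ α ∈ F.autGroup H, ∃ f₀, IsMap E₁ P f₀ ∧
      ∀ x ∈ P, f x = autFn α (f₀ x) := by
  have hHT : H ≤ T := hH ▸ FusionChain.hyperfocalSubgroup_le p
  have hHS : H ≤ S := hHT.trans h.T_le
  have := h.finT
  obtain ⟨γ, hγ, f', hf', he⟩ := FusionNormal.frattini_map h.inv (hP.trans hHT) hf
  obtain ⟨a, ha, f₀, hf₀, he'⟩ := FusionPIndex.frattini_pPowerIndex h.pT h.esat hHT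
    (hH ▸ FusionTate.hyperfocal_normal) hH.le h₁ i₁ hf'
  rw [inf_eq_left.2 hP] at hf₀ he'
  have hγm : IsMap F T (autFn γ) := (mem_autGroup_iff h.T_le).1 hγ
  have ham : IsMap F H (autFn a) := FusionNormal.isMap_of_sub h.inv.1 ((mem_autGroup_iff hHT).1 ha)
  have hm : IsMap F H (fun x => autFn γ (autFn a x)) :=
    ham.comp hγm fun x hx => hHT (autFn_mem a hx)
  obtain ⟨α, hα, hαe⟩ := exists_aut_of_isIso (show IsIso F H H (fun x => autFn γ (autFn a x)) from
    ⟨hm, eq_of_le_of_card hHS (hm.img_le le_rfl fun x hx => hH.le (h.autT_hyperfocal hγ (hH.ge (autFn_mem a hx))))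
      (hm.card_img le_rfl).ge⟩)
  refine ⟨α, hα, f₀, hf₀, fun x hx => ?_⟩
  rw [he x hx, he' x hx, autFn_apply α (hf₀.mem hx), hαe]

/-- Extension to the centralizer in `S` with central displacement, for elements of order prime to `p`. -/
theorem residual_extension {α : MulAut ↥H}
    (hα : α ∈ E₁.autGroup H) (hαp : (orderOf α).Coprime p) :
    ∃ g, IsMap F (H ⊔ centralizerIn S H) g ∧
      (∀ x ∈ H, g x = autFn α x) ∧
      ∀ c ∈ centralizerIn S H,
        c⁻¹ * g c ∈ H ⊓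
          Subgroup.centralizer (H : Set Ω) := by
  have hHT : H ≤ T := hH ▸ FusionChain.hyperfocalSubgroup_le p
  have hHS : H ≤ S := hHT.trans h.T_le
  have := h.finT
  have := finite_of_le hHS
  have hcH : F.StronglyClosed H := hH ▸ h.hyperfocal_stronglyClosed
  have hSH : ∀ {s x : Ω}, s ∈ S → x ∈ H → s * x * s⁻¹ ∈ H := fun hs hx =>
    FusionChain.conj_mem_of_stronglyClosed hcH hs hx
  set C := centralizerIn S H
  set Q := H ⊔ centralizerIn T H with hQdef
  have hQT : Q ≤ T := sup_le hHT inf_le_left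
  have hQS : Q ≤ S := hQT.trans h.T_le
  have hHQ : H ≤ Q := le_sup_left
  have hSC : ∀ {s c : Ω}, s ∈ S → c ∈ centralizerIn T H → s * c * s⁻¹ ∈ centralizerIn T H := by
    intro s c hs hc
    refine mem_centralizerIn_of_conj (h.conj_T hs hc.1) fun x hx => ?_
    have hx' : s⁻¹ * x * s ∈ H := by simpa using hSH (S.inv_mem hs) hx
    calc s * c * s⁻¹ * x * (s * c * s⁻¹)⁻¹ = s * (c * (s⁻¹ * x * s) * c⁻¹) * s⁻¹ := by group
      _ = x := by rw [centralizerIn_conj hc hx']; group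
  have hQn : ∀ s ∈ S, s ∈ normalizerIn S Q := fun s hs => by
    have := finite_of_le hQS
    refine mem_normalizerIn_of_conj hs fun x hx => ?_
    exact (Fusion.IsMap.conj (F := F) hQS hs).forall_mem_sup le_sup_left le_sup_right
      (fun y hy => Subgroup.mem_sup_left (hSH hs hy)) (fun y hy => Subgroup.mem_sup_right (hSC hs hy)) hx
  have hQfn : F.IsFullyNormalized Q := ⟨hQS, fun Q' _ => by
    have := finite_of_le (S := S) (P := normalizerIn S Q) inf_le_left
    exact Subgroup.card_le_of_le (inf_le_left.trans hQn)⟩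
  have hQc : E.IsCentric Q := FusionNormalCent.centric_of_fullyNormalized h.pgroup h.sat h.inv hQT hQfn
    ((inf_le_inf_left T (Subgroup.centralizer_le hHQ)).trans le_sup_right)
  -- an extension inside `E`
  have hαE : α ∈ E.autGroup H := FusionNormal.autGroup_le_of_sub i₁.1 le_rfl hα
  have hHfn : E.IsFullyNormalized H := by
    refine ⟨hHT, fun Q' _ => ?_⟩
    have := finite_of_le (S := T) (P := normalizerIn T H) inf_le_left
    exact Subgroup.card_le_of_le (inf_le_left.trans fun t ht =>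
      mem_normalizerIn_of_conj ht fun x hx => hSH (h.T_le ht) hx)
  obtain ⟨g, hg, hge, -⟩ := FusionChain.exists_extension_NK
    (receptive_of_fullyNormalized h.pT h.esat hHfn) hαE (⊥ : Subgroup (MulAut H)) fun z hz => by
      rw [(Subgroup.mem_bot.1 hz.2 : z = 1), mul_one, mul_inv_cancel]
      exact one_mem _
  have hgQ : IsMap E Q g := hg.mono (sup_le_sup_left (centralizerIn_le_NK T H _) H)
  have hgC : ∀ c ∈ centralizerIn T H, g c ∈ centralizerIn T H := fun c hc => by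
    refine mem_centralizerIn_of_conj (hgQ.mem (Subgroup.mem_sup_right hc)) fun x hx => ?_
    have hv := autFn_mem α⁻¹ hx
    have h2 := hgQ.map_conj (Subgroup.mem_sup_right hc) (hHQ hv)
    rw [centralizerIn_conj hc hv, hge _ hv, autFn_self_inv α hx] at h2
    exact h2.symm
  obtain ⟨n₀, hn₀, hn₀e⟩ := exists_aut_of_isIso (show IsIso E Q Q g from
    ⟨hgQ, eq_of_le_of_card hQT (hgQ.img_le le_rfl fun x hx => hgQ.forall_mem_sup le_sup_left le_sup_right
      (fun y hy => Subgroup.mem_sup_left (hge y hy ▸ autFn_mem α hy))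
      (fun y hy => Subgroup.mem_sup_right (hgC y hy)) hx) (hgQ.card_img le_rfl).ge⟩)
  have hn₀α : ∀ x ∈ H, autFn n₀ x = autFn α x := fun x hx => by
    rw [autFn_apply n₀ (hHQ hx), hn₀e, hge x hx]
  -- normalising the conjugations from the centralizer
  have := finite_of_le hQS
  have := finite_mulAut (S := S) hQS
  have hEQ : ∀ a ∈ E.autGroup Q, ∀ x ∈ H, autFn a x ∈ H := fun a ha x hx =>
    FusionChain.isMap_mem_of_stronglyClosed hcH
      (FusionNormal.isMap_of_sub h.inv.1 ((mem_autGroup_iff hQT).1 ha)) (hHQ hx) hx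
  let J : Subgroup (MulAut Q) :=
    { carrier := {a | ∀ x ∈ H, autFn a x = x}
      one_mem' := fun x hx => autFn_apply _ (hHQ hx)
      mul_mem' := fun {a b} ha hb x hx => by rw [autFn_mul _ _ (hHQ hx), hb x hx, ha x hx]
      inv_mem' := fun {a} ha x hx => by
        conv_lhs => rw [← ha x hx]
        exact autFn_inv_self a (hHQ hx) }
  set L := E.autGroup Q ⊓ J
  set Pc := autInducedBy C Q
  have hPS : Pc ≤ autInducedBy S Q := autInducedBy_le_of_le inf_le_left
  have hPJ : Pc ≤ J := fun z hz x hx => by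
    obtain ⟨c, hc, hce⟩ := mem_autInducedBy_iff.1 hz
    rw [autFn_apply z (hHQ hx), hce]
    exact centralizerIn_conj hc hx
  have hPF : Pc ≤ F.autGroup Q := hPS.trans (autInducedBy_le_autGroup F le_rfl hQS)
  have hPn : Pc ≤ Subgroup.normalizer (L : Set (MulAut Q)) := fun z hz => by
    have key : ∀ {w : MulAut Q}, w ∈ Pc → ∀ a ∈ L, w * a * w⁻¹ ∈ L := fun {w} hw a ha =>
      Subgroup.mem_inf.2 ⟨FusionNormal.conj_mem_autGroup h.inv hQT (hPF hw) ha.1,
        J.mul_mem (J.mul_mem (hPJ hw) ha.2) (J.inv_mem (hPJ hw))⟩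
    exact Subgroup.mem_normalizer_iff.2 fun a => ⟨key hz a, fun ha => by
      simpa [mul_assoc] using key (inv_mem hz) _ ha⟩
  have hSylE := (isFullyAutomized_iff.1 (fullyAutomized_of_fullyNormalized h.pT h.esat
    (FusionNormalCent.fullyNormalized_sub h.pgroup h.sat h.inv hQT hQfn))).2
  have hTL : autInducedBy T Q ⊓ L ≤ Pc := fun z hz => by
    obtain ⟨t, ht, hte⟩ := mem_autInducedBy_iff.1 hz.1
    refine mem_autInducedBy_iff.2 ⟨t, mem_centralizerIn_of_conj (h.T_le ht) fun x hx => ?_, hte⟩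
    have h2 := hz.2.2 x hx
    rwa [autFn_apply z (hHQ hx), hte] at h2
  have hSylL : IsSylowIn p (autInducedBy T Q ⊓ L) L := hSylE.inf_normal inf_le_left fun a ha b hb => by
    refine Subgroup.mem_inf.2 ⟨mul_mem (mul_mem ha hb.1) (inv_mem ha), fun x hx => ?_⟩
    rw [autFn_mul _ _ (hHQ hx), autFn_mul _ _ (autFn_mem _ (hHQ hx)),
      hb.2 _ (hEQ _ (inv_mem ha) x hx), autFn_self_inv a (hHQ hx)]
  have hSylG : IsSylowIn p Pc (L ⊔ Pc) := by
    refine ⟨le_sup_right, (isPGroup_autInducedBy h.pgroup).to_le hPS, fun D hPD hD hDp => ?_⟩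
    refine le_antisymm (fun d hd => ?_) hPD
    obtain ⟨l, hl, z, hz, rfl⟩ : ∃ l ∈ L, ∃ z ∈ Pc, l * z = d := by
      have h2 := hD hd
      rw [← SetLike.mem_coe, Subgroup.coe_mul_of_right_le_normalizer_left _ _ hPn] at h2
      exact h2
    have hlD : l ∈ D := by simpa using mul_mem hd (inv_mem (hPD hz))
    have e := hSylL.2.2 (D ⊓ L) (le_inf (fun w hw => hPD (hTL hw)) inf_le_right) inf_le_right
      hDp.to_inf_left
    exact mul_mem (hTL (e ▸ Subgroup.mem_inf.2 ⟨hlD, hl⟩)) hz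
  have hn₀J : ∀ a ∈ J, n₀ * a * n₀⁻¹ ∈ J := fun a ha x hx => by
    rw [autFn_mul _ _ (hHQ hx), autFn_mul _ _ (autFn_mem _ (hHQ hx)),
      ha _ (hEQ _ (inv_mem hn₀) x hx), autFn_self_inv n₀ (hHQ hx)]
  have hconj : Pc.map (MulAut.conj n₀).toMonoidHom ≤ L ⊔ Pc := by
    rintro _ ⟨z, hz, rfl⟩
    show n₀ * z * n₀⁻¹ ∈ L ⊔ Pc
    rw [show n₀ * z * n₀⁻¹ = (n₀ * z * n₀⁻¹ * z⁻¹) * z by group]
    refine mul_mem (Subgroup.mem_sup_left (Subgroup.mem_inf.2
      ⟨?_, J.mul_mem (hn₀J z (hPJ hz)) (J.inv_mem (hPJ hz))⟩)) (Subgroup.mem_sup_right hz)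
    rw [show n₀ * z * n₀⁻¹ * z⁻¹ = n₀ * (z * n₀⁻¹ * z⁻¹) by group]
    exact mul_mem hn₀ (FusionNormal.conj_mem_autGroup h.inv hQT (hPF hz) (inv_mem hn₀))
  obtain ⟨a, ha, haP⟩ := hSylG.exists_conj_le (hSylG.isPGroup.map _) hconj
  obtain ⟨z, hz, l, hl, rfl⟩ : ∃ z ∈ Pc, ∃ l ∈ L, z * l = a := by
    rw [← SetLike.mem_coe, Subgroup.coe_mul_of_right_le_normalizer_left _ _ hPn] at ha
    obtain ⟨l, hl, z, hz, rfl⟩ := ha
    refine ⟨z, hz, z⁻¹ * l * z, ?_, by group⟩
    have h2 := (Subgroup.mem_normalizer_iff.1 (hPn (inv_mem hz)) l).1 hl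
    rwa [inv_inv] at h2
  set n₁ := l * n₀
  have hn₁E : n₁ ∈ E.autGroup Q := mul_mem hl.1 hn₀
  have hn₁α : ∀ x ∈ H, autFn n₁ x = autFn α x := fun x hx => by
    rw [autFn_mul _ _ (hHQ hx), hn₀α x hx, hl.2 _ (autFn_mem α hx)]
  have hn₁P : ∀ w ∈ Pc, n₁ * w * n₁⁻¹ ∈ Pc := fun w hw => by
    have h2 := haP _ ⟨w, hw, rfl⟩
    have h3 := mul_mem (mul_mem (inv_mem hz) h2) hz
    convert h3 using 1
    simp only [n₁, MulEquiv.coe_toMonoidHom, MulAut.conj_apply]
    group
  obtain ⟨m, hm, hmp⟩ := FusionProduct.exists_pow_coprime_modEq n₁ (d := orderOf α) hαp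
  set n := n₁ ^ m
  have hnE : n ∈ E.autGroup Q := pow_mem hn₁E m
  have hnα : ∀ x ∈ H, autFn n x = autFn α x := fun x hx => by
    rw [autFn_apply _ (hHQ hx), FusionProduct.pow_restrict hHQ (b := α)
      (fun r hr => by rw [← autFn_apply n₁ (hHQ hr), hn₁α r hr, autFn_apply α hr]) m x hx,
      FusionProduct.pow_eq_self_of_modEq hm, autFn_apply α hx]
  have hnP : ∀ w ∈ Pc, n * w * n⁻¹ ∈ Pc := by
    suffices ∀ j : ℕ, ∀ w ∈ Pc, n₁ ^ j * w * (n₁ ^ j)⁻¹ ∈ Pc from this m
    intro j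
    induction j with
    | zero => intro w hw; simpa using hw
    | succ j ih =>
      intro w hw
      rw [show n₁ ^ (j + 1) * w * (n₁ ^ (j + 1))⁻¹ = n₁ * (n₁ ^ j * w * (n₁ ^ j)⁻¹) * n₁⁻¹ by
        rw [pow_succ']; group]
      exact hn₁P _ (ih w hw)
  have hcomm : ∀ w ∈ Pc, w⁻¹ * (n * w * n⁻¹) ∈ autInducedBy T Q := fun w hw => by
    refine h.autS_inf_E_le hQT hQfn (Subgroup.mem_inf.2
      ⟨mul_mem (inv_mem (hPS hw)) (hPS (hnP w hw)), ?_⟩)
    rw [show w⁻¹ * (n * w * n⁻¹) = w⁻¹ * n * w⁻¹⁻¹ * n⁻¹ by group]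
    exact mul_mem (FusionNormal.conj_mem_autGroup h.inv hQT (inv_mem (hPF hw)) hnE) (inv_mem hnE)
  set M := Q ⊔ NK S Q Pc
  obtain ⟨Y, hY, hYp, hYe⟩ : ∃ Y ∈ Ac F E M, (orderOf Y).Coprime p ∧ ∀ x ∈ Q, autFn Y x = autFn n x :=
    h.exists_ext hQfn hQc hnE hmp hnP hcomm
  have hMS : M ≤ S := sup_le hQS (NK_le S Q Pc)
  have hCM : C ≤ M := fun c hc => Subgroup.mem_sup_right (mem_NK.2 ⟨hc.1,
    normConj S Q ⟨c, hQn c hc.1⟩, mem_autInducedBy_iff.2 ⟨c, hc, fun _ => normConj_apply _ _⟩,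
    fun _ => normConj_apply _ _⟩)
  have hHM : H ≤ M := hHQ.trans le_sup_left
  have hYα : ∀ x ∈ H, autFn Y x = autFn α x := fun x hx => (hYe x (hHQ hx)).trans (hnα x hx)
  have hYm : IsMap F M (autFn Y) := (mem_autGroup_iff hMS).1 hY.1
  refine ⟨autFn Y, hYm.mono (sup_le hHM hCM), hYα, fun c hc => Subgroup.mem_inf.2
    ⟨hH ▸ h.disp_hyperfocal hMS hY hYp (hCM hc), ?_⟩⟩
  refine (mem_centralizerIn_of_conj (P := H) (S := S)
    (S.mul_mem (S.inv_mem hc.1) (hMS (autFn_mem Y (hCM hc)))) fun x hx => ?_).2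
  have hv := autFn_mem α⁻¹ hx
  have h2 := hYm.map_conj (hCM hc) (hHM hv)
  rw [centralizerIn_conj hc hv, hYα _ hv, autFn_self_inv α hx] at h2
  calc c⁻¹ * autFn Y c * x * (c⁻¹ * autFn Y c)⁻¹ = c⁻¹ * (autFn Y c * x * (autFn Y c)⁻¹) * c := by group
    _ = c⁻¹ * (c * x * c⁻¹) * c := by rw [← h2, centralizerIn_conj hc hx]
    _ = x := by group

/-- The residual of a normal subsystem is normal. -/
theorem residual_normal : E₁.IsNormalIn F p := by
  have hHT : H ≤ T := hH ▸ FusionChain.hyperfocalSubgroup_le p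
  have hHS : H ≤ S := hHT.trans h.T_le
  have := finite_of_le hHS
  have := finite_mulAut (S := S) hHS
  have hHp : IsPGroup p H := h.pgroup.to_le hHS
  have hcH : F.StronglyClosed H := hH ▸ h.hyperfocal_stronglyClosed
  have hsub : E₁.IsSubsystemOf F := fun P φ hφ => h.inv.1 P (i₁.1 P hφ)
  refine FusionProduct.isNormalIn_of_fn ⟨h₁, h.sat, FusionProduct.isInvariantIn_of_fn hsub hcH
    (fun P f _ hf α hα => h.residual_transport hH h₁ i₁ hα hf)
    fun P f hP hf => h.residual_frattini hH h₁ i₁ hP hf⟩ ?_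
  set C := centralizerIn S H
  set Z := H ⊓ Subgroup.centralizer (H : Set Ω)
  let Ext : MulAut H → Prop := fun α =>
    ∃ g, IsMap F (H ⊔ C) g ∧ (∀ x ∈ H, g x = autFn α x) ∧ ∀ c ∈ C, c⁻¹ * g c ∈ Z
  have hmul : ∀ a b : MulAut H, Ext a → Ext b → Ext (a * b) := by
    rintro a b ⟨g, hg, hge, hgC⟩ ⟨g', hg', hge', hgC'⟩
    have hmem : ∀ x ∈ H ⊔ C, g' x ∈ H ⊔ C := fun x hx => hg'.forall_mem_sup le_sup_left le_sup_right
      (fun y hy => Subgroup.mem_sup_left (hge' y hy ▸ autFn_mem b hy))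
      (fun y hy => by
        have := mul_mem (Subgroup.mem_sup_right hy : y ∈ H ⊔ C) (Subgroup.mem_sup_left (hgC' y hy).1)
        simpa using this) hx
    refine ⟨fun x => g (g' x), hg'.comp hg hmem, fun x hx => ?_, fun c hc => ?_⟩
    · show g (g' x) = _
      rw [hge' x hx, hge _ (autFn_mem b hx), autFn_mul a b hx]
    · show c⁻¹ * g (g' c) ∈ Z
      set z := c⁻¹ * g' c with hz
      have hzZ : z ∈ Z := hgC' c hc
      rw [show g' c = c * z by rw [hz]; group, hg.map_mul (Subgroup.mem_sup_right hc)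
        (Subgroup.mem_sup_left hzZ.1), ← mul_assoc, hge z hzZ.1]
      refine Z.mul_mem (hgC c hc) (Subgroup.mem_inf.2 ⟨autFn_mem a hzZ.1, ?_⟩)
      refine (mem_centralizerIn_of_conj (P := H) (S := S) (hHS (autFn_mem a hzZ.1)) fun x hx => ?_).2
      have hv := autFn_mem a⁻¹ hx
      have h2 := hg.map_conj (Subgroup.mem_sup_left hzZ.1) (Subgroup.mem_sup_left hv)
      rw [centralizerIn_conj (⟨hHS hzZ.1, hzZ.2⟩ : z ∈ centralizerIn S H) hv, hge _ hv,
        hge z hzZ.1, autFn_self_inv a hx] at h2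
      exact h2.symm
  have hone : Ext 1 := ⟨fun x => x, Fusion.IsMap.id (sup_le hHS inf_le_left),
    fun x hx => by rw [autFn_apply _ hx]; rfl, fun c _ => by simp⟩
  let G : Subgroup (MulAut H) :=
    { carrier := {a | Ext a}
      one_mem' := hone
      mul_mem' := fun {a b} ha hb => hmul a b ha hb
      inv_mem' := fun {a} ha => by
        have hp : ∀ k : ℕ, Ext (a ^ k) := fun k => by
          induction k with
          | zero => rwa [pow_zero]
          | succ k ih => rw [pow_succ]; exact hmul _ _ ih ha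
        have e : a⁻¹ = a ^ (orderOf a - 1) := inv_eq_of_mul_eq_one_right (by
          rw [← pow_succ', Nat.sub_add_cancel (orderOf_pos a), pow_orderOf_eq_one])
        exact e ▸ hp _ }
  have hfn : E₁.IsFullyNormalized H := ⟨le_rfl, fun Q _ => by
    rw [normalizerIn_self]
    exact Subgroup.card_le_of_le inf_le_left⟩
  intro α hα
  have hle : E₁.autGroup H ≤ G := by
    refine FusionNormal.autGroup_le_of_sylow_pResidual
      (isFullyAutomized_iff.1 (fullyAutomized_of_fullyNormalized hHp h₁ hfn)).2 (fun b hb => ?_)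
      fun b hb hbc => h.residual_extension hH h₁ i₁ hb hbc
    obtain ⟨t, ht, hte⟩ := mem_autInducedBy_iff.1 hb
    refine ⟨fun x => t * x * t⁻¹, Fusion.IsMap.conj (sup_le hHS inf_le_left) (hHS ht),
      fun x hx => by rw [autFn_apply b hx, hte], fun c hc => ?_⟩
    have h2 := centralizerIn_conj hc ht
    show c⁻¹ * (t * c * t⁻¹) ∈ Z
    rw [show c⁻¹ * (t * c * t⁻¹) = c⁻¹ * t * c * t⁻¹ by group,
      show c⁻¹ * t * c = c⁻¹ * (c * t * c⁻¹) * c by rw [h2],
      show c⁻¹ * (c * t * c⁻¹) * c * t⁻¹ = 1 by group]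
    exact one_mem _
  exact hle hα

end PSys

end Cfsg.Agent.FusionProdR
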