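import Cfsg.Agent.Lib.FusionProdR.Good
import Cfsg.Agent.Lib.FusionCrit.NormalResidual

/-
Saturation of the product with `R`.
Main results (namespace `Cfsg.Agent.FusionProdR`): `PSys.far_top`, `PSys.far_class`, `PSys.isSaturated`.
-/

set_option autoImplicit false
set_option linter.unusedSectionVars false

namespace Cfsg.Agent.FusionProdR

open Cfsg Cfsg.Agent.Fusion
open Cfsg.FusionSystem hiding inv_mem
open Cfsg.Agent.FusionCrit (autFn_mul autFn_inv_self autFn_self_inv FAR Chain ClassHyp IsUniversal)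

variable {Ω : Type*} [Group Ω] {S T R : Subgroup Ω} {F : FusionSystem S} {p : ℕ} {E : FusionSystem T}

namespace PSys

variable [Finite S] [Fact p.Prime] (h : PSys F p E) (hTR : T ≤ R) (hRS : R ≤ S)

include h hTR hRS

theorem far_top : FAR (prodSys F p E hRS 0) p R := by
  have hfR := finite_of_le hRS
  have := finite_of_le h.T_le
  have hRfc : InH E R R := (⟨le_rfl, by rw [inf_eq_right.2 hTR]; exact FusionCrit.isCentric_self⟩)
  have hRn : TFN F T R := by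
    refine ⟨hRS, fun Q _ => ?_⟩
    have := finite_of_le (S := S) (P := normalizerIn T R) (inf_le_left.trans h.T_le)
    exact Subgroup.card_le_of_le (inf_le_left.trans fun t ht => ⟨ht, Subgroup.le_normalizer (hTR ht)⟩)
  have hsmall : ∀ {P : Subgroup Ω} {f : Ω → Ω}, PGen F p E R R (Nat.card R) P f →
      ∃ r ∈ R, ∀ x ∈ P, f x = r * x * r⁻¹ := by
    intro P f hf
    induction hf with
    | aut hc hk _ _ _ => exact absurd (Subgroup.card_le_of_le hc.1) (not_le.2 hk)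
    | @conj P r _ hr => exact ⟨r, hr, fun x _ => rfl⟩
    | @comp P f g h₁ _ ih₁ ih₂ =>
      obtain ⟨r, hr, e⟩ := ih₁
      obtain ⟨r', hr', e'⟩ := ih₂
      refine ⟨r' * r, mul_mem hr' hr, fun x hx => ?_⟩
      show g (f x) = _
      rw [e' _ ((h₁.isMap (amb_self (F := F) (p := p) (E := E) hRS le_rfl)).mem_img hx), e x hx]
      group
    | @congr P f g _ e ih =>
      obtain ⟨r, hr, e'⟩ := ih
      exact ⟨r, hr, fun x hx => (e x hx).symm.trans (e' x hx)⟩
  have haut : (prodSys F p E hRS 0).autGroup R = BP F p E R R := by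
    refine le_antisymm (fun α hα => ?_) (h.BP_le_aut hRS hRfc)
    obtain ⟨g, hg, n, hn, he⟩ := h.pgen_split hRS _ (isMap_prodSys.1 ((mem_autGroup_iff le_rfl).1 hα)) rfl
    obtain ⟨r, hr, hre⟩ := hsmall hg
    have hrN : r ∈ normalizerIn R R := (normalizerIn_self R).symm ▸ hr
    have e : α = normConj R R ⟨r, hrN⟩ * n := MulEquiv.ext fun x => Subtype.ext (by
      rw [← autFn_apply α x.2, MulAut.mul_apply, normConj_apply, he x x.2,
        hre _ (autFn_mem n x.2), autFn_apply n x.2])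
    rw [e]
    exact mul_mem (Subgroup.mem_sup_right ((range_normConj R R).le ⟨_, rfl⟩)) (Subgroup.mem_sup_left hn)
  refine ⟨isFullyAutomized_iff.2 ⟨le_rfl, haut ▸ h.sylow_BP hTR hRS hRn hRfc.2⟩, isReceptive_iff.2 ⟨le_rfl, fun Q φ hφ => ?_⟩⟩
  have hQR : Q = R := eq_of_le_of_card le_rfl hφ.le_left hφ.card_eq.le
  refine ⟨φ, hφ.1.mono ?_, fun x _ => rfl⟩
  exact ((Nx_le_normalizerIn R Q φ).trans inf_le_left).trans hQR.ge

theorem far_class {P : Subgroup Ω} (hlt : P < R) (hP : InH E R P)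
    (hfar : ∀ W : Subgroup Ω, W ≤ R → Nat.card P < Nat.card W →
      ∃ W', (prodSys F p E hRS 0).IsConj W W' ∧ FAR (prodSys F p E hRS 0) p W') :
    ∃ Q, (prodSys F p E hRS 0).IsConj P Q ∧ FAR (prodSys F p E hRS 0) p Q := by
  have hfR := finite_of_le hRS
  set k := Nat.card P
  have hne : ∀ Q : Subgroup Ω, F.IsConj P Q → InH E R Q → ¬ k < Nat.card Q := fun Q hQ _ => by
    obtain ⟨g, hg⟩ := isConj_iff.1 hQ
    rw [hg.card_eq]
    exact lt_irrefl _
  have hcls : ClassHyp (prodSys F p E hRS k) p P := by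
    refine ⟨(h.pgroup.to_le hRS), hlt, fun W hW hk => ?_, fun Q f hQ hf => ?_⟩
    · obtain ⟨W', hc, hW'⟩ := hfar W hW hk
      obtain ⟨a, ha⟩ := isConj_iff.1 hc
      exact ⟨W', isConj_iff.2 ⟨a, h.isMap_agree hRS ha.1 hk, ha.2⟩, h.far_weaken hRS (ha.card_eq.symm ▸ hk) hW'⟩
    · exact h.chain_of_gen hRS hlt hne (isMap_prodSys.1 hf) (h.isConj_F hRS hQ)
  obtain ⟨U, hU⟩ := hcls.exists_universal
  obtain ⟨M, hPM, hMn⟩ := h.exists_member_TFN hTR hRS hP.1
  obtain ⟨uM, huM, huMe⟩ := hU.2 M hPM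
  have hUR : U ≤ R := (isConj_le hU.1).2
  have hUc : InH E R U := by
    obtain ⟨g, hg⟩ := isConj_iff.1 (h.isConj_F hRS hU.1)
    exact h.inH_iso hP hg hUR
  have hUr : TFN F T U := by
    refine ⟨hUR.trans hRS, fun Q hQ => ?_⟩
    have h1 := hMn.2 Q (isConj_trans (isConj_symm (h.isConj_F hRS hPM)) (isConj_trans (h.isConj_F hRS hU.1) hQ))
    refine h1.trans ?_
    have hle : normalizerIn T M ≤ normalizerIn R M := inf_le_inf_right _ hTR
    have hMR : M ≤ R := (isConj_le hPM).2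
    rw [← huM.card_img hle]
    have := finite_of_le (S := S) (P := normalizerIn T U) (inf_le_left.trans h.T_le)
    exact Subgroup.card_le_of_le (huM.img_le hle fun x hx =>
      ⟨h.map_T (h.isMap_F hRS huM) (hle hx) hx.1,
        (map_normalizerIn huM (le_normalizerIn hMR) huMe (hle hx) (hle hx)).2⟩)
  have haut : (prodSys F p E hRS 0).autGroup U = BP F p E R U :=
    le_antisymm (h.autGroup_le_BP hTR hRS hlt hU hfar) (h.BP_le_aut hRS hUc)
  have hPU : (prodSys F p E hRS 0).IsConj P U := by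
    obtain ⟨g, hg⟩ := isConj_iff.1 hU.1
    exact isConj_iff.2 ⟨g, h.isMap_weaken hRS hg.1, hg.2⟩
  refine ⟨U, hPU, isFullyAutomized_iff.2 ⟨hUR, haut ▸ h.sylow_BP hTR hRS hUr hUc.2⟩,
    isReceptive_iff.2 ⟨hUR, fun Q φ hφ => ?_⟩⟩
  have hQR := hφ.le_left
  -- `Q` is a member of the restricted class
  obtain ⟨ψ, hψ⟩ := isConj_iff.1 (isConj_trans hPU (isConj_symm (isConj_iff.2 ⟨φ, hφ⟩)))
  obtain ⟨g, hg, n, -, he⟩ := h.pgen_split hRS k (isMap_prodSys.1 hψ.1) rfl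
  have hQc : (prodSys F p E hRS k).IsConj P Q := by
    refine isConj_iff.2 ⟨g, isMap_prodSys.2 hg, ?_⟩
    refine IsIso.img_eq_of (hg.isMap (amb_self (F := F) (p := p) (E := E) hRS le_rfl)) le_rfl (fun y hy => ?_) fun z hz => ?_
    · have h1 := hψ.mem (autFn_mem n⁻¹ hy)
      rwa [he _ (autFn_mem n⁻¹ hy), autFn_self_inv n hy] at h1
    · obtain ⟨x, hx, rfl⟩ := hψ.exists_eq hz
      exact ⟨autFn n x, autFn_mem n hx, (he x hx).symm⟩
  obtain ⟨u, hu, huQ⟩ := hU.2 Q hQc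
  have hQN : Q ≤ normalizerIn R Q := le_normalizerIn hQR
  have hu0 : IsMap (prodSys F p E hRS 0) (normalizerIn R Q) u := h.isMap_weaken hRS hu
  have huQI : IsIso (prodSys F p E hRS 0) Q U u := ⟨hu0.mono hQN, huQ⟩
  obtain ⟨ui, hui, huil, -⟩ := huQI.symm
  obtain ⟨b, hb, hbe⟩ := exists_aut_of_isIso (hui.trans hφ)
  rw [haut] at hb
  have hbu : ∀ x ∈ Q, autFn b (u x) = φ x := fun x hx => by
    rw [autFn_apply b (huQI.mem hx), hbe]
    show φ (ui (u x)) = φ x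
    rw [huil x hx]
  set N := Nx R Q φ
  have hNN : N ≤ normalizerIn R Q := Nx_le_normalizerIn R Q φ
  set Z := autInducedBy (img u N) U with hZdef
  have huN : ∀ g ∈ N, u g ∈ normalizerIn R U := fun g hg =>
    map_normalizerIn hu0 hQN huQ (hNN hg) (hNN hg)
  have hNR : img u N ≤ R := hu0.img_le hNN fun g hg => (huN g hg).1
  have hZ : Z ≤ autInducedBy R U := autInducedBy_le_of_le hNR
  have hbZ : ∀ z ∈ Z, b * z * b⁻¹ ∈ autInducedBy R U := fun z hz => by
    obtain ⟨_, hy, hze⟩ := mem_autInducedBy_iff.1 hz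
    obtain ⟨g, hg, rfl⟩ := (hu0.mem_img_iff hNN).1 hy
    obtain ⟨-, t, ht, hte⟩ := mem_Nx.1 hg
    refine mem_autInducedBy_iff.2 ⟨t, ht, fun w => ?_⟩
    obtain ⟨x, hx, hxw⟩ := hφ.exists_eq w.2
    have hbx : b ⟨u x, huQI.mem hx⟩ = w :=
      Subtype.ext ((autFn_apply b (huQI.mem hx)).symm.trans ((hbu x hx).trans hxw))
    have e2 : z ⟨u x, huQI.mem hx⟩ = ⟨u (g * x * g⁻¹), huQI.mem (normalizerIn_conj (hNN hg) hx)⟩ :=
      Subtype.ext ((hze _).trans (hu0.map_conj (hNN hg) (hQN hx)).symm)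
    rw [← hbx, MulAut.mul_apply, MulAut.mul_apply, MulAut.inv_apply_self, e2,
      ← autFn_apply b (huQI.mem (normalizerIn_conj (hNN hg) hx)), hbu _ (normalizerIn_conj (hNN hg) hx),
      hte x hx, hbx, ← hxw]
  obtain ⟨g₁, hg₁, hg₁e⟩ := h.good_ext hTR hRS hUr hUc hZ hb hbZ
  have hmap : ∀ g ∈ N, u g ∈ U ⊔ NK R U Z := fun g hg => Subgroup.mem_sup_right (mem_NK.2
    ⟨(huN g hg).1, normConj R U ⟨u g, huN g hg⟩,
      mem_autInducedBy_iff.2 ⟨u g, hu0.mem_img hg, fun w => normConj_apply _ _⟩,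
      fun w => normConj_apply _ _⟩)
  refine ⟨fun x => g₁ (u x), (hu0.mono hNN).comp (isMap_prodSys.2 hg₁) hmap, fun x hx => ?_⟩
  show g₁ (u x) = φ x
  rw [hg₁e _ (huQI.mem hx), hbu x hx]

/-- A centric member outside the family moves: some conjugate has a stabilising conjugation outside `Inn`. -/
theorem hstar {P : Subgroup Ω} (hPR : P ≤ R) (hP : ¬ E.IsCentric (P ⊓ T))
    (hc : (prodSys F p E hRS 0).IsCentric P) :
    ∃ Q, (prodSys F p E hRS 0).IsConj P Q ∧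
      ¬ (autInducedBy R Q ⊓ FusionChain.pCoreAut (prodSys F p E hRS 0) p Q ≤ Cfsg.Inn Q) := by
  have hPS := hPR.trans hRS
  obtain ⟨X₀, f, hX₀, hf, hfX, -⟩ :=
    exists_fullyNormalized_map h.pgroup h.sat (inf_le_left.trans hPS : P ⊓ T ≤ S)
  have hf' : IsMap F P f := hf.mono fun w hw => h.normalizer_inf (le_normalizerIn hPS hw)
  obtain ⟨α, hα, d, hd, he⟩ := h.frattini hf'
  have hA := amb_self (F := F) (p := p) (E := E) hα.le (le_sup_right : T ≤ P ⊔ T)
  have hdm := hd.isMap hA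
  set P' := img d P with hP'
  have hP'le : P' ≤ P ⊔ T := hdm.img_le le_rfl (hd.mem hA)
  have hP'R : P' ≤ R := hP'le.trans (sup_le hPR hTR)
  have hconj : (prodSys F p E hRS 0).IsConj P P' :=
    isConj_iff.2 ⟨d, isMap_prodSys.2 (hd.enlarge (sup_le hPR hTR) hTR), rfl⟩
  refine ⟨P', hconj, fun hle => ?_⟩
  have hi : IsIso F P' (img f P) α := by
    refine ⟨hα.mono hP'le, IsIso.img_eq_of hα hP'le (fun y hy => ?_) fun z hz => ?_⟩
    · obtain ⟨x, hx, rfl⟩ := (hdm.mem_img_iff le_rfl).1 hy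
      rw [← he x hx]
      exact hf'.mem_img hx
    · obtain ⟨x, hx, rfl⟩ := (hf'.mem_img_iff le_rfl).1 hz
      exact ⟨d x, hdm.mem_img hx, (he x hx).symm⟩
  have hX : img f P ⊓ T = X₀ := (h.iso_inf ⟨hf', rfl⟩).2.symm.trans hfX
  have hX₀T : X₀ ≤ T := hX ▸ inf_le_right
  have hiX : IsIso F (P' ⊓ T) X₀ α := hX ▸ h.iso_inf hi
  have hX₀c : ¬ centralizerIn T X₀ ≤ X₀ := fun hC => hP <|
    FusionNormalCent.centric_of_conj h.inv
      (FusionNormalCent.centric_of_fullyNormalized h.pgroup h.sat h.inv hX₀T hX₀ hC)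
      (isConj_symm (isConj_iff.2 ⟨f, hX ▸ h.iso_inf (⟨hf', rfl⟩ : IsIso F P (img f P) f)⟩))
  have hC : ¬ centralizerIn T (P' ⊓ T) ≤ P' ⊓ T := fun hC => hX₀c fun z hz => by
    have hTT : img α T = T := eq_of_le_of_card h.T_le
      (hα.img_le le_sup_right fun x hx => h.map_T hα (Subgroup.mem_sup_right hx) hx)
      (hα.card_img le_sup_right).ge
    obtain ⟨c, hc', rfl⟩ := (hα.mem_img_iff le_sup_right).1 (hTT.symm ▸ hz.1 : z ∈ img α T)
    refine hiX.mem (hC (mem_centralizerIn_of_conj hc' fun x hx => ?_))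
    have hxd : x ∈ P ⊔ T := Subgroup.mem_sup_right hx.2
    have hcd : c ∈ P ⊔ T := Subgroup.mem_sup_right hc'
    refine hα.inj (mul_mem (mul_mem hcd hxd) (inv_mem hcd)) hxd ?_
    rw [hα.map_conj hcd hxd]
    exact centralizerIn_conj hz (hiX.mem hx)
  obtain ⟨c, hcC, hcN, hcP⟩ := h.exists_stab_conj h.pgroup (hP'R.trans hRS) hC
  have hcR : c ∈ R := hTR hcC.1
  obtain ⟨w, hw⟩ := hle (h.stab_mem_pCoreAut prodSys_sub hP'R hRS hcR hcC hcN)
  refine hcP ?_
  have h1 : (w : Ω)⁻¹ * c ∈ centralizerIn R P' := by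
    refine mem_centralizerIn_of_conj (mul_mem (inv_mem (hP'R w.2)) hcR) fun v hv => ?_
    have h2 : (w : Ω) * v * (w : Ω)⁻¹ = c * v * c⁻¹ :=
      (congrArg (fun φ : MulAut P' => ((φ ⟨v, hv⟩ : P') : Ω)) hw).trans (normConj_apply _ _)
    calc (w : Ω)⁻¹ * c * v * ((w : Ω)⁻¹ * c)⁻¹ = (w : Ω)⁻¹ * (c * v * c⁻¹) * w := by group
      _ = v := by rw [← h2]; group
  have h3 := P'.mul_mem w.2 (hc.2 P' hconj h1)
  rwa [mul_inv_cancel_left] at h3

theorem isSaturated : (prodSys F p E hRS 0).IsSaturated p := by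
  have hfR := finite_of_le hRS
  have hcR : ∀ {Q : Subgroup Ω}, Q ≤ R → Nat.card Q ≤ Nat.card R := fun hQ => Subgroup.card_le_of_le hQ
  suffices H : ∀ n, ∀ P : Subgroup Ω, P ≤ R → Nat.card R - Nat.card P = n →
      ∃ Q, (prodSys F p E hRS 0).IsConj P Q ∧ FAR (prodSys F p E hRS 0) p Q from fun P hP => H _ P hP rfl
  intro n
  induction n using Nat.strong_induction_on with
  | _ n ih =>
  intro P hPR hn
  rcases eq_or_lt_of_le hPR with e | hlt
  · exact ⟨R, by rw [e]; exact isConj_refl _ le_rfl, h.far_top hTR hRS⟩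
  have hfar : ∀ W : Subgroup Ω, W ≤ R → Nat.card P < Nat.card W →
      ∃ W', (prodSys F p E hRS 0).IsConj W W' ∧ FAR (prodSys F p E hRS 0) p W' := fun W hW hk =>
    ih _ (by have := hcR hW; omega) W hW rfl
  by_cases hP : InH E R P
  · exact h.far_class hTR hRS hlt hP hfar
  have hne : ∀ Q : Subgroup Ω, F.IsConj P Q → InH E R Q → ¬ 0 < Nat.card Q := fun Q hQ hQc _ => by
    obtain ⟨g, hg⟩ := isConj_iff.1 (isConj_symm hQ)
    exact hP (h.inH_iso hQc hg hPR)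
  refine FusionCrit.exists_FAR_of_class ⟨h.pgroup.to_le hRS, hlt, hfar,
    fun Q f hQ hf => h.chain_of_gen hRS hlt hne (isMap_prodSys.1 hf) (h.isConj_F hRS hQ)⟩ fun hc => ?_
  exact h.hstar hTR hRS hPR (fun hPc => hP ⟨hPR, hPc⟩) hc

end PSys

end Cfsg.Agent.FusionProdR
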