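import Cfsg.Agent.Lib.FusionProdR.Uniq
import Cfsg.Agent.Lib.FusionLayer.MeetFocal

/-
The automizers of the product with `R` at members with maximal normalizer in `T`, and the extension lemma
inside `Ac`.
Main results (namespace `Cfsg.Agent.FusionProdR`): `PSys.sylow_NP`, `PSys.autS_inf_NP_le`, `PSys.sylow_BP`,
`PSys.exists_ext_coprime`.
-/

set_option autoImplicit false

namespace Cfsg.Agent.FusionProdR

open Cfsg Cfsg.Agent.Fusion
open Cfsg.FusionSystem hiding inv_mem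
open Cfsg.Agent.FusionCrit (autFn_mul autFn_inv_self autFn_self_inv)

variable {Ω : Type*} [Group Ω] {S T : Subgroup Ω} {p : ℕ} {F : FusionSystem S} {E : FusionSystem T}

namespace PSys

variable [Finite S] [Fact p.Prime] (h : PSys F p E)

include h

theorem autS_inf_E_le {P : Subgroup Ω} (hP : P ≤ T) (hPn : F.IsFullyNormalized P) :
    autInducedBy S P ⊓ E.autGroup P ≤ autInducedBy T P := by
  have := h.finT
  have := finite_mulAut (S := S) hPn.1
  have hA := (isFullyAutomized_iff.1 (fullyAutomized_of_fullyNormalized h.pT h.esat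
    (FusionNormalCent.fullyNormalized_sub h.pgroup h.sat h.inv hP hPn))).2
  exact (hA.2.2 _ (le_inf (autInducedBy_le_of_le h.T_le) hA.le) inf_le_right
    (isPGroup_autInducedBy h.pgroup).to_inf_left).le

/-- An element of order prime to `p` of `Ac W` moves conjugations it normalises by conjugations from `T`. -/
theorem comm_fn {W : Subgroup Ω} (hW : F.IsFullyNormalized W) (hQ : F.IsFullyNormalized (W ⊓ T))
    (hc : E.IsCentric (W ⊓ T)) {n : MulAut W} (hn : n ∈ Ac F E W) (hnp : (orderOf n).Coprime p)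
    {P : Subgroup (MulAut W)} (hP : P ≤ autInducedBy S W) (hnP : ∀ q ∈ P, n * q * n⁻¹ ∈ P)
    {q : MulAut W} (hq : q ∈ P) : q⁻¹ * (n * q * n⁻¹) ∈ autInducedBy T W := by
  set Q := W ⊓ T with hQdef
  have hWS := hW.1
  have := finite_of_le hWS
  have := finite_mulAut (S := S) hWS
  have hQS : Q ≤ S := hQ.1
  have hQW : Q ≤ W := inf_le_left
  have hQT : Q ≤ T := inf_le_right
  have hnm : IsMap F W (autFn n) := (mem_autGroup_iff hWS).1 hn.1
  set P' := P ⊔ autInducedBy W W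
  have hnP' : ∀ z ∈ P', n * z * n⁻¹ ∈ P' := by
    have hle : P'.map (MulAut.conj n).toMonoidHom ≤ P' := by
      rw [Subgroup.map_sup]
      refine sup_le ?_ ?_
      · rintro _ ⟨z, hz, rfl⟩
        exact Subgroup.mem_sup_left (hnP z hz)
      · rintro _ ⟨z, hz, rfl⟩
        obtain ⟨w, hw, hwe⟩ := mem_autInducedBy_iff.1 hz
        refine Subgroup.mem_sup_right (mem_autInducedBy_iff.2 ⟨autFn n w, autFn_mem n hw, fun x => ?_⟩)
        obtain ⟨x, rfl⟩ := n.surjective x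
        show (((n * z * n⁻¹) (n x) : W) : Ω) = _
        rw [MulAut.mul_apply, MulAut.mul_apply, MulAut.inv_apply_self, ← autFn_apply n (z x).2, hwe,
          hnm.map_conj hw x.2, autFn_apply n x.2]
    exact fun z hz => hle ⟨z, hz, rfl⟩
  have hP'S : P' ≤ autInducedBy S W := sup_le hP (autInducedBy_le_of_le hWS)
  set M₁ := NK S W P'
  have hM₁W : M₁ ≤ normalizerIn S W := NK_le_normalizerIn S W P'
  have hWM₁ : W ≤ M₁ := fun w hw => mem_NK.2 ⟨hWS hw, normConj S W ⟨w, le_normalizerIn hWS hw⟩,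
    Subgroup.mem_sup_right (mem_autInducedBy_iff.2 ⟨w, hw, fun _ => normConj_apply _ _⟩),
    fun _ => normConj_apply _ _⟩
  have hM₁Q : ∀ m ∈ M₁, m ∈ normalizerIn S Q := fun m hm => h.normalizer_inf (hM₁W hm)
  obtain ⟨b, hb, hbe, hbo⟩ := FusionInner.exists_restrict hWS hQW hn.1
    fun x hx => (h.iso_inf (isIso_autFn hWS hn.1)).mem hx
  have hbE : b ∈ E.autGroup Q :=
    (mem_autGroup_iff hQT).2 (hn.2.2.congr fun x hx => (hbe x hx).symm)
  set Z := autInducedBy M₁ Q with hZ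
  have hpart : ∀ z ∈ Z, ∃ m' ∈ M₁, ∀ x : Q, (((b * z * b⁻¹) x : Q) : Ω) = m' * x * m'⁻¹ := by
    intro z hz
    obtain ⟨m, hm, hme⟩ := mem_autInducedBy_iff.1 hz
    obtain ⟨-, γ, hγ, hγe⟩ := mem_NK.1 hm
    have hγ' := hnP' γ hγ
    obtain ⟨m', hm', hm'e⟩ := mem_autInducedBy_iff.1 (hP'S hγ')
    refine ⟨m', mem_NK.2 ⟨hm', _, hγ', hm'e⟩, fun x => ?_⟩
    obtain ⟨x, rfl⟩ := b.surjective x
    have h1 := hm'e (n ⟨x, hQW x.2⟩)
    rw [MulAut.mul_apply, MulAut.mul_apply, MulAut.inv_apply_self, ← autFn_apply n (γ _).2, hγe,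
      ← autFn_apply n (hQW x.2)] at h1
    rw [MulAut.mul_apply, MulAut.mul_apply, MulAut.inv_apply_self, ← autFn_apply b (z x).2,
      hbe _ (z x).2, hme, h1, ← hbe _ x.2, autFn_apply b x.2]
  have hnZ : ∀ z ∈ Z, b * z * b⁻¹ ∈ Z := fun z hz => by
    obtain ⟨m', hm', hm'e⟩ := hpart z hz
    exact mem_autInducedBy_iff.2 ⟨m', hm', hm'e⟩
  have hM₁S : M₁ ≤ S := NK_le S W P'
  have hcomm : ∀ z ∈ Z, z⁻¹ * (b * z * b⁻¹) ∈ autInducedBy T Q := fun z hz => by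
    refine h.autS_inf_E_le hQT hQ (Subgroup.mem_inf.2
      ⟨mul_mem (inv_mem (autInducedBy_le_of_le hM₁S hz)) (autInducedBy_le_of_le hM₁S (hnZ z hz)), ?_⟩)
    have hzF : z ∈ F.autGroup Q := autInducedBy_le_autGroup F hM₁S hQS hz
    rw [show z⁻¹ * (b * z * b⁻¹) = z⁻¹ * b * z⁻¹⁻¹ * b⁻¹ by group]
    exact mul_mem (FusionNormal.conj_mem_autGroup h.inv hQT (inv_mem hzF) hbE) (inv_mem hbE)
  set M := Q ⊔ NK S Q Z
  obtain ⟨Y, hY, hYp, hYe⟩ : ∃ Y ∈ Ac F E M, (orderOf Y).Coprime p ∧ ∀ x ∈ Q, autFn Y x = autFn b x :=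
    h.exists_ext hQ hc hbE (Nat.Coprime.coprime_dvd_left hbo hnp) hnZ hcomm
  have hMS : M ≤ S := sup_le hQS (NK_le S Q Z)
  have hM₁M : M₁ ≤ M := fun m hm => Subgroup.mem_sup_right (mem_NK.2
    ⟨hM₁S hm, normConj S Q ⟨m, hM₁Q m hm⟩, mem_autInducedBy_iff.2 ⟨m, hm, fun _ => normConj_apply _ _⟩,
      fun _ => normConj_apply _ _⟩)
  have hWM : W ≤ M := hWM₁.trans hM₁M
  have hYn : ∀ x ∈ Q, autFn Y x = autFn n x := fun x hx => (hYe x hx).trans (hbe x hx)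
  obtain ⟨y, hy, hye, hyo⟩ := h.restrict_ac hMS hWM hY (h.stable_of_agree hMS hWM hc hY hn hYn)
  obtain ⟨z, hz, -, hze⟩ := h.exists_eq_conj hWS hc hn hnp hy (Nat.Coprime.coprime_dvd_left hyo hYp)
    fun x hx => ((hye x (hQW hx)).trans (hYn x hx)).symm
  obtain ⟨s, hs, hse⟩ := mem_autInducedBy_iff.1 (hP hq)
  have hsM : s ∈ M := hM₁M (mem_NK.2 ⟨hs, q, Subgroup.mem_sup_left hq, hse⟩)
  have hYm : IsMap F M (autFn Y) := (mem_autGroup_iff hMS).1 hY.1
  refine mem_autInducedBy_iff.2 ⟨s⁻¹ * z * s * (s⁻¹ * autFn Y s) * z⁻¹,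
    T.mul_mem (T.mul_mem (h.conj_T_inv hs hz.2) (hY.2.1 s hsM)) (T.inv_mem hz.2), fun x => ?_⟩
  obtain ⟨x, rfl⟩ := n.surjective x
  have h1 : ((n (q x) : W) : Ω) = (z * autFn Y s * z⁻¹) * (n x : W) * (z * autFn Y s * z⁻¹)⁻¹ := by
    rw [← autFn_apply n (q x).2, hze _ (q x).2, hye _ (q x).2, hse, hYm.map_conj hsM (hWM x.2),
      ← hye _ x.2, ← autFn_apply n x.2, hze _ x.2]
    group
  have h2 := hse (q⁻¹ (n (q x)))
  rw [MulAut.apply_inv_self, h1] at h2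
  rw [MulAut.mul_apply, MulAut.mul_apply, MulAut.mul_apply, MulAut.inv_apply_self]
  calc ((q⁻¹ (n (q x)) : W) : Ω) = s⁻¹ * (s * (q⁻¹ (n (q x)) : W) * s⁻¹) * s := by group
    _ = _ := by rw [← h2]; group

theorem autT_inf_NP_sylow_fn {W : Subgroup Ω} (hW : F.IsFullyNormalized W)
    (hQ : F.IsFullyNormalized (W ⊓ T)) (hc : E.IsCentric (W ⊓ T)) :
    IsSylowIn p (autInducedBy T W ⊓ NP F p E W) (NP F p E W) := by
  have hWS := hW.1
  have := finite_mulAut (S := S) hWS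
  have := finite_of_le hWS
  set N := NP F p E W with hN
  have hNF : N ≤ F.autGroup W := fun a ha => (NP_le_Ac W ha).1
  have hS : IsSylowIn p (autInducedBy S W ⊓ N) N :=
    (isFullyAutomized_iff.1 (fullyAutomized_of_fullyNormalized h.pgroup h.sat hW)).2.inf_normal hNF
      fun g hg a ha => h.NP_normal hWS hg ha
  set Y := (autInducedBy S W).subgroupOf N
  set X := (autInducedBy T W).subgroupOf N
  have hY : IsSylowIn p Y (⊤ : Subgroup N) := by
    have h1 := hS.subgroupOf (W := N) le_rfl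
    rwa [Subgroup.inf_subgroupOf_right, Subgroup.subgroupOf_self] at h1
  have hTn : ∀ y ∈ Y, ∀ x ∈ X, y * x * y⁻¹ ∈ X := by
    intro y hy x hx
    obtain ⟨s, hs, hse⟩ := mem_autInducedBy_iff.1 (hy : (y : MulAut W) ∈ autInducedBy S W)
    obtain ⟨r, hr, hre⟩ := mem_autInducedBy_iff.1 (hx : (x : MulAut W) ∈ autInducedBy T W)
    refine mem_autInducedBy_iff.2 ⟨s * r * s⁻¹, h.conj_T hs hr, fun z => ?_⟩
    obtain ⟨w, rfl⟩ := (y : MulAut W).surjective z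
    simp only [Subgroup.subtype_apply] at hse hre
    show ((((y : MulAut W) * (x : MulAut W) * (y : MulAut W)⁻¹) ((y : MulAut W) w) : W) : Ω) = _
    rw [MulAut.mul_apply, MulAut.mul_apply, MulAut.inv_apply_self, hse, hre, hse]
    group
  have hgen : Subgroup.closure {g : N | (orderOf g).Coprime p} = ⊤ := by
    refine Subgroup.map_injective N.subtype_injective ?_
    rw [MonoidHom.map_closure, ← MonoidHom.range_eq_map, Subgroup.range_subtype, hN, NP]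
    congr 1
    ext a
    constructor
    · rintro ⟨g, hg, rfl⟩
      exact ⟨NP_le_Ac W g.2, by simpa [Subgroup.orderOf_coe] using hg⟩
    · rintro ⟨ha, hc⟩
      refine ⟨⟨a, Subgroup.subset_closure ⟨ha, hc⟩⟩, ?_, rfl⟩
      show (orderOf (⟨a, _⟩ : N)).Coprime p
      rwa [← Subgroup.orderOf_coe]
  have hmain : Y ≤ X := by
    refine FusionLayer.sylow_le_of_coprime_comm hY (fun x hx => autInducedBy_le_of_le h.T_le hx) hTn hgen
      fun Q' hQ' n hn hnQ q hq => ?_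
    exact h.comm_fn hW hQ hc (NP_le_Ac W n.2) (by rwa [Subgroup.orderOf_coe]) (P := Q'.map N.subtype)
      (by rintro _ ⟨r, hr, rfl⟩; exact hQ' hr)
      (by rintro _ ⟨r, hr, rfl⟩; exact ⟨n * r * n⁻¹, hnQ r hr, rfl⟩) ⟨q, hq, rfl⟩
  have e : autInducedBy T W ⊓ N = autInducedBy S W ⊓ N := le_antisymm
    (inf_le_inf_right _ (autInducedBy_le_of_le h.T_le)) fun a ha =>
      ⟨hmain (show (⟨a, ha.2⟩ : N) ∈ Y from ha.1), ha.2⟩
  rw [e]
  exact hS

theorem tfn_of_fn {W : Subgroup Ω} (hW : F.IsFullyNormalized W) : TFN F T W := by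
  refine ⟨hW.1, fun Q hQ => ?_⟩
  obtain ⟨f, hf, -, hfN⟩ := exists_normalizer_map h.pgroup
    (fullyAutomized_of_fullyNormalized h.pgroup h.sat hW)
    (receptive_of_fullyNormalized h.pgroup h.sat hW) (isConj_symm hQ)
  have hle : normalizerIn T Q ≤ normalizerIn S Q := inf_le_inf_right _ h.T_le
  rw [← hf.card_img hle]
  have := finite_of_le (S := S) (P := normalizerIn T W) (inf_le_left.trans h.T_le)
  exact Subgroup.card_le_of_le (hf.img_le hle fun x hx =>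
    ⟨h.map_T hf (hle hx) hx.1, (hfN x (hle hx)).2⟩)

omit [Fact p.Prime] in
/-- For a member with maximal normalizer in `T`, normalizers in `T` correspond. -/
theorem tfn_bij {W W' : Subgroup Ω} (hW : TFN F T W) {u : Ω → Ω} (hu : IsMap F (normalizerIn S W) u)
    (huW : img u W = W') : img u (normalizerIn T W) = normalizerIn T W' ∧ TFN F T W' := by
  have hWN : W ≤ normalizerIn S W := le_normalizerIn hW.1
  have hi : IsIso F W W' u := ⟨hu.mono hWN, huW⟩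
  have hle : normalizerIn T W ≤ normalizerIn S W := inf_le_inf_right _ h.T_le
  have hc : F.IsConj W W' := isConj_iff.2 ⟨u, hi⟩
  have e : img u (normalizerIn T W) = normalizerIn T W' := by
    refine eq_of_le_of_card (inf_le_left.trans h.T_le) (hu.img_le hle fun x hx =>
      ⟨h.map_T hu (hle hx) hx.1, (map_normalizerIn hu hWN huW (hle hx) (hle hx)).2⟩) ?_
    rw [hu.card_img hle]
    exact hW.2 W' hc
  refine ⟨e, hi.le_right, fun Q hQ => ?_⟩
  rw [← e, hu.card_img hle]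
  exact hW.2 Q (isConj_trans hc hQ)

omit [Fact p.Prime] in
theorem autT_congr {W W' : Subgroup Ω} (hW : TFN F T W) {u : Ω → Ω} (hu : IsMap F (normalizerIn S W) u)
    (hi : IsIso F W W' u) :
    (autInducedBy T W).map (MulAut.congr hi.equiv).toMonoidHom = autInducedBy T W' := by
  obtain ⟨hb, -⟩ := h.tfn_bij hW hu hi.2
  have hle : normalizerIn T W ≤ normalizerIn S W := inf_le_inf_right _ h.T_le
  have hWN : W ≤ normalizerIn S W := le_normalizerIn hW.1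
  ext β
  constructor
  · rintro ⟨α, hα, rfl⟩
    obtain ⟨r, hr, hre⟩ := mem_autInducedBy_iff.1 hα
    have hrN : r ∈ normalizerIn T W :=
      ⟨hr, (mem_normalizerIn_of_aut (h.T_le hr) hre : r ∈ normalizerIn S W).2⟩
    refine mem_autInducedBy_iff.2 ⟨u r, (hb.le (hu.mem_img hrN)).1, fun y => ?_⟩
    obtain ⟨x, rfl⟩ := hi.equiv.surjective y
    show ((MulAut.congr hi.equiv α (hi.equiv x) : W') : Ω) = _
    rw [congr_apply_coe, hre, IsIso.equiv_apply, hu.map_conj (hle hrN) (hWN x.2)]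
  · intro hβ
    obtain ⟨r₀, hr₀, hre⟩ := mem_autInducedBy_iff.1 hβ
    have hr₀N : r₀ ∈ normalizerIn T W' :=
      ⟨hr₀, (mem_normalizerIn_of_aut (h.T_le hr₀) hre : r₀ ∈ normalizerIn S W').2⟩
    obtain ⟨r, hr, rfl⟩ := (hu.mem_img_iff hle).1 (hb.ge hr₀N)
    refine ⟨normConj S W ⟨r, hle hr⟩,
      mem_autInducedBy_iff.2 ⟨r, hr.1, fun x => normConj_apply _ _⟩, MulEquiv.ext fun y => ?_⟩
    obtain ⟨x, rfl⟩ := hi.equiv.surjective y
    refine Subtype.ext ?_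
    show ((MulAut.congr hi.equiv _ (hi.equiv x) : W') : Ω) = _
    rw [congr_apply_coe, normConj_apply, hre, IsIso.equiv_apply, hu.map_conj (hle hr) (hWN x.2)]

theorem sylow_NP {W : Subgroup Ω} (hW : TFN F T W) (hc : E.IsCentric (W ⊓ T)) :
    IsSylowIn p (autInducedBy T W ⊓ NP F p E W) (NP F p E W) := by
  obtain ⟨W', u, hu, huW, -, hW', hQ'⟩ := h.exists_fn_pair hW.1
  have hi : IsIso F W W' u := ⟨hu.mono (le_normalizerIn hW.1), huW⟩
  have hc' : E.IsCentric (W' ⊓ T) :=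
    FusionNormalCent.centric_of_conj h.inv hc (isConj_iff.2 ⟨u, h.iso_inf hi⟩)
  have h1 := h.autT_inf_NP_sylow_fn hW' hQ' hc'
  have e1 : (autInducedBy T W ⊓ NP F p E W).map (MulAut.congr hi.equiv).toMonoidHom =
      autInducedBy T W' ⊓ NP F p E W' := by
    rw [Subgroup.map_inf _ _ _ (MulAut.congr hi.equiv).injective, h.autT_congr hW hu hi, h.NP_congr hi]
  rw [← e1, ← h.NP_congr hi] at h1
  refine ⟨inf_le_right, (isPGroup_autInducedBy h.pgroup).to_le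
    (inf_le_left.trans (autInducedBy_le_of_le h.T_le)), fun C hle hC hCp => ?_⟩
  exact Subgroup.map_injective (MulAut.congr hi.equiv).injective
    (h1.2.2 _ (Subgroup.map_mono hle) (Subgroup.map_mono hC) (hCp.map _))

theorem autS_inf_NP_le {W : Subgroup Ω} (hW : TFN F T W) (hc : E.IsCentric (W ⊓ T)) :
    autInducedBy S W ⊓ NP F p E W ≤ autInducedBy T W := by
  have e := (h.sylow_NP hW hc).2.2 _ (inf_le_inf_right _ (autInducedBy_le_of_le h.T_le)) inf_le_right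
    (isPGroup_autInducedBy h.pgroup).to_inf_left
  exact fun a ha => (e ▸ ha : a ∈ autInducedBy T W ⊓ NP F p E W).1

variable {R : Subgroup Ω} (hTR : T ≤ R) (hRS : R ≤ S)

include hTR hRS

theorem sylow_BP {W : Subgroup Ω} (hW : TFN F T W) (hc : E.IsCentric (W ⊓ T)) :
    IsSylowIn p (autInducedBy R W) (BP F p E R W) := by
  have := finite_mulAut (S := S) hW.1
  have hRS' : autInducedBy R W ≤ autInducedBy S W := autInducedBy_le_of_le hRS
  refine ⟨le_sup_right, (isPGroup_autInducedBy h.pgroup).to_le hRS',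
    fun C hle hC hCp => le_antisymm (fun c hc' => ?_) hle⟩
  have hnorm : autInducedBy R W ≤ Subgroup.normalizer (NP F p E W : Set (MulAut W)) := fun r hr => by
    have hrF := autInducedBy_le_autGroup F hRS hW.1 hr
    exact Subgroup.mem_normalizer_iff.2 fun a => ⟨fun ha => h.NP_normal hW.1 hrF ha,
      fun ha => by simpa [mul_assoc] using h.NP_normal hW.1 (inv_mem hrF) ha⟩
  obtain ⟨n, hn, r, hr, rfl⟩ : ∃ n ∈ NP F p E W, ∃ r ∈ autInducedBy R W, n * r = c := by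
    have := hC hc'
    rw [BP, ← SetLike.mem_coe, Subgroup.coe_mul_of_right_le_normalizer_left _ _ hnorm] at this
    exact this
  have hnC : n ∈ C := by simpa using mul_mem hc' (inv_mem (hle hr))
  have h1 := (h.sylow_NP hW hc).2.2 (C ⊓ NP F p E W)
    (fun x hx => Subgroup.mem_inf.2 ⟨hle (autInducedBy_le_of_le hTR hx.1), hx.2⟩) inf_le_right
    hCp.to_inf_left
  exact mul_mem (autInducedBy_le_of_le hTR
    (show n ∈ autInducedBy T W ⊓ NP F p E W from h1 ▸ Subgroup.mem_inf.2 ⟨hnC, hn⟩).1) hr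

theorem mem_NP_of_coprime {W : Subgroup Ω} (hWS : W ≤ S) {g : MulAut W} (hg : g ∈ BP F p E R W)
    (hgc : (orderOf g).Coprime p) : g ∈ NP F p E W :=
  have := finite_mulAut (S := S) hWS
  FusionLayer.mem_of_coprime_sup
    ((isPGroup_autInducedBy h.pgroup).to_le (autInducedBy_le_of_le hRS))
    (fun k hk _ ha => h.NP_normal hWS (autInducedBy_le_autGroup F hRS hWS hk) ha) hg hgc

/-- The extension inside `Ac` at a member with maximal normalizer in `T`. -/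
theorem exists_ext_coprime {U : Subgroup Ω} (hU : TFN F T U) (hUH : InH E R U) {n : MulAut U}
    (hn : n ∈ Ac F E U) (hnp : (orderOf n).Coprime p) {Z : Subgroup (MulAut U)}
    (hZ : Z ≤ autInducedBy R U) (hnZ : ∀ z ∈ Z, n * z * n⁻¹ ∈ Z) :
    ∃ M, U ⊔ NK R U Z ≤ M ∧ M ≤ R ∧ ∃ a ∈ Ac F E M,
      (orderOf a).Coprime p ∧ ∀ x ∈ U, autFn a x = autFn n x := by
  obtain ⟨hUR, hc⟩ := hUH
  have hUS := hU.1
  have := finite_of_le hUS
  have := finite_mulAut (S := S) hUS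
  set Q := U ⊓ T with hQdef
  have hQU : Q ≤ U := inf_le_left
  have hnm : IsMap F U (autFn n) := (mem_autGroup_iff hUS).1 hn.1
  set Z' := Z ⊔ autInducedBy U U
  have hnZ' : ∀ z ∈ Z', n * z * n⁻¹ ∈ Z' := by
    have hle : Z'.map (MulAut.conj n).toMonoidHom ≤ Z' := by
      rw [Subgroup.map_sup]
      refine sup_le ?_ ?_
      · rintro _ ⟨z, hz, rfl⟩
        exact Subgroup.mem_sup_left (hnZ z hz)
      · rintro _ ⟨z, hz, rfl⟩
        obtain ⟨w, hw, hwe⟩ := mem_autInducedBy_iff.1 hz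
        refine Subgroup.mem_sup_right (mem_autInducedBy_iff.2 ⟨autFn n w, autFn_mem n hw, fun x => ?_⟩)
        obtain ⟨x, rfl⟩ := n.surjective x
        show (((n * z * n⁻¹) (n x) : U) : Ω) = _
        rw [MulAut.mul_apply, MulAut.mul_apply, MulAut.inv_apply_self, ← autFn_apply n (z x).2, hwe,
          hnm.map_conj hw x.2, autFn_apply n x.2]
    exact fun z hz => hle ⟨z, hz, rfl⟩
  have hZ'R : Z' ≤ autInducedBy R U := sup_le hZ (autInducedBy_le_of_le hUR)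
  set M := NK R U Z'
  have hMR : M ≤ R := NK_le R U Z'
  have hMN : M ≤ normalizerIn S U :=
    (NK_le_normalizerIn R U Z').trans (inf_le_inf_right _ hRS)
  have hMS : M ≤ S := hMR.trans hRS
  have := finite_of_le hMS
  have := finite_mulAut (S := S) hMS
  have hUM : U ≤ M := fun w hw => mem_NK.2 ⟨hUR hw, normConj S U ⟨w, le_normalizerIn hUS hw⟩,
    Subgroup.mem_sup_right (mem_autInducedBy_iff.2 ⟨w, hw, fun _ => normConj_apply _ _⟩),
    fun _ => normConj_apply _ _⟩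
  have hle : U ⊔ NK R U Z ≤ M := sup_le hUM fun g hg => by
    obtain ⟨hgR, α, hα, e⟩ := mem_NK.1 hg
    exact mem_NK.2 ⟨hgR, α, Subgroup.mem_sup_left hα, e⟩
  -- the twist of a conjugation
  have hstar : ∀ m ∈ M, ∃ t ∈ T, m * t ∈ M ∧
      ∀ x ∈ U, autFn n (m * x * m⁻¹) = m * t * autFn n x * (m * t)⁻¹ := by
    intro m hm
    obtain ⟨-, z, hz, hze⟩ := mem_NK.1 hm
    have hz' := hnZ' z hz
    have hzS : z ∈ autInducedBy S U := autInducedBy_le_of_le hRS (hZ'R hz)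
    have hc' : z⁻¹ * (n * z * n⁻¹) ∈ autInducedBy S U ⊓ NP F p E U := Subgroup.mem_inf.2
      ⟨mul_mem (inv_mem hzS) (autInducedBy_le_of_le hRS (hZ'R hz')), by
        rw [show z⁻¹ * (n * z * n⁻¹) = z⁻¹ * n * z⁻¹⁻¹ * n⁻¹ by group]
        exact mul_mem (h.NP_normal hUS (inv_mem (autInducedBy_le_autGroup F le_rfl hUS hzS))
          (mem_NP hn hnp)) (inv_mem (mem_NP hn hnp))⟩
    obtain ⟨t, ht, hte⟩ := mem_autInducedBy_iff.1 (h.autS_inf_NP_le hU hc hc')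
    have hconj : ∀ x : U, (((n * z * n⁻¹) x : U) : Ω) = m * t * x * (m * t)⁻¹ := fun x => by
      rw [show n * z * n⁻¹ = z * (z⁻¹ * (n * z * n⁻¹)) from (mul_inv_cancel_left _ _).symm,
        MulAut.mul_apply, hze, hte]
      group
    refine ⟨t, ht, mem_NK.2 ⟨R.mul_mem (hMR hm) (hTR ht), _, hz', hconj⟩, fun x hx => ?_⟩
    have h1 := hconj (n ⟨x, hx⟩)
    rw [MulAut.mul_apply, MulAut.mul_apply, MulAut.inv_apply_self, ← autFn_apply n (z _).2, hze] at h1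
    rw [h1, autFn_apply n hx]
  -- a fully normalised image of `U ⊓ T`
  obtain ⟨Qf, u, hQf, hu, huQ, huN⟩ := exists_fullyNormalized_map h.pgroup h.sat
    (inf_le_left.trans hUS : Q ≤ S)
  have hMQ : M ≤ normalizerIn S Q := fun m hm => h.normalizer_inf (hMN hm)
  have hQM : Q ≤ M := hQU.trans hUM
  have huM : IsMap F M u := hu.mono hMQ
  set M₀ := img u M
  set U₀ := img u U
  have hiM : IsIso F M M₀ u := ⟨huM, rfl⟩
  have hiU : IsIso F U U₀ u := ⟨huM.mono hUM, rfl⟩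
  have hiQ : IsIso F Q Qf u := ⟨huM.mono hQM, huQ⟩
  have hU₀T : U₀ ⊓ T = Qf := (h.iso_inf hiU).2.symm.trans huQ
  have hQfT : Qf ≤ T := hU₀T ▸ inf_le_right
  have hc₀ : E.IsCentric Qf := FusionNormalCent.centric_of_conj h.inv hc (isConj_iff.2 ⟨u, hiQ⟩)
  have hM₀S : M₀ ≤ S := hiM.le_right
  have hU₀S : U₀ ≤ S := hiU.le_right
  have hU₀M₀ : U₀ ≤ M₀ := huM.img_le hUM fun x hx => huM.mem_img (hUM hx)
  have := finite_of_le hM₀S
  have := finite_mulAut (S := S) hM₀S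
  set n₀ := MulAut.congr hiU.equiv n
  have hn₀ : n₀ ∈ Ac F E U₀ := h.ac_congr hiU hn
  have hn₀p : (orderOf n₀).Coprime p := ((MulAut.congr hiU.equiv).orderOf_eq n).symm ▸ hnp
  have hn₀e : ∀ x ∈ U, autFn n₀ (u x) = u (autFn n x) := fun x hx => by
    rw [autFn_apply _ (hiU.mem hx), autFn_apply n hx]
    exact congr_apply_coe hiU n ⟨x, hx⟩
  have hQfU₀ : Qf ≤ U₀ := hU₀T ▸ inf_le_left
  obtain ⟨b, hb, hbe, hbo⟩ := FusionInner.exists_restrict hU₀S hQfU₀ hn₀.1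
    fun x hx => hU₀T ▸ (h.iso_inf (isIso_autFn hU₀S hn₀.1)).mem (hU₀T.symm ▸ hx)
  have hbE : b ∈ E.autGroup Qf :=
    (mem_autGroup_iff hQfT).2 ((hU₀T ▸ hn₀.2.2).congr fun x hx => (hbe x hx).symm)
  set Zs := autInducedBy M₀ Qf with hZs
  -- the twist at the image
  have hpart : ∀ m ∈ M, ∃ t ∈ T, t ∈ M ∧ m * t ∈ M ∧
      ∀ x ∈ Qf, autFn b (u m * x * (u m)⁻¹) = u m * u t * autFn b x * (u m * u t)⁻¹ := by
    intro m hm
    obtain ⟨t, ht, hmt, hte⟩ := hstar m hm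
    have htM : t ∈ M := by simpa using M.mul_mem (M.inv_mem hm) hmt
    refine ⟨t, ht, htM, hmt, fun x hx => ?_⟩
    obtain ⟨v, hv, rfl⟩ := hiQ.exists_eq hx
    have hmv : m * v * m⁻¹ ∈ Q := normalizerIn_conj (hMQ hm) hv
    rw [← huM.map_conj hm (hQM hv), hbe _ (hiQ.mem hmv), hbe _ (hiQ.mem hv), hn₀e _ (hQU hmv),
      hn₀e _ (hQU hv), hte v (hQU hv), huM.map_conj hmt (hUM (autFn_mem n (hQU hv))),
      huM.map_mul hm htM]
  have hMQf : ∀ m ∈ M, u m ∈ normalizerIn S Qf := fun m hm => huN m (hMQ hm)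
  have hZel : ∀ z ∈ Zs, ∃ m ∈ M, ∀ x : Qf, ((z x : Qf) : Ω) = u m * x * (u m)⁻¹ := fun z hz => by
    obtain ⟨y, hy, hye⟩ := mem_autInducedBy_iff.1 hz
    obtain ⟨m, hm, rfl⟩ := hiM.exists_eq hy
    exact ⟨m, hm, hye⟩
  have hbz : ∀ z ∈ Zs, ∃ m ∈ M, ∃ t ∈ T, t ∈ M ∧ m * t ∈ M ∧
      (∀ x : Qf, ((z x : Qf) : Ω) = u m * x * (u m)⁻¹) ∧
      ∀ x : Qf, (((b * z * b⁻¹) x : Qf) : Ω) = u m * u t * x * (u m * u t)⁻¹ := fun z hz => by
    obtain ⟨m, hm, hme⟩ := hZel z hz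
    obtain ⟨t, ht, htM, hmt, hte⟩ := hpart m hm
    refine ⟨m, hm, t, ht, htM, hmt, hme, fun x => ?_⟩
    obtain ⟨x, rfl⟩ := b.surjective x
    rw [MulAut.mul_apply, MulAut.mul_apply, MulAut.inv_apply_self, ← autFn_apply b (z x).2, hme,
      hte _ x.2, autFn_apply b x.2]
  have hnZs : ∀ z ∈ Zs, b * z * b⁻¹ ∈ Zs := fun z hz => by
    obtain ⟨m, hm, t, -, htM, -, -, hbe'⟩ := hbz z hz
    exact mem_autInducedBy_iff.2 ⟨u m * u t, M₀.mul_mem (hiM.mem hm) (hiM.mem htM), hbe'⟩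
  have hcomm : ∀ z ∈ Zs, z⁻¹ * (b * z * b⁻¹) ∈ autInducedBy T Qf := fun z hz => by
    obtain ⟨m, hm, t, ht, htM, -, hme, hbe'⟩ := hbz z hz
    refine mem_autInducedBy_iff.2 ⟨u t, h.map_T huM htM ht, fun x => ?_⟩
    have h1 := hme (z⁻¹ ((b * z * b⁻¹) x))
    rw [MulAut.apply_inv_self, hbe'] at h1
    rw [MulAut.mul_apply]
    calc ((z⁻¹ ((b * z * b⁻¹) x) : Qf) : Ω)
        = (u m)⁻¹ * (u m * (z⁻¹ ((b * z * b⁻¹) x) : Qf) * (u m)⁻¹) * u m := by group
      _ = _ := by rw [← h1]; group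
  set M' := Qf ⊔ NK S Qf Zs
  obtain ⟨Y, hY, hYp, hYe⟩ : ∃ Y ∈ Ac F E M', (orderOf Y).Coprime p ∧ ∀ x ∈ Qf, autFn Y x = autFn b x :=
    h.exists_ext hQf hc₀ hbE (Nat.Coprime.coprime_dvd_left hbo hn₀p) hnZs hcomm
  have hM'S : M' ≤ S := sup_le hQf.1 (NK_le S Qf Zs)
  have hM₀M' : M₀ ≤ M' := fun y hy => by
    obtain ⟨m, hm, rfl⟩ := hiM.exists_eq hy
    exact Subgroup.mem_sup_right (mem_NK.2 ⟨hM₀S hy, normConj S Qf ⟨u m, hMQf m hm⟩,
      mem_autInducedBy_iff.2 ⟨u m, hy, fun _ => normConj_apply _ _⟩, fun _ => normConj_apply _ _⟩)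
  have hYm : IsMap F M' (autFn Y) := (mem_autGroup_iff hM'S).1 hY.1
  have hC₀ : centralizerIn T Qf ≤ Qf := hc₀.2 _ (isConj_refl E hQfT)
  have hQfM₀ : Qf ≤ M₀ := hQfU₀.trans hU₀M₀
  have hstab : ∀ y ∈ M₀, autFn Y y ∈ M₀ := fun y hy => by
    obtain ⟨m, hm, rfl⟩ := hiM.exists_eq hy
    obtain ⟨t, ht, htM, hmt, hte⟩ := hpart m hm
    set d := (u m * u t)⁻¹ * autFn Y (u m) with hd
    have hdT : d ∈ T := by
      rw [hd, show (u m * u t)⁻¹ * autFn Y (u m) = (u t)⁻¹ * ((u m)⁻¹ * autFn Y (u m)) by group]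
      exact T.mul_mem (T.inv_mem (h.map_T huM htM ht)) (hY.2.1 _ (hM₀M' hy))
    have hdC : d ∈ centralizerIn T Qf := by
      refine mem_centralizerIn_of_conj hdT fun w hw => ?_
      obtain ⟨x, hx, rfl⟩ : ∃ x ∈ Qf, autFn b x = w :=
        ⟨autFn b⁻¹ w, autFn_mem _ hw, autFn_self_inv b hw⟩
      have hmx : u m * x * (u m)⁻¹ ∈ Qf := normalizerIn_conj (hMQf m hm) hx
      have h1 := hYe _ hmx
      rw [hYm.map_conj (hM₀M' hy) (hM₀M' (hQfM₀ hx)), hYe x hx, hte x hx] at h1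
      calc (u m * u t)⁻¹ * autFn Y (u m) * autFn b x * ((u m * u t)⁻¹ * autFn Y (u m))⁻¹
          = (u m * u t)⁻¹ * (autFn Y (u m) * autFn b x * (autFn Y (u m))⁻¹) * (u m * u t) := by group
        _ = autFn b x := by rw [h1]; group
    rw [show autFn Y (u m) = u m * u t * d by rw [hd]; group]
    exact M₀.mul_mem (M₀.mul_mem hy (hiM.mem htM)) (hQfM₀ (hC₀ hdC))
  obtain ⟨y₀, hy₀, hy₀e, hy₀o⟩ := h.restrict_ac hM'S hM₀M' hY hstab
  have hagree : ∀ x ∈ U₀ ⊓ T, autFn y₀ x = autFn n₀ x := fun x hx => by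
    rw [hy₀e x (hU₀M₀ hx.1)]
    exact (hYe x (hU₀T ▸ hx)).trans (hbe x (hU₀T ▸ hx))
  have hc₀' : E.IsCentric (U₀ ⊓ T) := hU₀T.symm ▸ hc₀
  obtain ⟨y₁, hy₁, hy₁e, hy₁o⟩ := h.restrict_ac hM₀S hU₀M₀ hy₀
    (h.stable_of_agree hM₀S hU₀M₀ hc₀' hy₀ hn₀ hagree)
  obtain ⟨z, hz, -, hze⟩ := h.exists_eq_conj hU₀S hc₀' hn₀ hn₀p hy₁
    (Nat.Coprime.coprime_dvd_left (hy₁o.trans hy₀o) hYp)
    fun x hx => ((hy₁e x hx.1).trans (hagree x hx)).symm
  set cz : MulAut M₀ := MulAut.conj (⟨z, hU₀M₀ hz.1⟩ : M₀)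
  have hcz : cz ∈ Ac F E M₀ :=
    h.autT_le_Ac hM₀S (mem_autInducedBy_iff.2 ⟨z, hz.2, fun _ => rfl⟩)
  obtain ⟨a, ha⟩ := (MulAut.congr hiM.equiv).surjective (cz * y₀)
  have haAc : a ∈ Ac F E M := (h.ac_congr_iff hiM).1 (ha ▸ mul_mem hcz hy₀)
  have hae : ∀ x ∈ U, autFn a x = autFn n x := fun x hx => by
    refine huM.inj (autFn_mem a (hUM hx)) (hUM (autFn_mem n hx)) ?_
    rw [← hn₀e x hx, hze _ (hiU.mem hx), hy₁e _ (hiU.mem hx), autFn_apply a (hUM hx)]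
    refine (congr_apply_coe hiM a ⟨x, hUM hx⟩).symm.trans ?_
    rw [ha, MulAut.mul_apply, autFn_apply y₀ (hU₀M₀ (hiU.mem hx))]
    rfl
  obtain ⟨m, hm, hmp⟩ := FusionProduct.exists_pow_coprime_modEq a (d := orderOf n) hnp
  refine ⟨M, hle, hMR, a ^ m, pow_mem haAc m, hmp, fun x hx => ?_⟩
  rw [autFn_apply _ (hUM hx), FusionProduct.pow_restrict hUM (b := n)
    (fun r hr => by rw [← autFn_apply a (hUM hr), hae r hr, autFn_apply n hr]) m x hx,
    FusionProduct.pow_eq_self_of_modEq hm, autFn_apply n hx]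

end PSys

end Cfsg.Agent.FusionProdR
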