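import Cfsg.Agent.Lib.FusionProdR.Ext

/-
Uniqueness: two elements of order prime to `p` of `Ac W` with the same restriction to the centric part `W ⊓ T`
differ by conjugation by a central element of it.
Main result (namespace `Cfsg.Agent.FusionProdR`): `PSys.exists_eq_conj`.
-/

set_option autoImplicit false

namespace Cfsg.Agent.FusionProdR

open Cfsg Cfsg.Agent.Fusion
open Cfsg.FusionSystem hiding inv_mem
open Cfsg.Agent.FusionCrit (autFn_mul autFn_inv_self autFn_self_inv)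

variable {Ω : Type*} [Group Ω] {S T : Subgroup Ω} {p : ℕ} {F : FusionSystem S} {E : FusionSystem T}

/-- Commuting modulo `I`, two elements of order prime to `p` differing by a `p`-element agree modulo `I`. -/
theorem mem_of_comm_coprime {G : Type*} [Group G] {I : Subgroup G} {k y : G} {e : ℕ}
    (hk : k ^ p ^ e = 1) (hIk : ∀ i ∈ I, k * i * k⁻¹ ∈ I) (hIy : ∀ i ∈ I, y * i * y⁻¹ ∈ I)
    (hcomm : k⁻¹ * (y * k * y⁻¹) ∈ I) (hy : (orderOf y).Coprime p) (hky : (orderOf (k * y)).Coprime p) :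
    k ∈ I := by
  have hIk' : ∀ (j : ℕ), ∀ i ∈ I, k ^ j * i * (k ^ j)⁻¹ ∈ I := by
    intro j
    induction j with
    | zero => intro i hi; simpa using hi
    | succ j ih =>
      intro i hi
      rw [show k ^ (j + 1) * i * (k ^ (j + 1))⁻¹ = k * (k ^ j * i * (k ^ j)⁻¹) * k⁻¹ by
        rw [pow_succ']; group]
      exact hIk _ (ih i hi)
  have hyk : ∀ j : ℕ, ∃ i ∈ I, y ^ j * k = k * i * y ^ j := by
    intro j
    induction j with
    | zero => exact ⟨1, one_mem I, by simp⟩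
    | succ j ih =>
      obtain ⟨i, hi, e⟩ := ih
      refine ⟨k⁻¹ * (y * k * y⁻¹) * (y * i * y⁻¹), mul_mem hcomm (hIy i hi), ?_⟩
      rw [pow_succ', mul_assoc, e]
      group
  have hpow : ∀ j : ℕ, ∃ i ∈ I, (k * y) ^ j = i * (k ^ j * y ^ j) := by
    intro j
    induction j with
    | zero => exact ⟨1, one_mem I, by simp⟩
    | succ j ih =>
      obtain ⟨i, hi, e⟩ := ih
      obtain ⟨i', hi', e'⟩ := hyk j
      refine ⟨i * (k ^ (j + 1) * i' * (k ^ (j + 1))⁻¹), mul_mem hi (hIk' _ i' hi'), ?_⟩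
      rw [pow_succ, e, show i * (k ^ j * y ^ j) * (k * y) = i * (k ^ j * (y ^ j * k) * y) by group, e',
        pow_succ k, pow_succ y]
      group
  obtain ⟨i, hi, e'⟩ := hpow (orderOf y * orderOf (k * y))
  have h1 : (k * y) ^ (orderOf y * orderOf (k * y)) = 1 := by
    rw [pow_mul', pow_orderOf_eq_one, one_pow]
  have h2 : y ^ (orderOf y * orderOf (k * y)) = 1 := by
    rw [pow_mul, pow_orderOf_eq_one, one_pow]
  rw [h1, h2, mul_one] at e'
  have h3 : k ^ (orderOf y * orderOf (k * y)) ∈ I := by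
    rw [eq_inv_of_mul_eq_one_right e'.symm]
    exact inv_mem hi
  have h4 := FusionNormal.pow_gcd_mem h3 hk
  rwa [((hy.mul_left hky).pow_right e).gcd_eq_one, pow_one] at h4

namespace PSys

variable [Finite S] [Fact p.Prime] (h : PSys F p E)

include h

theorem exists_eq_conj_fn {W : Subgroup Ω} (hW : F.IsFullyNormalized W)
    (hQ : F.IsFullyNormalized (W ⊓ T)) (hc : E.IsCentric (W ⊓ T)) {y₁ y₂ : MulAut W}
    (h₁ : y₁ ∈ Ac F E W) (c₁ : (orderOf y₁).Coprime p) (h₂ : y₂ ∈ Ac F E W) (c₂ : (orderOf y₂).Coprime p)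
    (he : ∀ x ∈ W ⊓ T, autFn y₁ x = autFn y₂ x) :
    y₁ * y₂⁻¹ ∈ autInducedBy (centralizerIn T (W ⊓ T) ⊓ W) W := by
  set Q := W ⊓ T with hQdef
  have hWS := hW.1
  have := finite_of_le hWS
  have := finite_mulAut (S := S) hWS
  have hQS : Q ≤ S := hQ.1
  have hQW : Q ≤ W := inf_le_left
  have hC : centralizerIn T Q ≤ Q := hc.2 Q (isConj_refl E inf_le_right)
  have hWQ : W ≤ normalizerIn S Q := fun w hw => h.normalizer_inf (le_normalizerIn hWS hw)
  have hm₁ : IsMap F W (autFn y₁) := (mem_autGroup_iff hWS).1 h₁.1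
  have hmemQ : ∀ {a : MulAut W}, a ∈ F.autGroup W → ∀ x ∈ Q, autFn a x ∈ Q := fun ha x hx =>
    (h.iso_inf (isIso_autFn hWS ha)).mem hx
  obtain ⟨b, hb, hbe, hbo⟩ := FusionInner.exists_restrict hWS hQW h₁.1 (hmemQ h₁.1)
  have hbE : b ∈ E.autGroup Q :=
    (mem_autGroup_iff inf_le_right).2 (h₁.2.2.congr fun x hx => (hbe x hx).symm)
  set Z := autInducedBy W Q with hZ
  have hconj : ∀ w (hw : w ∈ W) (x : Q),
      (((b * normConj S Q ⟨w, hWQ hw⟩ * b⁻¹) x : Q) : Ω) = autFn y₁ w * x * (autFn y₁ w)⁻¹ := by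
    intro w hw x
    obtain ⟨x, rfl⟩ := b.surjective x
    rw [MulAut.mul_apply, MulAut.mul_apply, MulAut.inv_apply_self,
      ← autFn_apply b (normConj S Q ⟨w, hWQ hw⟩ x).2, hbe _ (normConj S Q ⟨w, hWQ hw⟩ x).2,
      normConj_apply, hm₁.map_conj hw (hQW x.2), ← hbe _ x.2, autFn_apply b x.2]
  have hnormeq : ∀ {z : MulAut Q} {w : Ω} (hw : w ∈ W), (∀ x : Q, ((z x : Q) : Ω) = w * x * w⁻¹) →
      z = normConj S Q ⟨w, hWQ hw⟩ := fun hw e =>
    MulEquiv.ext fun x => Subtype.ext (by rw [e, normConj_apply])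
  have hnZ : ∀ z ∈ Z, b * z * b⁻¹ ∈ Z := fun z hz => by
    obtain ⟨w, hw, hwe⟩ := mem_autInducedBy_iff.1 hz
    rw [hnormeq hw hwe]
    exact mem_autInducedBy_iff.2 ⟨autFn y₁ w, autFn_mem _ hw, hconj w hw⟩
  have hcomm : ∀ z ∈ Z, z⁻¹ * (b * z * b⁻¹) ∈ autInducedBy T Q := fun z hz => by
    obtain ⟨w, hw, hwe⟩ := mem_autInducedBy_iff.1 hz
    rw [hnormeq hw hwe]
    refine mem_autInducedBy_iff.2 ⟨w⁻¹ * autFn y₁ w, h₁.2.1 w hw, fun x => ?_⟩
    rw [MulAut.mul_apply, ← map_inv, normConj_apply, hconj w hw x]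
    simp only [InvMemClass.coe_inv]
    group
  set M := Q ⊔ NK S Q Z
  obtain ⟨Y, hY, hYp, hYe⟩ : ∃ Y ∈ Ac F E M, (orderOf Y).Coprime p ∧ ∀ x ∈ Q, autFn Y x = autFn b x :=
    h.exists_ext hQ hc hbE (Nat.Coprime.coprime_dvd_left hbo c₁) hnZ hcomm
  have hMS : M ≤ S := sup_le hQS (NK_le S Q Z)
  have hWM : W ≤ M := fun w hw => Subgroup.mem_sup_right (mem_NK.2
    ⟨hWS hw, normConj S Q ⟨w, hWQ hw⟩, mem_autInducedBy_iff.2 ⟨w, hw, fun _ => normConj_apply _ _⟩,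
      fun _ => normConj_apply _ _⟩)
  have hYe' : ∀ x ∈ Q, autFn Y x = autFn y₁ x := fun x hx => (hYe x hx).trans (hbe x hx)
  obtain ⟨y, hy, hye, hyo⟩ := h.restrict_ac hMS hWM hY (h.stable_of_agree hMS hWM hc hY h₁ hYe')
  have hyp : (orderOf y).Coprime p := Nat.Coprime.coprime_dvd_left hyo hYp
  have hYm : IsMap F M (autFn Y) := (mem_autGroup_iff hMS).1 hY.1
  have hyQ : ∀ x ∈ Q, autFn y x = autFn y₁ x := fun x hx => (hye x (hQW hx)).trans (hYe' x hx)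
  have hQn : ∀ x ∈ W, ∀ w ∈ Q, x * w * x⁻¹ ∈ Q := fun x hx w hw => normalizerIn_conj (hWQ hx) hw
  set K := F.autGroup W ⊓ FusionProduct.stabilizing W Q hQn with hK
  have hKp : IsPGroup p K := (FusionProduct.isPGroup_stabilizing (h.pgroup.to_le hWS)).to_le inf_le_right
  have hKn : ∀ β ∈ F.autGroup W, ∀ k ∈ K, β * k * β⁻¹ ∈ K := fun β hβ k hk => by
    have hpres : ∀ γ ∈ F.autGroup W, ∀ x : W, (x : Ω) ∈ Q → ((γ x : W) : Ω) ∈ Q := fun γ hγ x hx => by
      rw [← autFn_apply γ x.2]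
      exact hmemQ hγ x hx
    refine Subgroup.mem_inf.2 ⟨mul_mem (mul_mem hβ hk.1) (inv_mem hβ), fun x hx => ?_, fun x => ?_⟩
    · rw [MulAut.mul_apply, MulAut.mul_apply, hk.2.1 _ (hpres _ (inv_mem hβ) x hx),
        MulAut.apply_inv_self]
    · have h := hpres β hβ ((β⁻¹ x)⁻¹ * k (β⁻¹ x)) (hk.2.2 (β⁻¹ x))
      rw [map_mul, map_inv, MulAut.apply_inv_self] at h
      exact h
  have hKS : K ≤ autInducedBy S W := FusionProduct.le_autInducedBy_of_normal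
    (fullyAutomized_of_fullyNormalized h.pgroup h.sat hW) hKp inf_le_left hKn
  set I := autInducedBy (centralizerIn T Q ⊓ W) W with hI
  have hIn : ∀ β ∈ F.autGroup W, ∀ i ∈ I, β * i * β⁻¹ ∈ I := fun β hβ i hi => by
    obtain ⟨z, ⟨hzC, hzW⟩, hze⟩ := mem_autInducedBy_iff.1 hi
    have hbm : IsMap F W (autFn β) := (mem_autGroup_iff hWS).1 hβ
    have hzT : autFn β z ∈ T := h.map_T hbm hzW hzC.1
    refine mem_autInducedBy_iff.2 ⟨autFn β z,
      ⟨mem_centralizerIn_of_conj hzT fun x hx => ?_, autFn_mem β hzW⟩, fun x => ?_⟩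
    · have hx' := hmemQ (inv_mem hβ) x hx
      rw [show x = autFn β (autFn β⁻¹ x) from (autFn_self_inv β (hQW hx)).symm,
        ← hbm.map_conj hzW (hQW hx'), centralizerIn_conj hzC hx']
    · obtain ⟨v, rfl⟩ := β.surjective x
      rw [MulAut.mul_apply, MulAut.mul_apply, MulAut.inv_apply_self, ← autFn_apply β (i v).2, hze,
        hbm.map_conj hzW v.2, autFn_apply β v.2]
  -- `y` commutes with `K` modulo `I`
  have hcK : ∀ k ∈ K, k⁻¹ * (y * k * y⁻¹) ∈ I := fun k hk => by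
    obtain ⟨s, hs, hse⟩ := mem_autInducedBy_iff.1 (hKS hk)
    have hsC : s ∈ centralizerIn S Q := mem_centralizerIn_of_conj hs fun x hx => by
      rw [← hse ⟨x, hQW hx⟩, hk.2.1 ⟨x, hQW hx⟩ hx]
    have hsM : s ∈ M := Subgroup.mem_sup_right (centralizerIn_le_NK S Q Z hsC)
    have hsN : s ∈ normalizerIn S W := mem_normalizerIn_of_aut hs hse
    set t := s⁻¹ * autFn Y s with ht
    have hYs : autFn Y s = s * t := (mul_inv_cancel_left _ _).symm
    have htT : t ∈ T := hY.2.1 s hsM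
    have htC : t ∈ centralizerIn T Q := by
      refine mem_centralizerIn_of_conj htT fun x hx => ?_
      obtain ⟨v, hv, rfl⟩ : ∃ v ∈ Q, autFn Y v = x :=
        ⟨autFn y₁⁻¹ x, hmemQ (inv_mem h₁.1) x hx, by
          rw [hYe' _ (hmemQ (inv_mem h₁.1) x hx), autFn_self_inv _ (hQW hx)]⟩
      have h1 : autFn Y s * autFn Y v * (autFn Y s)⁻¹ = autFn Y v := by
        rw [← hYm.map_conj hsM (hWM (hQW hv)), centralizerIn_conj hsC hv]
      have hxS : autFn Y v ∈ Q := hx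
      calc s⁻¹ * autFn Y s * autFn Y v * (s⁻¹ * autFn Y s)⁻¹
          = s⁻¹ * (autFn Y s * autFn Y v * (autFn Y s)⁻¹) * s := by group
        _ = s⁻¹ * (s * autFn Y v * s⁻¹) * s := by rw [h1, centralizerIn_conj hsC hxS]
        _ = autFn Y v := by group
    refine mem_autInducedBy_iff.2 ⟨t, ⟨htC, hQW (hC htC)⟩, fun x => ?_⟩
    have hyk : ∀ v : W, (((y * k * y⁻¹) v : W) : Ω) = autFn Y s * v * (autFn Y s)⁻¹ := fun v => by
      obtain ⟨v, rfl⟩ := y.surjective v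
      rw [MulAut.mul_apply, MulAut.mul_apply, MulAut.inv_apply_self, ← autFn_apply y (k v).2,
        hye _ (k v).2, hse, hYm.map_conj hsM (hWM v.2), ← hye _ v.2, autFn_apply y v.2]
    have h1 := hse (k⁻¹ ((y * k * y⁻¹) x))
    rw [MulAut.apply_inv_self, hyk, hYs] at h1
    rw [MulAut.mul_apply]
    calc ((k⁻¹ ((y * k * y⁻¹) x) : W) : Ω)
        = s⁻¹ * (s * ((k⁻¹ ((y * k * y⁻¹) x) : W) : Ω) * s⁻¹) * s := by group
      _ = t * x * t⁻¹ := by rw [← h1]; group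
  have hd : y₁ * y⁻¹ ∈ I ∧ y₂ * y⁻¹ ∈ I := by
    have key : ∀ a : MulAut W, a ∈ Ac F E W → (orderOf a).Coprime p →
        (∀ x ∈ Q, autFn a x = autFn y₁ x) → a * y⁻¹ ∈ I := fun a ha hac hae => by
      have hd : a * y⁻¹ ∈ K := by
        refine Subgroup.mem_inf.2 ⟨mul_mem ha.1 (inv_mem hy.1), fun x hx => Subtype.ext ?_, fun x => ?_⟩
        · have hx' := hmemQ (inv_mem hy.1) x hx
          rw [← autFn_apply _ x.2, autFn_mul _ _ x.2, hae _ hx', ← hyQ _ hx', autFn_self_inv y x.2]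
        · refine Subgroup.mem_inf.2 ⟨W.mul_mem (W.inv_mem x.2) ((a * y⁻¹) x).2, ?_⟩
          rw [← autFn_apply _ x.2]
          exact (mul_mem ha (inv_mem hy)).2.1 x x.2
      obtain ⟨e, he⟩ := hKp ⟨_, hd⟩
      refine mem_of_comm_coprime (e := e) (congrArg Subtype.val he) (hIn _ hd.1) (hIn _ hy.1)
        (hcK _ hd) hyp ?_
      rwa [inv_mul_cancel_right]
    exact ⟨key y₁ h₁ c₁ fun _ _ => rfl, key y₂ h₂ c₂ fun x hx => (he x hx).symm⟩
  have := mul_mem hd.1 (inv_mem hd.2)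
  simpa [mul_assoc] using this

/-- Two elements of order prime to `p` with the same restriction differ by a central element. -/
theorem exists_eq_conj {W : Subgroup Ω} (hWS : W ≤ S) (hc : E.IsCentric (W ⊓ T)) {y₁ y₂ : MulAut W}
    (h₁ : y₁ ∈ Ac F E W) (c₁ : (orderOf y₁).Coprime p) (h₂ : y₂ ∈ Ac F E W) (c₂ : (orderOf y₂).Coprime p)
    (he : ∀ x ∈ W ⊓ T, autFn y₁ x = autFn y₂ x) :
    ∃ z ∈ W ⊓ T, (∀ x ∈ W ⊓ T, z * x * z⁻¹ = x) ∧
      ∀ x ∈ W, autFn y₁ x = z * autFn y₂ x * z⁻¹ := by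
  obtain ⟨W', u, hu, huW, -, hW', hQ'⟩ := h.exists_fn_pair hWS
  have hWN : W ≤ normalizerIn S W := le_normalizerIn hWS
  have hi : IsIso F W W' u := ⟨hu.mono hWN, huW⟩
  have hq := h.iso_inf hi
  have hc' : E.IsCentric (W' ⊓ T) := FusionNormalCent.centric_of_conj h.inv hc (isConj_iff.2 ⟨u, hq⟩)
  have hval : ∀ (a : MulAut W) x, x ∈ W → autFn (MulAut.congr hi.equiv a) (u x) = u (autFn a x) :=
    fun a x hx => by
      rw [autFn_apply _ (hi.mem hx), autFn_apply a hx]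
      exact congr_apply_coe hi a ⟨x, hx⟩
  have hagree : ∀ x ∈ W' ⊓ T, autFn (MulAut.congr hi.equiv y₁) x = autFn (MulAut.congr hi.equiv y₂) x :=
    fun x hx => by
      obtain ⟨v, hv, rfl⟩ := hq.exists_eq hx
      rw [hval _ v hv.1, hval _ v hv.1, he v hv]
  have hmem := h.exists_eq_conj_fn hW' hQ' hc' (h.ac_congr hi h₁)
    (((MulAut.congr hi.equiv).orderOf_eq y₁).symm ▸ c₁) (h.ac_congr hi h₂)
    (((MulAut.congr hi.equiv).orderOf_eq y₂).symm ▸ c₂) hagree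
  obtain ⟨z', ⟨hz'C, hz'W⟩, hze⟩ := mem_autInducedBy_iff.1 hmem
  obtain ⟨z, hz, rfl⟩ := hq.exists_eq (hc'.2 _ (isConj_refl E inf_le_right) hz'C)
  refine ⟨z, hz, fun x hx => hi.1.inj (W.mul_mem (W.mul_mem hz.1 hx.1) (W.inv_mem hz.1)) hx.1 ?_,
    fun x hx => hi.1.inj (autFn_mem _ hx)
      (W.mul_mem (W.mul_mem hz.1 (autFn_mem _ hx)) (W.inv_mem hz.1)) ?_⟩
  · rw [hi.1.map_conj hz.1 hx.1]
    exact centralizerIn_conj hz'C (hq.mem hx)
  · rw [hi.1.map_conj hz.1 (autFn_mem _ hx), ← hval y₁ x hx, ← hval y₂ x hx]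
    have h1 := hze ⟨autFn (MulAut.congr hi.equiv y₂) (u x), autFn_mem _ (hi.mem hx)⟩
    rw [← h1, ← autFn_apply _ (autFn_mem _ (hi.mem hx)),
      autFn_mul _ _ (autFn_mem _ (hi.mem hx)), autFn_inv_self _ (hi.mem hx)]

end PSys

end Cfsg.Agent.FusionProdR
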