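import Cfsg.Agent.Lib.FusionProdR.Residual

/-
A saturated system over `R` is determined by its residual, when the residual is normal in `F`.
Main results (namespace `Cfsg.Agent.FusionProdR`): `PSys.sub_of_residual`, `hom_eq_of_residual`.
-/

set_option autoImplicit false
set_option linter.unusedSectionVars false

namespace Cfsg.Agent.FusionProdR

open Cfsg Cfsg.Agent.Fusion
open Cfsg.FusionSystem hiding inv_mem
open Cfsg.Agent.FusionCrit (autFn_mul autFn_inv_self autFn_self_inv)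

variable {Ω : Type*} [Group Ω] {S R H : Subgroup Ω} {p : ℕ} {F : FusionSystem S}

/-- Saturated subsystems over `R` with the same normal residual: one lies in the other. -/
theorem PSys.sub_of_residual [Finite S] [Fact p.Prime] {E₁ : FusionSystem H} (h : PSys F p E₁)
    (hHR : H ≤ R) (hRS : R ≤ S) {D D' : FusionSystem R} (hs : D.IsSaturated p) (hF : D.IsSubsystemOf F)
    (hi : E₁.HasPPowerIndexIn D p) (hs' : D'.IsSaturated p) (hF' : D'.IsSubsystemOf F)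
    (hi' : E₁.HasPPowerIndexIn D' p) : D.IsSubsystemOf D' := fun _ φ hφ => by
  refine mem_of_isMap ?_ fun x => (toFn_coe φ x).symm
  have := finite_of_le hRS
  have hRp : IsPGroup p R := h.pgroup.to_le hRS
  have hn : (H.subgroupOf R).Normal := ⟨fun x hx g => h.conj_T (hRS g.2) hx⟩
  have hD : PSys D p E₁ :=
    ⟨hRp, hs, FusionPIndex.isNormalIn_pPowerIndex hRp hs hHR hn hi.2.1 h.esat hi⟩
  have hD' : PSys D' p E₁ :=
    ⟨hRp, hs', FusionPIndex.isNormalIn_pPowerIndex hRp hs' hHR hn hi'.2.1 h.esat hi'⟩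
  refine FusionChain.alperin_induction hRp hs (fun P f => IsMap D' P f)
    (fun _ _ _ _ hf e => hf.congr e) (fun _ _ _ _ hle hf => hf.mono hle)
    (fun _ _ _ _ _ _ hm hf hg => hf.comp hg hm) ?_ (isMap_toFn hφ)
  intro W hW hWc hWr α hα _
  have hWR := hW.1
  have := finite_mulAut (S := R) hWR
  refine (mem_autGroup_iff hWR).1 (FusionNormal.autGroup_le_of_sylow_pResidual (H := D'.autGroup W)
    (isFullyAutomized_iff.1 (fullyAutomized_of_fullyNormalized hRp hs hW)).2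
    (autInducedBy_le_autGroup _ le_rfl hWR) (fun g hg hgc => ?_) hα)
  -- an element of order prime to `p`
  set X := W ⊓ H
  have hXc : E₁.IsCentric X := hD.inH_of_radical hWc hWr
  have hXH : X ≤ H := inf_le_right
  have hXW : X ≤ W := inf_le_left
  have hdisp : ∀ x ∈ W, x⁻¹ * autFn g x ∈ H := fun x hx =>
    hi.2.1 (FusionChain.inv_mul_autFn_mem_hyperfocal hWR hg
      (FusionChain.mem_pResidual_of_coprime hg hgc) hx)
  obtain ⟨b, hb, hbe, hbo⟩ := FusionInner.exists_restrict hWR hXW hg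
    fun x hx => (hD.iso_inf (isIso_autFn hWR hg)).mem hx
  have hbp : (orderOf b).Coprime p := Nat.Coprime.coprime_dvd_left hbo hgc
  have hbE : b ∈ E₁.autGroup X := hi.2.2 X hXH (FusionNormal.mem_pResidual_map hb hbp)
  have hgF : g ∈ F.autGroup W := FusionNormal.autGroup_le_of_sub hF hWR hg
  have hgA : g ∈ Ac F E₁ W :=
    ⟨hgF, hdisp, ((mem_autGroup_iff hXH).1 hbE).congr fun x hx => hbe x hx⟩
  -- move `X` to a fully normalised member of `D'`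
  obtain ⟨X₀, u, hX₀, hu, huX, -⟩ := exists_fullyNormalized_map hRp hs' (hXH.trans hHR)
  have hWN : W ≤ normalizerIn R X := fun w hw => hD.normalizer_inf (le_normalizerIn hWR hw)
  have hu' : IsMap D' W u := hu.mono hWN
  set W₀ := img u W
  have hiD : IsIso D' W W₀ u := ⟨hu', rfl⟩
  have hiF : IsIso F W W₀ u := FusionNormal.isIso_of_sub hF' hiD
  have hW₀R : W₀ ≤ R := hiD.le_right
  have hW₀S : W₀ ≤ S := hW₀R.trans hRS
  have hX₀e : W₀ ⊓ H = X₀ := (hD'.iso_inf hiD).2.symm.trans huX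
  have hX₀H : X₀ ≤ H := hX₀e ▸ inf_le_right
  have hc₀ : E₁.IsCentric X₀ :=
    FusionNormalCent.centric_of_conj hD'.inv hXc (isConj_iff.2 ⟨u, hX₀e ▸ hD'.iso_inf hiD⟩)
  set g₀ := MulAut.congr hiF.equiv g
  have hg₀ : g₀ ∈ Ac F E₁ W₀ := h.ac_congr hiF hgA
  have hg₀p : (orderOf g₀).Coprime p := ((MulAut.congr hiF.equiv).orderOf_eq g).symm ▸ hgc
  have hX₀W : X₀ ≤ W₀ := hX₀e ▸ inf_le_left
  obtain ⟨b₀, hb₀, hb₀e, hb₀o⟩ := FusionInner.exists_restrict hW₀S hX₀W hg₀.1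
    fun x hx => hX₀e ▸ (h.iso_inf (isIso_autFn hW₀S hg₀.1)).mem (hX₀e.symm ▸ hx)
  have hb₀E : b₀ ∈ E₁.autGroup X₀ :=
    (mem_autGroup_iff hX₀H).2 ((hX₀e ▸ hg₀.2.2).congr fun x hx => (hb₀e x hx).symm)
  set Z := autInducedBy W₀ X₀
  have hN₀ : ∀ w ∈ W₀, w ∈ normalizerIn R X₀ := fun w hw =>
    hX₀e ▸ hD'.normalizer_inf (le_normalizerIn hW₀R hw)
  have hm₀ : IsMap F W₀ (autFn g₀) := (mem_autGroup_iff hW₀S).1 hg₀.1
  have hconj : ∀ z ∈ Z, ∃ w ∈ W₀, (∀ x : X₀, ((z x : X₀) : Ω) = w * x * w⁻¹) ∧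
      ∀ x : X₀, (((b₀ * z * b₀⁻¹) x : X₀) : Ω) = autFn g₀ w * x * (autFn g₀ w)⁻¹ := fun z hz => by
    obtain ⟨w, hw, hwe⟩ := mem_autInducedBy_iff.1 hz
    refine ⟨w, hw, hwe, fun x => ?_⟩
    obtain ⟨x, rfl⟩ := b₀.surjective x
    rw [MulAut.mul_apply, MulAut.mul_apply, MulAut.inv_apply_self, ← autFn_apply b₀ (z x).2,
      hb₀e _ (z x).2, hwe, hm₀.map_conj hw (hX₀W x.2), ← hb₀e _ x.2, autFn_apply b₀ x.2]
  have hnZ : ∀ z ∈ Z, b₀ * z * b₀⁻¹ ∈ Z := fun z hz => by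
    obtain ⟨w, hw, -, hwe⟩ := hconj z hz
    exact mem_autInducedBy_iff.2 ⟨_, autFn_mem g₀ hw, hwe⟩
  have hcomm : ∀ z ∈ Z, z⁻¹ * (b₀ * z * b₀⁻¹) ∈ autInducedBy H X₀ := fun z hz => by
    obtain ⟨w, hw, hwe, hwe'⟩ := hconj z hz
    refine mem_autInducedBy_iff.2 ⟨w⁻¹ * autFn g₀ w, hg₀.2.1 w hw, fun x => ?_⟩
    have h1 := hwe (z⁻¹ ((b₀ * z * b₀⁻¹) x))
    rw [MulAut.apply_inv_self, hwe'] at h1
    rw [MulAut.mul_apply]
    calc ((z⁻¹ ((b₀ * z * b₀⁻¹) x) : X₀) : Ω)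
        = w⁻¹ * (w * (z⁻¹ ((b₀ * z * b₀⁻¹) x) : X₀) * w⁻¹) * w := by group
      _ = _ := by rw [← h1]; group
  set M := X₀ ⊔ NK R X₀ Z
  obtain ⟨Y, hY, hYp, hYe⟩ : ∃ Y ∈ Ac D' E₁ M, (orderOf Y).Coprime p ∧
      ∀ x ∈ X₀, autFn Y x = autFn b₀ x :=
    hD'.exists_ext hX₀ hc₀ hb₀E (Nat.Coprime.coprime_dvd_left hb₀o hg₀p) hnZ hcomm
  have hMR : M ≤ R := sup_le hX₀.1 (NK_le R X₀ Z)
  have hW₀M : W₀ ≤ M := fun w hw => Subgroup.mem_sup_right (mem_NK.2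
    ⟨hW₀R hw, normConj R X₀ ⟨w, hN₀ w hw⟩, mem_autInducedBy_iff.2 ⟨w, hw, fun _ => normConj_apply _ _⟩,
      fun _ => normConj_apply _ _⟩)
  have hYF : Y ∈ Ac F E₁ M := ⟨FusionNormal.autGroup_le_of_sub hF' hMR hY.1, hY.2.1, hY.2.2⟩
  have hc₀' : E₁.IsCentric (W₀ ⊓ H) := hX₀e.symm ▸ hc₀
  have hagree : ∀ x ∈ W₀ ⊓ H, autFn Y x = autFn g₀ x := fun x hx =>
    (hYe x (hX₀e ▸ hx)).trans (hb₀e x (hX₀e ▸ hx))
  obtain ⟨y, hy, hye, hyo⟩ := hD'.restrict_ac hMR hW₀M hY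
    (h.stable_of_agree (hMR.trans hRS) hW₀M hc₀' hYF hg₀ hagree)
  obtain ⟨z, hz, -, hze⟩ := h.exists_eq_conj hW₀S hc₀' hg₀ hg₀p
    ⟨FusionNormal.autGroup_le_of_sub hF' hW₀R hy.1, hy.2.1, hy.2.2⟩
    (Nat.Coprime.coprime_dvd_left hyo hYp)
    fun x hx => ((hye x hx.1).trans (hagree x hx)).symm
  have hm : IsMap D' W₀ (autFn g₀) := by
    have h1 : IsMap D' W₀ (fun x => z * x * z⁻¹) := Fusion.IsMap.conj hW₀R (hHR hz.2)
    exact (((mem_autGroup_iff hW₀R).1 hy.1).comp h1 fun x hx => autFn_mem y hx).congr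
      fun x hx => (hze x hx).symm
  obtain ⟨v, hv, hvl, -⟩ := hiD.symm
  refine (mem_autGroup_iff hWR).2 (((hu'.comp hm fun x hx => hiD.mem hx).comp hv.1
    fun x hx => autFn_mem g₀ (hiD.mem hx)).congr fun x hx => ?_)
  show v (autFn g₀ (u x)) = autFn g x
  rw [autFn_apply g₀ (hiD.mem hx), autFn_apply g hx,
    show ((g₀ ⟨u x, hiD.mem hx⟩ : W₀) : Ω) = u ((g ⟨x, hx⟩ : W) : Ω) from congr_apply_coe hiF g ⟨x, hx⟩,
    hvl _ (g ⟨x, hx⟩).2]

/-- Transfer of the residual data along an equality of the underlying subgroups. -/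
theorem pPowerIndex_congr {H H' : Subgroup Ω} (e : H = H') {E : FusionSystem H} {E' : FusionSystem H'}
    {D : FusionSystem R} (he : ∀ P, E.Hom P = E'.Hom P) (hi : E.HasPPowerIndexIn D p) :
    E'.HasPPowerIndexIn D p := by
  subst e
  rwa [← show E = E' from Fusion.ext_of_hom he]

theorem hom_eq_of_residual {H H' : Subgroup Ω} [Finite H] [Fact p.Prime] (e : H = H')
    {E : FusionSystem H} {E' : FusionSystem H'} {D : FusionSystem R} (hH : IsPGroup p H)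
    (hs : E.IsSaturated p) (hi : E.HasPPowerIndexIn D p) (hs' : E'.IsSaturated p)
    (hi' : E'.HasPPowerIndexIn D p) : ∀ P, E.Hom P = E'.Hom P := by
  subst e
  rw [FusionPIndex.pPowerIndex_unique hH hs hi hs' hi']
  exact fun _ => rfl

end Cfsg.Agent.FusionProdR
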